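import Cfsg.Agent.G2Amalgam.Setup
import Cfsg.Prelude.Def_Amalgam

/-!
# The amalgam data from the hypotheses on `A₁`, `A₂`
-/

set_option autoImplicit false

namespace CfsgLib.G2Amalgam

attribute [local instance] fact_three'

/-- One side from its hypotheses. -/
theorem exists_side {G : Type*} [Group G] [Finite G] {A Q Z D : Subgroup G} (hQA : Q ≤ A)
    (hcard : Nat.card Q = 3 ^ 5) [hn : (Q.subgroupOf A).Normal]
    (e : ↥A ⧸ Q.subgroupOf A ≃* GL (Fin 2) (ZMod 3))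
    (hZ : Z = Q ⊓ Subgroup.centralizer (Q : Set G)) (hD : D = ⁅Q, Q⁆)
    (hmod : (Z.subgroupOf Q).index = 9 ∧ D ≤ Z ∧ (D.subgroupOf Z).index = 9 ∧
      (∀ a ∈ A, a ∈ Q ↔ ∀ x ∈ Q, a * x * a⁻¹ * x⁻¹ ∈ Z) ∧
      (∀ a ∈ A, a ∈ Q ↔ ∀ z ∈ Z, a * z * a⁻¹ * z⁻¹ ∈ D))
    (hN : Subgroup.normalizer (D : Set G) = A) : ∃ s : Side G, s.A = A := by
  obtain ⟨hi1, hDZ, hi2, hk1, hk2⟩ := hmod
  have hZQ : Z ≤ Q := hZ.le.trans inf_le_left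
  have hAQ : A ≤ Subgroup.normalizer (Q : Set G) :=
    (Subgroup.normal_subgroupOf_iff_le_normalizer hQA).1 hn
  have hAD : A ≤ Subgroup.normalizer (D : Set G) := hN.ge
  have hAZ : A ≤ Subgroup.normalizer (Z : Set G) := by
    intro a ha
    refine Subgroup.mem_normalizer_fintype fun z hz => ?_
    rw [SetLike.mem_coe, hZ, Subgroup.mem_inf, Subgroup.mem_centralizer_iff] at hz ⊢
    refine ⟨conj_mem_norm (hAQ ha) hz.1, fun q hq => ?_⟩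
    have h1 := hz.2 _ (conj_mem_norm (hAQ (A.inv_mem ha)) hq)
    rw [inv_inv] at h1
    calc q * (a * z * a⁻¹) = a * (a⁻¹ * q * a * z) * a⁻¹ := by group
      _ = a * (z * (a⁻¹ * q * a)) * a⁻¹ := by rw [h1]
      _ = a * z * a⁻¹ * q := by group
  have hcA : Nat.card A = 11664 := by
    rw [Subgroup.card_eq_card_quotient_mul_card_subgroup (Q.subgroupOf A), Nat.card_congr e.toEquiv,
      card_gl, Nat.card_congr (Subgroup.subgroupOfEquivOfLe hQA).toEquiv, hcard]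
    norm_num
  have hcZ : Nat.card Z = 27 := by
    have h := Subgroup.card_mul_index (Z.subgroupOf Q)
    rw [Nat.card_congr (Subgroup.subgroupOfEquivOfLe hZQ).toEquiv, hi1, hcard] at h
    omega
  have hcD : Nat.card D = 3 := by
    have h := Subgroup.card_mul_index (D.subgroupOf Z)
    rw [Nat.card_congr (Subgroup.subgroupOfEquivOfLe hDZ).toEquiv, hi2, hcZ] at h
    omega
  obtain ⟨P⟩ := exists_mod A Q Q Z hQA hZQ hAQ hAZ hi1 e hk1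
  obtain ⟨S⟩ := exists_mod A Q Z D (hZQ.trans hQA) hDZ hAZ hAD hi2 e hk2
  refine ⟨{ A := A, Q := Q, Z := Z, D := D, Q_le := hQA, Z_le := hZQ, D_le := hDZ, card_A := hcA
            card_Q := hcard.trans (by norm_num), card_Z := hcZ, card_D := hcD, norm_Q := hAQ, norm_D := hN
            Z_mem := fun z => ?_, comm_mem := fun x hx y hy => ?_, P := P, S := S }, rfl⟩
  · rw [hZ, Subgroup.mem_inf, Subgroup.mem_centralizer_iff]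
    exact and_congr_right fun _ => ⟨fun h q hq => (h q hq).symm, fun h q hq => (h q hq).symm⟩
  · rw [hD]
    exact Subgroup.commutator_mem_commutator hx hy

/-- The amalgam data from the hypotheses of the recognition theorem. -/
theorem exists_setup {G : Type*} [Group G] [Finite G]
    (A₁ A₂ : Subgroup G) (hnc : ∀ g : G, A₁.map (MulAut.conj g).toMonoidHom ≠ A₂)
    (hSyl₁ : ¬ 3 ∣ ((A₁ ⊓ A₂).subgroupOf A₁).index)
    (Q₁ Q₂ : Subgroup G) (hQ₁ : Q₁ = Cfsg.pCoreOf 3 A₁) (hQ₂ : Q₂ = Cfsg.pCoreOf 3 A₂)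
    (hcard₁ : Nat.card Q₁ = 3 ^ 5) (hcard₂ : Nat.card Q₂ = 3 ^ 5)
    [h₁ : (Q₁.subgroupOf A₁).Normal] [h₂ : (Q₂.subgroupOf A₂).Normal]
    (e₁ : ↥A₁ ⧸ Q₁.subgroupOf A₁ ≃* GL (Fin 2) (ZMod 3)) (e₂ : ↥A₂ ⧸ Q₂.subgroupOf A₂ ≃* GL (Fin 2) (ZMod 3))
    (Z₁ Z₂ : Subgroup G) (hZ₁ : Z₁ = Q₁ ⊓ Subgroup.centralizer (Q₁ : Set G))
    (hZ₂ : Z₂ = Q₂ ⊓ Subgroup.centralizer (Q₂ : Set G))
    (D₁ D₂ : Subgroup G) (hD₁ : D₁ = ⁅Q₁, Q₁⁆) (hD₂ : D₂ = ⁅Q₂, Q₂⁆)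
    (hmod₁ : (Z₁.subgroupOf Q₁).index = 9 ∧ D₁ ≤ Z₁ ∧ (D₁.subgroupOf Z₁).index = 9 ∧
      (∀ a ∈ A₁, a ∈ Q₁ ↔ ∀ x ∈ Q₁, a * x * a⁻¹ * x⁻¹ ∈ Z₁) ∧
      (∀ a ∈ A₁, a ∈ Q₁ ↔ ∀ z ∈ Z₁, a * z * a⁻¹ * z⁻¹ ∈ D₁))
    (hmod₂ : (Z₂.subgroupOf Q₂).index = 9 ∧ D₂ ≤ Z₂ ∧ (D₂.subgroupOf Z₂).index = 9 ∧
      (∀ a ∈ A₂, a ∈ Q₂ ↔ ∀ x ∈ Q₂, a * x * a⁻¹ * x⁻¹ ∈ Z₂) ∧
      (∀ a ∈ A₂, a ∈ Q₂ ↔ ∀ z ∈ Z₂, a * z * a⁻¹ * z⁻¹ ∈ D₂))
    (hN₁ : Subgroup.normalizer (D₁ : Set G) = A₁) (hN₂ : Subgroup.normalizer (D₂ : Set G) = A₂) :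
    Nonempty (Setup G) := by
  obtain ⟨s₁, e1⟩ := exists_side (hQ₁.le.trans (Subgroup.map_subtype_le _)) hcard₁ e₁ hZ₁ hD₁ hmod₁ hN₁
  obtain ⟨s₂, e2⟩ := exists_side (hQ₂.le.trans (Subgroup.map_subtype_le _)) hcard₂ e₂ hZ₂ hD₂ hmod₂ hN₂
  have h := Subgroup.card_mul_index ((A₁ ⊓ A₂).subgroupOf A₁)
  rw [Nat.card_congr (Subgroup.subgroupOfEquivOfLe (inf_le_left : A₁ ⊓ A₂ ≤ A₁)).toEquiv,
    (e1 ▸ s₁.card_A : Nat.card A₁ = 11664)] at h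
  have hd : 3 ^ 6 ∣ Nat.card ↥(A₁ ⊓ A₂) :=
    (Nat.Coprime.pow_left 6 ((Nat.Prime.coprime_iff_not_dvd Nat.prime_three).2 hSyl₁)).dvd_of_dvd_mul_right
      (h.symm ▸ by norm_num)
  obtain ⟨U, hU⟩ := Sylow.exists_subgroup_card_pow_prime 3 hd
  exact ⟨{ one := s₁, two := s₂, U := U.map (A₁ ⊓ A₂).subtype
           U_le₁ := by rw [e1]; exact (Subgroup.map_subtype_le _).trans inf_le_left
           U_le₂ := by rw [e2]; exact (Subgroup.map_subtype_le _).trans inf_le_right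
           card_U := by
             rw [Subgroup.card_map_of_injective (Subgroup.subtype_injective _), hU]
             norm_num
           hnc := fun g => by rw [e1, e2]; exact hnc g }⟩

end CfsgLib.G2Amalgam
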