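import Mathlib.GroupTheory.Transfer
import Mathlib.GroupTheory.Sylow
import Mathlib.GroupTheory.Nilpotent
import Mathlib.GroupTheory.PGroup

/-!
# Sylow subgroups recognised by their normalisers; normal complements
-/

set_option autoImplicit false

namespace CfsgLib.G2Amalgam

variable {X : Type*} [Group X] [Finite X]

/-- A `p`-subgroup containing all `p`-elements of its normaliser is a Sylow subgroup. -/
theorem exists_sylow_eq {p : ℕ} [Fact p.Prime] {P : Subgroup X} (hP : IsPGroup p P)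
    (hN : ∀ x ∈ Subgroup.normalizer (P : Set X), (∃ k : ℕ, x ^ (p ^ k) = 1) → x ∈ P) :
    ∃ S : Sylow p X, (S : Subgroup X) = P := by
  obtain ⟨S, hS⟩ := hP.exists_le_sylow
  refine ⟨S, ?_⟩
  by_contra hne
  haveI : Group.IsNilpotent (S : Subgroup X) := S.isPGroup'.isNilpotent
  have hlt : P.subgroupOf (S : Subgroup X) < ⊤ := lt_top_iff_ne_top.2 fun h =>
    hne (le_antisymm (Subgroup.subgroupOf_eq_top.1 h) hS)
  obtain ⟨y, hy, hy'⟩ := SetLike.exists_of_lt (Group.normalizerCondition_of_isNilpotent _ hlt)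
  refine hy' (Subgroup.mem_subgroupOf.2 (hN y ?_ ?_))
  · refine Subgroup.mem_normalizer_fintype fun z hz => ?_
    exact Subgroup.mem_subgroupOf.1 ((Subgroup.mem_normalizer_iff.1 hy ⟨z, hS hz⟩).1
      (Subgroup.mem_subgroupOf.2 hz))
  · obtain ⟨k, hk⟩ := S.isPGroup' y
    exact ⟨k, by rw [← Subgroup.coe_pow, hk, Subgroup.coe_one]⟩

/-- Burnside: a `p`-subgroup central in its normaliser which is Sylow has a normal complement. -/
theorem exists_normal_complement {p : ℕ} [Fact p.Prime] {P : Subgroup X} (hP : IsPGroup p P)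
    (hN : ∀ x ∈ Subgroup.normalizer (P : Set X), (∃ k : ℕ, x ^ (p ^ k) = 1) → x ∈ P)
    (hNC : Subgroup.normalizer (P : Set X) ≤ Subgroup.centralizer (P : Set X)) :
    ∃ M : Subgroup X, M.Normal ∧ ¬ p ∣ Nat.card M ∧ M ⊓ P = ⊥ ∧ M ⊔ P = ⊤ := by
  obtain ⟨S, hS⟩ := exists_sylow_eq hP hN
  have hNC' : Subgroup.normalizer ((S : Subgroup X) : Set X) ≤
      Subgroup.centralizer ((S : Subgroup X) : Set X) := by rw [hS]; exact hNC
  have hc := MonoidHom.ker_transferSylow_isComplement' S hNC'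
  refine ⟨(MonoidHom.transferSylow S hNC').ker, inferInstance, ?_, by rw [← hS]; exact hc.disjoint.eq_bot,
    by rw [← hS]; exact hc.sup_eq_top⟩
  rw [← hc.index_eq_card]
  exact S.not_dvd_index

end CfsgLib.G2Amalgam
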