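import Cfsg.Agent.Characters.Generalized
import Cfsg.Agent.SylowThreeNine.Values
import Mathlib.GroupTheory.SpecificGroups.Dihedral
import Mathlib.GroupTheory.NoncommCoprod

/-!
# Signed irreducible characters, columns, and induction from sets of trivial intersection
-/

set_option autoImplicit false
set_option linter.style.haveILetI false
set_option linter.unusedSectionVars false

open scoped ComplexConjugate

namespace CfsgLib.G2Amalgam

open CfsgLib.Characters

universe u

variable {G : Type u} [Group G] [Fintype G]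

/-- A generalised character of norm one. -/
def SIrr (θ : G → ℂ) : Prop :=
  Cfsg.IsGeneralizedCharacter G θ ∧ Cfsg.classInner θ θ = 1

theorem SIrr.of_irr {χ : G → ℂ} (h : Cfsg.IsIrrCharacter G χ) : SIrr χ :=
  ⟨isGen_of_isIrr h, classInner_isIrr_self h⟩

theorem SIrr.one : SIrr (fun _ : G => (1 : ℂ)) := .of_irr isIrr_one

theorem SIrr.neg {θ : G → ℂ} (h : SIrr θ) : SIrr (-θ) :=
  ⟨isGen_neg h.1, by rw [show -θ = (-1 : ℂ) • θ by simp, classInner_smul_left, classInner_smul_right]
                     simp [h.2]⟩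

theorem SIrr.exists_eq {θ : G → ℂ} (h : SIrr θ) :
    ∃ (χ : Cfsg.IrrCharacter G) (ε : ℤ), (ε = 1 ∨ ε = -1) ∧ θ = (ε : ℂ) • (χ : G → ℂ) := by
  rcases gen_norm_one h.1 h.2 with h' | h'
  · exact ⟨⟨θ, h'⟩, 1, Or.inl rfl, by simp⟩
  · exact ⟨⟨-θ, h'⟩, -1, Or.inr rfl, by simp⟩

theorem SIrr.one_ne_zero {θ : G → ℂ} (h : SIrr θ) : θ 1 ≠ 0 := by
  obtain ⟨χ, ε, hε, rfl⟩ := h.exists_eq
  obtain ⟨n, hn, hd⟩ := exists_degree_pos χ.2
  rcases hε with rfl | rfl <;> simp [hd, hn.ne']

/-- The inner product of two signed irreducible characters. -/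
theorem SIrr.inner_cases {a b : G → ℂ} (ha : SIrr a) (hb : SIrr b) :
    Cfsg.classInner a b = 0 ∨ (Cfsg.classInner a b = 1 ∧ a = b) ∨
      (Cfsg.classInner a b = -1 ∧ a = -b) := by
  obtain ⟨χ, ε, hε, rfl⟩ := ha.exists_eq
  obtain ⟨ψ, δ, hδ, rfl⟩ := hb.exists_eq
  rw [classInner_smul_left, classInner_smul_right]
  by_cases h : χ = ψ
  · subst h
    rw [classInner_isIrr_self χ.2]
    rcases hε with rfl | rfl <;> rcases hδ with rfl | rfl <;> simp
  · refine Or.inl ?_
    rw [classInner_isIrr_ne χ.2 ψ.2 fun e => h (Subtype.ext e)]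
    simp

/-- Multiplicity of a signed irreducible character in a generalised character of norm two. -/
theorem SIrr.inner_norm2 {a θ : G → ℂ} (ha : SIrr a) (hg : Cfsg.IsGeneralizedCharacter G θ)
    (h2 : Cfsg.classInner θ θ = 2) :
    Cfsg.classInner a θ = 0 ∨ Cfsg.classInner a θ = 1 ∨ Cfsg.classInner a θ = -1 := by
  obtain ⟨χ, ε, hε, rfl⟩ := ha.exists_eq
  obtain ⟨m, -, hm⟩ := exists_int_coeff hg
  have hs : ∑ χ, m χ ^ 2 = 2 := by
    have := (classInner_self_eq_sum_sq (isClassFunction_of_isGen hg) m hm).symm.trans h2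
    exact_mod_cast this
  have hle : m χ ^ 2 ≤ 2 := hs ▸ Finset.single_le_sum (f := fun χ => m χ ^ 2)
    (fun _ _ => sq_nonneg _) (Finset.mem_univ χ)
  have h1 : -1 ≤ m χ := by nlinarith
  have h1' : m χ ≤ 1 := by nlinarith
  have hθ : Cfsg.classInner (χ : G → ℂ) θ = (m χ : ℂ) := by
    rw [classInner_conj_symm, hm]
    simp
  rw [classInner_smul_left, hθ]
  rcases hε with rfl | rfl <;> interval_cases (m χ) <;> simp

/-- A generalised character of norm two is a sum of two signed irreducible characters. -/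
theorem exists_split {θ : G → ℂ} (hg : Cfsg.IsGeneralizedCharacter G θ)
    (h2 : Cfsg.classInner θ θ = 2) :
    ∃ a b : G → ℂ, SIrr a ∧ SIrr b ∧ Cfsg.classInner a b = 0 ∧ θ = a + b := by
  obtain ⟨m, hθ, hm⟩ := exists_int_coeff hg
  have hs : ∑ χ, m χ ^ 2 = 2 := by
    have := (classInner_self_eq_sum_sq (isClassFunction_of_isGen hg) m hm).symm.trans h2
    exact_mod_cast this
  obtain ⟨χ, -, hχ⟩ := Finset.exists_ne_zero_of_sum_ne_zero (hs.trans_ne two_ne_zero)
  set a : G → ℂ := (m χ : ℂ) • (χ : G → ℂ) with ha'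
  have hle : m χ ^ 2 ≤ 2 := hs ▸ Finset.single_le_sum (f := fun χ => m χ ^ 2)
    (fun _ _ => sq_nonneg _) (Finset.mem_univ χ)
  have h1 : -1 ≤ m χ := by nlinarith
  have h1' : m χ ≤ 1 := by nlinarith
  have hsq : (m χ : ℂ) * (m χ : ℂ) = 1 := by
    interval_cases (m χ) <;> simp at hχ ⊢
  have ha : SIrr a := ⟨isGen_zsmul (isGen_of_isIrr χ.2) _, by
    rw [ha', classInner_smul_left, classInner_smul_right, classInner_isIrr_self χ.2,
      map_intCast, mul_one, hsq]⟩
  have haθ : Cfsg.classInner a θ = 1 := by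
    rw [ha', classInner_smul_left, classInner_conj_symm, hm, map_intCast, hsq]
  have hθa : Cfsg.classInner θ a = 1 := by rw [classInner_conj_symm, haθ, map_one]
  refine ⟨a, θ - a, ha, ⟨isGen_sub hg ha.1, ?_⟩, ?_, (add_sub_cancel a θ).symm⟩
  · rw [classInner_sub_left, classInner_sub_right, classInner_sub_right, h2, haθ, hθa, ha.2]
    norm_num
  · rw [classInner_sub_right, haθ, ha.2, sub_self]

/-- Two generalised characters of norm two with inner product one have one common constituent. -/
theorem exists_share {θ η : G → ℂ} (hθ : Cfsg.IsGeneralizedCharacter G θ)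
    (hη : Cfsg.IsGeneralizedCharacter G η) (hθ2 : Cfsg.classInner θ θ = 2)
    (hη2 : Cfsg.classInner η η = 2) (h1 : Cfsg.classInner θ η = 1) :
    ∃ a b c : G → ℂ, SIrr a ∧ SIrr b ∧ SIrr c ∧ Cfsg.classInner a b = 0 ∧
      Cfsg.classInner a c = 0 ∧ Cfsg.classInner b c = 0 ∧ θ = a + b ∧ η = a + c := by
  obtain ⟨a, b, ha, hb, hab, rfl⟩ := exists_split hθ hθ2
  have key : ∀ a b : G → ℂ, SIrr a → SIrr b → Cfsg.classInner a b = 0 →
      Cfsg.classInner a η = 1 → Cfsg.classInner b η = 0 →
      ∃ a' b' c : G → ℂ, SIrr a' ∧ SIrr b' ∧ SIrr c ∧ Cfsg.classInner a' b' = 0 ∧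
        Cfsg.classInner a' c = 0 ∧ Cfsg.classInner b' c = 0 ∧ a + b = a' + b' ∧ η = a' + c := by
    intro a b ha hb hab e1 e2
    have hba : Cfsg.classInner b a = 0 := by rw [classInner_conj_symm, hab, map_zero]
    have e1' : Cfsg.classInner η a = 1 := by rw [classInner_conj_symm, e1, map_one]
    refine ⟨a, b, η - a, ha, hb, ⟨isGen_sub hη ha.1, ?_⟩, hab, ?_, ?_, rfl, (add_sub_cancel a η).symm⟩
    · rw [classInner_sub_left, classInner_sub_right, classInner_sub_right, hη2, e1, e1', ha.2]
      norm_num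
    · rw [classInner_sub_right, e1, ha.2, sub_self]
    · rw [classInner_sub_right, e2, hba, sub_self]
  have hsum : Cfsg.classInner a η + Cfsg.classInner b η = 1 := by rw [← classInner_add_left, h1]
  rcases ha.inner_norm2 hη hη2 with e | e | e
  · obtain ⟨a', b', c, h⟩ := key b a hb ha (by rw [classInner_conj_symm, hab, map_zero])
      (by rw [← hsum, e, zero_add]) e
    exact ⟨a', b', c, by rw [add_comm a b]; exact h⟩
  · exact key a b ha hb hab e (by rw [e] at hsum; linear_combination hsum)
  · rcases hb.inner_norm2 hη hη2 with e' | e' | e' <;> rw [e, e'] at hsum <;> norm_num at hsum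

/-- A signed irreducible character orthogonal to a sum of two is orthogonal to both. -/
theorem SIrr.orth_pair {e a b : G → ℂ} (he : SIrr e) (ha : SIrr a) (hb : SIrr b)
    (hab : Cfsg.classInner a b = 0) (h : Cfsg.classInner e (a + b) = 0) :
    Cfsg.classInner e a = 0 ∧ Cfsg.classInner e b = 0 := by
  rw [classInner_add_right] at h
  rcases he.inner_cases ha with e1 | ⟨e1, rfl⟩ | ⟨e1, rfl⟩
  · exact ⟨e1, by rwa [e1, zero_add] at h⟩
  · rw [hab, add_zero] at h
    exact ⟨h, hab⟩
  · rw [e1, show -a = (-1 : ℂ) • a by simp, classInner_smul_left, hab, mul_zero, add_zero] at h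
    norm_num at h

/-- A value equal to the degree is taken only on the kernel. -/
theorem SIrr.kernel_mul {a : G → ℂ} (ha : SIrr a) {x : G} (hx : a x = a 1) (y : G) :
    a (y * x) = a y := by
  obtain ⟨χ, ε, hε, rfl⟩ := ha.exists_eq
  have hε0 : (ε : ℂ) ≠ 0 := by rcases hε with rfl | rfl <;> simp
  simp only [Pi.smul_apply, smul_eq_mul, mul_right_inj' hε0] at hx ⊢
  obtain ⟨n, ρ, hρ⟩ := isCharacter_of_isIrr χ.2
  rw [← hρ] at hx ⊢
  rw [Representation.char_one] at hx
  have h := (char_eq_finrank_iff ρ x).1 hx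
  show LinearMap.trace ℂ _ (ρ (y * x)) = LinearMap.trace ℂ _ (ρ y)
  rw [map_mul, h]
  rfl

/-- The kernel, as a normal subgroup. -/
def sKer (a : G → ℂ) : Subgroup G where
  carrier := {x | ∀ y, a (y * x) = a y}
  one_mem' := fun y => by rw [mul_one]
  mul_mem' := fun {p q} hp hq y => by rw [← mul_assoc, hq, hp]
  inv_mem' := fun {p} hp y => by rw [← hp (y * p⁻¹), inv_mul_cancel_right]

theorem SIrr.sKer_normal {a : G → ℂ} (ha : SIrr a) : (sKer a).Normal := ⟨fun x hx c y => by
  have hc := isClassFunction_of_isGen ha.1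
  rw [← hc (y * (c * x * c⁻¹)) c⁻¹, show c⁻¹ * (y * (c * x * c⁻¹)) * c⁻¹⁻¹ = c⁻¹ * y * c * x by group,
    hx, show c⁻¹ * y * c = c⁻¹ * y * c⁻¹⁻¹ by rw [inv_inv], hc]⟩

theorem SIrr.val_conj {a : G → ℂ} (ha : SIrr a) {x y : G} (h : IsConj x y) : a x = a y := by
  obtain ⟨c, rfl⟩ := isConj_iff.1 h
  exact (isClassFunction_of_isGen ha.1 x c).symm

/-! ### Linear characters with values `±1` -/

open Classical in
/-- The character of a subgroup of index two. -/
noncomputable def signChar (C : Subgroup G) : G → ℂ := fun x => if x ∈ C then 1 else -1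

theorem signChar_mul {C : Subgroup G} (h : C.index = 2) (x y : G) :
    signChar C (x * y) = signChar C x * signChar C y := by
  have := Subgroup.mul_mem_iff_of_index_two h (a := x) (b := y)
  simp only [signChar]
  by_cases hx : x ∈ C <;> by_cases hy : y ∈ C <;> simp_all

theorem signChar_irr {C : Subgroup G} (h : C.index = 2) : Cfsg.IsIrrCharacter G (signChar C) := by
  have h1 : signChar C 1 = 1 := if_pos C.one_mem
  let f : G →* ℂˣ :=
    { toFun := fun x => Units.mk0 (signChar C x) (by unfold signChar; split_ifs <;> norm_num)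
      map_one' := Units.ext h1
      map_mul' := fun x y => Units.ext (signChar_mul h x y) }
  exact isIrr_linChar f

theorem signChar_sq (C : Subgroup G) (x : G) : signChar C x * signChar C x = 1 := by
  unfold signChar; split_ifs <;> norm_num

theorem signChar_conj (C : Subgroup G) (x : G) : conj (signChar C x) = signChar C x := by
  unfold signChar; split_ifs <;> simp

/-- Twisting both arguments by a sign character. -/
theorem inner_twist (C : Subgroup G) (a b : G → ℂ) :
    Cfsg.classInner (fun x => a x * signChar C x) (fun x => b x * signChar C x) =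
      Cfsg.classInner a b := by
  simp only [Cfsg.classInner]
  congr 1
  refine Finset.sum_congr rfl fun x _ => ?_
  rw [map_mul, signChar_conj]
  linear_combination (a x * conj (b x)) * signChar_sq C x

theorem inner_twist_comm (C : Subgroup G) (a b : G → ℂ) :
    Cfsg.classInner (fun x => a x * signChar C x) b =
      Cfsg.classInner a (fun x => b x * signChar C x) := by
  simp only [Cfsg.classInner]
  congr 1
  refine Finset.sum_congr rfl fun x _ => ?_
  rw [map_mul, signChar_conj]
  ring

theorem SIrr.twist {C : Subgroup G} (h : C.index = 2) {a : G → ℂ} (ha : SIrr a) :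
    SIrr (fun x => a x * signChar C x) :=
  ⟨isGen_mul ha.1 (isGen_of_isIrr (signChar_irr h)), (inner_twist C a a).trans ha.2⟩

/-- No signed irreducible character is the negative of its twist. -/
theorem SIrr.twist_ne_neg_one {C : Subgroup G} (h : C.index = 2) {a : G → ℂ} (ha : SIrr a) :
    Cfsg.classInner a (fun x => a x * signChar C x) ≠ -1 := fun h1 => by
  rcases ha.inner_cases (ha.twist h) with e | ⟨e, -⟩ | ⟨-, e⟩
  · rw [e] at h1; norm_num at h1
  · rw [e] at h1; norm_num at h1
  · have := congrFun e 1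
    rw [Pi.neg_apply, show signChar C 1 = 1 from if_pos C.one_mem, mul_one,
      eq_neg_iff_add_eq_zero, ← two_mul] at this
    exact ha.one_ne_zero ((mul_eq_zero.1 this).resolve_left two_ne_zero)

/-! ### Columns -/

/-- A full column: the class equations only involve the members of the family. -/
theorem pairs_of_column {n : ℕ} (e : Fin n → G → ℂ) (he : ∀ i, SIrr (e i))
    (horth : Pairwise fun i j => Cfsg.classInner (e i) (e j) = 0) (x : G)
    (hcol : (Nat.card (Subgroup.centralizer ({x} : Set G)) : ℝ) ≤ ∑ i, Complex.normSq (e i x))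
    (u v : G) :
    (Nat.card (Subgroup.centralizer ({u} : Set G)) : ℂ) *
      (Nat.card (Subgroup.centralizer ({v} : Set G)) : ℂ) *
      (Nat.card {w : G // IsConj u w ∧ IsConj v (w⁻¹ * x)} : ℂ) =
    (Nat.card G : ℂ) * ∑ i, conj (e i x) * (e i u * e i v / e i 1) := by
  classical
  choose χ ε hε hχ using fun i => (he i).exists_eq
  have hεq : ∀ i, (ε i : ℂ) * ε i = 1 := fun i => by rcases hε i with h | h <;> simp [h]
  have hinj : Function.Injective χ := fun i j hij => by
    by_contra hne
    have h0 : Cfsg.classInner (e i) (e j) = 0 := horth hne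
    rw [hχ i, hχ j, hij, classInner_smul_left, classInner_smul_right,
      classInner_isIrr_self (χ j).2, map_intCast, mul_one] at h0
    rcases hε i with h | h <;> rcases hε j with h' | h' <;> simp [h, h'] at h0
  set S : Finset (Cfsg.IrrCharacter G) := Finset.univ.image χ
  have hall : ∑ ψ : Cfsg.IrrCharacter G, Complex.normSq ((ψ : G → ℂ) x) =
      (Nat.card (Subgroup.centralizer ({x} : Set G)) : ℝ) := by
    have h := sum_irr_mul_conj_of_isConj (IsConj.refl x)
    simp only [Complex.mul_conj] at h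
    exact_mod_cast h
  have hin : ∑ ψ ∈ S, Complex.normSq ((ψ : G → ℂ) x) = ∑ i, Complex.normSq (e i x) := by
    rw [Finset.sum_image fun i _ j _ h => hinj h]
    refine Finset.sum_congr rfl fun i _ => ?_
    rw [hχ i, Pi.smul_apply, smul_eq_mul, map_mul]
    rcases hε i with h | h <;> simp [h]
  have hzero : ∀ ψ, ψ ∉ S → (ψ : G → ℂ) x = 0 := fun ψ hψ => by
    have h2 := Finset.sum_compl_add_sum S fun ψ => Complex.normSq ((ψ : G → ℂ) x)
    rw [hall, hin] at h2
    have h3 : Complex.normSq ((ψ : G → ℂ) x) ≤ ∑ φ ∈ Sᶜ, Complex.normSq ((φ : G → ℂ) x) :=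
      Finset.single_le_sum (f := fun φ : Cfsg.IrrCharacter G => Complex.normSq ((φ : G → ℂ) x))
        (fun _ _ => Complex.normSq_nonneg _) (Finset.mem_compl.2 hψ)
    exact Complex.normSq_eq_zero.1 (le_antisymm (by linarith) (Complex.normSq_nonneg _))
  rw [SylowThreeNine.pairs_eq, ← Finset.sum_subset (Finset.subset_univ S) (fun ψ _ hψ => by
    rw [hzero ψ hψ, map_zero, zero_mul]), Finset.sum_image fun i _ j _ h => hinj h]
  congr 1
  refine Finset.sum_congr rfl fun i _ => ?_
  obtain ⟨k, hk, hd⟩ := exists_degree_pos (χ i).2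
  rw [hχ i]
  simp only [Pi.smul_apply, smul_eq_mul, map_mul, map_intCast]
  rcases hε i with h | h <;> simp [h] <;> ring

/-- The squares of the values in a family of orthogonal signed irreducible characters. -/
theorem column_le {n : ℕ} (e : Fin n → G → ℂ) (he : ∀ i, SIrr (e i))
    (horth : Pairwise fun i j => Cfsg.classInner (e i) (e j) = 0) (x : G) :
    ∑ i, Complex.normSq (e i x) ≤ (Nat.card (Subgroup.centralizer ({x} : Set G)) : ℝ) := by
  classical
  choose χ ε hε hχ using fun i => (he i).exists_eq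
  have hinj : Function.Injective χ := fun i j hij => by
    by_contra hne
    have h0 : Cfsg.classInner (e i) (e j) = 0 := horth hne
    rw [hχ i, hχ j, hij, classInner_smul_left, classInner_smul_right,
      classInner_isIrr_self (χ j).2, map_intCast, mul_one] at h0
    rcases hε i with h | h <;> rcases hε j with h' | h' <;> simp [h, h'] at h0
  have hall : ∑ ψ : Cfsg.IrrCharacter G, Complex.normSq ((ψ : G → ℂ) x) =
      (Nat.card (Subgroup.centralizer ({x} : Set G)) : ℝ) := by
    have h := sum_irr_mul_conj_of_isConj (IsConj.refl x)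
    simp only [Complex.mul_conj] at h
    exact_mod_cast h
  rw [← hall, show ∑ i, Complex.normSq (e i x) =
    ∑ ψ ∈ Finset.univ.image χ, Complex.normSq ((ψ : G → ℂ) x) from by
      rw [Finset.sum_image fun i _ j _ h => hinj h]
      refine Finset.sum_congr rfl fun i _ => ?_
      rw [hχ i, Pi.smul_apply, smul_eq_mul, map_mul]
      rcases hε i with h | h <;> simp [h]]
  exact Finset.sum_le_sum_of_subset_of_nonneg (Finset.subset_univ _)
    fun _ _ _ => Complex.normSq_nonneg _

/-- An element of order three conjugate to its inverse has integral values. -/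
theorem SIrr.int_value {a : G → ℂ} (ha : SIrr a) {x : G} (hx : x * x * x = 1) (hx1 : x ≠ 1)
    (hinv : IsConj x x⁻¹) : ∃ z : ℤ, a x = z := by
  obtain ⟨χ, ε, -, rfl⟩ := ha.exists_eq
  obtain ⟨n, -, hn⟩ := exists_degree_pos χ.2
  obtain ⟨z, hz, -⟩ := SylowThreeNine.exists_value hx hx1 hinv χ hn
  exact ⟨ε * z, by simp [hz]⟩

/-! ### Induction -/

/-- Induction from a set of trivial intersection agrees with the function there. -/
theorem indFun_TI (N : Subgroup G) (a : N → ℂ) (ha : Cfsg.IsClassFunction N a) (x : N)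
    (hTI : ∀ (g : G) (y : N), a y ≠ 0 → g * (x : G) * g⁻¹ = y → g ∈ N) :
    Cfsg.indFun N a x = a x := by
  classical
  haveI := Fintype.ofFinite N
  rw [Cfsg.indFun]
  have hterm : ∀ g : G, Cfsg.extendByZero N a (g⁻¹ * x * g) = if g ∈ N then a x else 0 := by
    intro g
    by_cases hg : g ∈ N
    · have hm : g⁻¹ * x * g ∈ N := mul_mem (mul_mem (inv_mem hg) x.2) hg
      rw [if_pos hg, extendByZero_of_mem N a hm,
        show (⟨_, hm⟩ : N) = (⟨g, hg⟩ : N)⁻¹ * x * (⟨g, hg⟩ : N)⁻¹⁻¹ from Subtype.ext (by simp),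
        ha]
    · rw [if_neg hg]
      by_cases hm : g⁻¹ * x * g ∈ N
      · rw [extendByZero_of_mem N a hm]
        by_contra hne
        refine hg ?_
        have := inv_mem (hTI g⁻¹ ⟨_, hm⟩ hne (by rw [inv_inv]))
        rwa [inv_inv] at this
      · exact extendByZero_of_not_mem N a hm
  rw [Finset.sum_congr rfl fun g _ => hterm g, ← Finset.sum_filter, Finset.sum_const,
    nsmul_eq_mul, ← Fintype.card_subtype, ← Nat.card_eq_fintype_card, ← mul_assoc,
    inv_mul_cancel₀ (subgroup_card_ne_zero N), one_mul]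

theorem indFun_zero_of (N : Subgroup G) (a : N → ℂ) (x : G)
    (h : ∀ (g : G) (y : N), g * x * g⁻¹ = y → a y = 0) :
    Cfsg.indFun N a x = 0 := by
  classical
  rw [Cfsg.indFun, Finset.sum_eq_zero, mul_zero]
  intro g _
  by_cases hm : g⁻¹ * x * g ∈ N
  · rw [extendByZero_of_mem N a hm, h g⁻¹ ⟨_, hm⟩ (by rw [inv_inv])]
  · exact extendByZero_of_not_mem N a hm

/-- Reciprocity, with the values of the second argument known on the support of the first. -/
theorem inner_indFun (N : Subgroup G) [Fintype N] (a : N → ℂ) {θ : G → ℂ}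
    (hθ : Cfsg.IsClassFunction G θ) (b : N → ℂ) (hb : ∀ y : N, a y ≠ 0 → θ y = b y) :
    Cfsg.classInner (Cfsg.indFun N a) θ = (Nat.card N : ℂ)⁻¹ * ∑ y : N, a y * conj (b y) := by
  rw [classInner_indFun N a hθ, Cfsg.classInner]
  congr 1
  refine Finset.sum_congr rfl fun y _ => ?_
  by_cases h : a y = 0
  · simp [h]
  · rw [hb y h]

/-! ### The dihedral group of order six -/

/-- The homomorphism given by an element of order three inverted by an involution. -/
def dihHom {K : Type*} [Group K] (x s : K) (hx : x ^ 3 = 1) (hs : s * s = 1)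
    (hi : s * x * s = x⁻¹) : DihedralGroup 3 →* K where
  toFun
    | .r i => x ^ i.val
    | .sr i => s * x ^ i.val
  map_one' := show x ^ (0 : ZMod 3).val = 1 by rw [ZMod.val_zero, pow_zero]
  map_mul' := by
    have hsi : s⁻¹ = s := inv_eq_of_mul_eq_one_right hs
    have hadd : ∀ i j : ZMod 3, x ^ (i + j).val = x ^ i.val * x ^ j.val := fun i j => by
      rw [← pow_add, ZMod.val_add, ← pow_eq_pow_mod _ hx]
    have hneg : ∀ i : ZMod 3, x ^ (-i).val = (x ^ i.val)⁻¹ := fun i =>
      eq_inv_of_mul_eq_one_left (by rw [← hadd, neg_add_cancel, ZMod.val_zero, pow_zero])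
    have hpow : ∀ k : ℕ, x ^ k * s = s * (x ^ k)⁻¹ := fun k => by
      rw [← inv_pow, ← hi, show s * x * s = s * x * s⁻¹ by rw [hsi], conj_pow, hsi]
      simp only [← mul_assoc, hs, one_mul]
    rintro (i | i) (j | j)
    · exact hadd i j
    · show s * x ^ (j - i).val = x ^ i.val * (s * x ^ j.val)
      rw [sub_eq_neg_add, hadd, hneg, ← mul_assoc, ← mul_assoc, hpow]
    · show s * x ^ (i + j).val = s * x ^ i.val * x ^ j.val
      rw [hadd, mul_assoc]
    · show x ^ (j - i).val = s * x ^ i.val * (s * x ^ j.val)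
      rw [sub_eq_neg_add, hadd, hneg, mul_assoc, ← mul_assoc (x ^ i.val) s, hpow, ← mul_assoc,
        ← mul_assoc, hs, one_mul]

end CfsgLib.G2Amalgam
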