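import Cfsg.Agent.G2Amalgam.Fusion

/-!
# The amalgam of type `G₂(3)`: the elementary groups of order eight above `⟨t, a b⟩`
-/

set_option autoImplicit false
set_option linter.unusedSectionVars false
set_option linter.style.haveILetI false
set_option maxRecDepth 100000

namespace CfsgLib.G2Amalgam

open Matrix

attribute [local instance] fact_three'

variable {G : Type*} [Group G]

/-- A power of an involution. -/
def pb (x : G) (b : Bool) : G := if b then x else 1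

theorem pb_mul {x : G} (h : x * x = 1) (a b : Bool) : pb x a * pb x b = pb x (a ^^ b) := by
  cases a <;> cases b <;> simp [pb, h]

theorem pb_comm {x z : G} (h : Commute x z) (a b : Bool) : Commute (pb x a) (pb z b) := by
  cases a <;> cases b <;> simp [pb, h, Commute.one_left]

theorem mem_zpowers_invol {u x : G} (hu : u * u = 1) (hx : x ∈ Subgroup.zpowers u) :
    ∃ b : Bool, x = pb u b := by
  obtain ⟨k, rfl⟩ := Subgroup.mem_zpowers_iff.1 hx
  rcases Int.even_or_odd k with ⟨l, rfl⟩ | ⟨l, rfl⟩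
  · exact ⟨false, by rw [← two_mul, zpow_mul, zpow_two, hu, one_zpow]; rfl⟩
  · exact ⟨true, by rw [zpow_add, zpow_mul, zpow_two, hu, one_zpow, one_mul, zpow_one]; rfl⟩

theorem pb_mem {H : Subgroup G} {x : G} (hx : x ∈ H) (b : Bool) : pb x b ∈ H := by
  cases b
  · exact one_mem H
  · exact hx

namespace Setup

variable [Finite G] {c : Setup G}

namespace Frame

variable {F : c.Frame}

theorem conj_pb (ε : Bool) {w u : G} (h : Commute (w * u * w⁻¹) F.T.t) :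
    pb F.T.t ε * w * u * (pb F.T.t ε * w)⁻¹ = w * u * w⁻¹ := by
  cases ε
  · simp [pb]
  · rw [show pb F.T.t true * w * u * (pb F.T.t true * w)⁻¹ = F.T.t * (w * u * w⁻¹) * F.T.t⁻¹ by
      simp only [pb, if_true]; group, ← h.eq, mul_inv_cancel_right]

namespace Sel

variable (S : Sel F)

/-- The involution `a b`. -/
def e : G := S.a * S.b

/-- The first further involution. -/
def J : G := S.j₁ * S.j₂

/-- The second further involution. -/
def K : G := S.a * S.j₁ * S.j₂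

/-- The four group. -/
def T₀ : Subgroup G := Subgroup.zpowers F.T.t ⊔ Subgroup.zpowers S.e

/-- The group generated by the four group and `z`. -/
def El (z : G) : Subgroup G := S.T₀ ⊔ Subgroup.zpowers z

/-- An involution centralising the four group. -/
def Good (z : G) : Prop := z * z = 1 ∧ Commute z F.T.t ∧ Commute z S.e

theorem a_t : Commute S.a F.T.t := S.a_mem.1
theorem b_t : Commute S.b F.T.t := (F.mem_partY.1 S.b_mem).1
theorem j₁_t : Commute S.j₁ F.T.t := S.j₁_mem.1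
theorem j₂_t : Commute S.j₂ F.T.t := (F.mem_partY.1 S.j₂_mem).1

theorem a_ne : S.a ≠ 1 ∧ S.a ≠ F.T.t := by
  constructor <;> intro h <;> have := S.aa <;> rw [h] at this
  · exact F.t_ne (by rw [← this, one_mul])
  · exact F.t_ne (by rw [← this, F.T.tt])

variable (hc : F.Core)

include hc

theorem e_t : Commute S.e F.T.t := e₀_t hc S
theorem ee : S.e * S.e = 1 := e₀_invol hc S

theorem mem_T₀ {x : G} : x ∈ S.T₀ ↔ ∃ α β : Bool, x = pb F.T.t α * pb S.e β := by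
  have hn : Subgroup.zpowers S.e ≤ Subgroup.normalizer ((Subgroup.zpowers F.T.t : Subgroup G) : Set G) :=
    Subgroup.zpowers_le.2 (Subgroup.mem_normalizer_fintype fun v hv => by
      obtain ⟨k, rfl⟩ := Subgroup.mem_zpowers_iff.1 hv
      rw [((S.e_t hc).zpow_right k).eq, mul_inv_cancel_right]
      exact Subgroup.zpow_mem _ (Subgroup.mem_zpowers _) _)
  rw [T₀, ← SetLike.mem_coe, Subgroup.coe_mul_of_right_le_normalizer_left _ _ hn]
  constructor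
  · rintro ⟨u, hu, v, hv, rfl⟩
    obtain ⟨α, rfl⟩ := mem_zpowers_invol F.T.tt hu
    obtain ⟨β, rfl⟩ := mem_zpowers_invol (S.ee hc) hv
    exact ⟨α, β, rfl⟩
  · rintro ⟨α, β, rfl⟩
    exact ⟨_, pb_mem (Subgroup.mem_zpowers _) α, _, pb_mem (Subgroup.mem_zpowers _) β, rfl⟩

theorem t_T₀ : F.T.t ∈ S.T₀ := Subgroup.mem_sup_left (Subgroup.mem_zpowers _)
theorem e_T₀ : S.e ∈ S.T₀ := Subgroup.mem_sup_right (Subgroup.mem_zpowers _)

theorem T₀_plus : S.T₀ ≤ F.plus :=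
  sup_le (Subgroup.zpowers_le.2 F.t_plus) (Subgroup.zpowers_le.2 (e₀_plus hc S))

theorem T₀_comm {x z : G} (hx : x ∈ S.T₀) (ht : Commute z F.T.t) (he : Commute z S.e) :
    Commute z x := by
  obtain ⟨α, β, rfl⟩ := (S.mem_T₀ hc).1 hx
  cases α <;> cases β <;> simp only [pb, if_true, Bool.false_eq_true, if_false, one_mul, mul_one]
  · exact Commute.one_right z
  · exact he
  · exact ht
  · exact ht.mul_right he

theorem T₀_sq {x : G} (hx : x ∈ S.T₀) : x * x = 1 := by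
  obtain ⟨α, β, rfl⟩ := (S.mem_T₀ hc).1 hx
  rw [(pb_comm (S.e_t hc) β α).mul_mul_mul_comm (pb F.T.t α) (pb S.e β), pb_mul F.T.tt, pb_mul (S.ee hc)]
  simp [pb]

theorem a_T₀ {x : G} (hx : x ∈ S.T₀) : Commute S.a x :=
  S.T₀_comm hc hx S.a_t ((Commute.refl S.a).mul_right (comm_pY hc S.a_mem S.b_mem))

variable {z : G}

theorem mem_El (hz : S.Good z) {x : G} :
    x ∈ S.El z ↔ ∃ α β γ : Bool, x = pb F.T.t α * pb S.e β * pb z γ := by
  have hn : Subgroup.zpowers z ≤ Subgroup.normalizer (S.T₀ : Set G) :=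
    Subgroup.zpowers_le.2 (Subgroup.mem_normalizer_fintype fun v hv => by
      rwa [(S.T₀_comm hc hv hz.2.1 hz.2.2).eq, mul_inv_cancel_right])
  rw [El, ← SetLike.mem_coe, Subgroup.coe_mul_of_right_le_normalizer_left _ _ hn]
  constructor
  · rintro ⟨u, hu, v, hv, rfl⟩
    obtain ⟨α, β, rfl⟩ := (S.mem_T₀ hc).1 hu
    obtain ⟨γ, rfl⟩ := mem_zpowers_invol hz.1 hv
    exact ⟨α, β, γ, rfl⟩
  · rintro ⟨α, β, γ, rfl⟩
    exact ⟨_, (S.mem_T₀ hc).2 ⟨α, β, rfl⟩, _, pb_mem (Subgroup.mem_zpowers _) γ, rfl⟩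

theorem T₀_le_El : S.T₀ ≤ S.El z := le_sup_left

theorem self_El : z ∈ S.El z := Subgroup.mem_sup_right (Subgroup.mem_zpowers _)

theorem El_comm (hz : S.Good z) {x : G} (hx : x ∈ S.El z) :
    Commute x F.T.t ∧ Commute x S.e ∧ Commute x z := by
  obtain ⟨α, β, γ, rfl⟩ := (S.mem_El hc hz).1 hx
  have h : ∀ w, Commute F.T.t w → Commute S.e w → Commute z w →
      Commute (pb F.T.t α * pb S.e β * pb z γ) w := fun w h1 h2 h3 => by
    cases α <;> cases β <;> cases γ <;>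
      simp only [pb, if_true, Bool.false_eq_true, if_false, one_mul, mul_one] <;>
      first
        | exact Commute.one_left w
        | exact h1
        | exact h2
        | exact h3
        | exact h1.mul_left h2
        | exact h1.mul_left h3
        | exact h2.mul_left h3
        | exact (h1.mul_left h2).mul_left h3
  exact ⟨h _ (Commute.refl _) (S.e_t hc) hz.2.1, h _ (S.e_t hc).symm (Commute.refl _) hz.2.2,
    h _ hz.2.1.symm hz.2.2.symm (Commute.refl _)⟩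

theorem El_sq (hz : S.Good z) {x : G} (hx : x ∈ S.El z) : x * x = 1 := by
  obtain ⟨h1, h2, h3⟩ := S.El_comm hc hz hx
  obtain ⟨α, β, γ, rfl⟩ := (S.mem_El hc hz).1 hx
  have hT : pb F.T.t α * pb S.e β ∈ S.T₀ := (S.mem_T₀ hc).2 ⟨α, β, rfl⟩
  have hcz : Commute (pb z γ) (pb F.T.t α * pb S.e β) := by
    cases γ
    · exact Commute.one_left _
    · exact S.T₀_comm hc hT hz.2.1 hz.2.2
  rw [hcz.mul_mul_mul_comm, S.T₀_sq hc hT, pb_mul hz.1]
  simp [pb]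

theorem El_congr (hz : S.Good z) {u w : G} (hu : u ∈ S.T₀) (hw : z = u * w) : S.El z = S.El w := by
  refine le_antisymm (sup_le le_sup_left (Subgroup.zpowers_le.2 ?_))
    (sup_le le_sup_left (Subgroup.zpowers_le.2 ?_))
  · rw [hw]; exact mul_mem (Subgroup.mem_sup_left hu) (S.self_El hc)
  · rw [show w = u⁻¹ * z by rw [hw, inv_mul_cancel_left]]
    exact mul_mem (Subgroup.mem_sup_left (inv_mem hu)) (S.self_El hc)

theorem eight_inj (hz : S.Good z) (hzT : z ∉ S.T₀) {α β γ : Bool}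
    (h : pb F.T.t α * pb S.e β * pb z γ = 1) : α = false ∧ β = false ∧ γ = false := by
  cases γ
  · have he := e₀_ne hc S
    cases α <;> cases β <;> simp only [pb, if_true, Bool.false_eq_true, if_false, one_mul, mul_one] at h
    · exact ⟨rfl, rfl, rfl⟩
    · exact absurd h he.1
    · exact absurd h F.t_ne
    · exact absurd (by rw [eq_inv_of_mul_eq_one_right h, F.T.ti] : S.e = F.T.t) he.2
  · refine absurd ?_ hzT
    change _ * z = 1 at h
    rw [eq_inv_of_mul_eq_one_right h]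
    exact inv_mem ((S.mem_T₀ hc).2 ⟨α, β, rfl⟩)

theorem card_El (hz : S.Good z) (hzT : z ∉ S.T₀) : Nat.card (S.El z) = 8 := by
  rw [← show Nat.card (Bool × Bool × Bool) = 8 by simp [Nat.card_eq_fintype_card]]
  refine (Nat.card_congr (Equiv.ofBijective (fun w : Bool × Bool × Bool =>
    (⟨pb F.T.t w.1 * pb S.e w.2.1 * pb z w.2.2, (S.mem_El hc hz).2 ⟨_, _, _, rfl⟩⟩ : S.El z))
    ⟨?_, ?_⟩)).symm
  · rintro ⟨α, β, γ⟩ ⟨α', β', γ'⟩ h
    have e : pb F.T.t α * pb S.e β * pb z γ = pb F.T.t α' * pb S.e β' * pb z γ' := congrArg Subtype.val h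
    have hm : pb F.T.t α' * pb S.e β' * pb z γ' ∈ S.El z := (S.mem_El hc hz).2 ⟨_, _, _, rfl⟩
    have hcz : Commute (pb z γ) (pb F.T.t α' * pb S.e β') := by
      cases γ
      · exact Commute.one_left _
      · exact S.T₀_comm hc ((S.mem_T₀ hc).2 ⟨α', β', rfl⟩) hz.2.1 hz.2.2
    have h1 : pb F.T.t (α ^^ α') * pb S.e (β ^^ β') * pb z (γ ^^ γ') = 1 := by
      rw [← pb_mul F.T.tt, ← pb_mul (S.ee hc), ← pb_mul hz.1,
        ← (pb_comm (S.e_t hc) β α').mul_mul_mul_comm (pb F.T.t α) (pb S.e β'),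
        ← hcz.mul_mul_mul_comm (pb F.T.t α * pb S.e β) (pb z γ'), e]
      exact S.El_sq hc hz hm
    obtain ⟨ha, hb, hg⟩ := S.eight_inj hc hz hzT h1
    have hx : ∀ a b : Bool, (a ^^ b) = false → a = b := by decide
    rw [hx _ _ ha, hx _ _ hb, hx _ _ hg]
  · rintro ⟨x, hx⟩
    obtain ⟨α, β, γ, rfl⟩ := (S.mem_El hc hz).1 hx
    exact ⟨(α, β, γ), rfl⟩

/-- Elements of the quaternion group up to sign. -/
theorem part_cases {v : G} (hv : v ∈ F.T.part) :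
    ∃ ε : Bool, ∃ w, (w = 1 ∨ w = S.a ∨ w = S.j₁ ∨ w = S.a * S.j₁) ∧ v = pb F.T.t ε * w := by
  set aq : F.X := ((⟨S.a, F.part_H S.a_mem⟩ : F.H) : F.X) with haq
  set jq : F.X := ((⟨S.j₁, F.part_H S.j₁_mem⟩ : F.H) : F.X) with hjq
  have hne : ∀ {w : G} (hw : w ∈ F.T.part), w * w = F.T.t →
      ((⟨w, F.part_H hw⟩ : F.H) : F.X) ≠ 1 := by
    intro w hw hww h1
    rcases F.mem_tH ((QuotientGroup.eq_one_iff _).1 h1) with e | e <;> change w = _ at e <;> subst e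
    · exact F.t_ne (by rw [← hww, one_mul])
    · exact F.t_ne (by rw [← hww, F.T.tt])
  have haj : aq ≠ jq := by
    intro h
    have hja : S.j₁ * S.a * S.j₁⁻¹ = S.a := by
      rcases F.eq_cases h with e | e <;> change S.j₁ = _ at e <;> rw [e]
      · group
      · show S.a * F.T.t * S.a * (S.a * F.T.t)⁻¹ = S.a
        rw [show S.a * F.T.t * S.a * (S.a * F.T.t)⁻¹ = S.a * (F.T.t * S.a * F.T.t⁻¹) * S.a⁻¹ by group,
          S.a_t.symm.eq, mul_inv_cancel_right]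
        group
    rw [S.ja, F.inv_of_sq S.aa] at hja
    exact F.t_ne (mul_eq_left.1 hja)
  have key : ∀ (w : G) (hw : w ∈ F.T.part),
      ((⟨v, F.part_H hv⟩ : F.H) : F.X) = ((⟨w, F.part_H hw⟩ : F.H) : F.X) →
      ∃ ε : Bool, v = pb F.T.t ε * w := by
    intro w hw h
    rcases F.eq_cases h.symm with e | e <;> change v = _ at e
    · exact ⟨false, e.trans (one_mul w).symm⟩
    · exact ⟨true, e.trans hw.1⟩
  rcases four_group (V := F.img F.T.part) F.xframe.card_VD F.xframe.sq_VD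
    (F.mem_img.2 ⟨_, S.a_mem, rfl⟩) (F.mem_img.2 ⟨_, S.j₁_mem, rfl⟩) (hne S.a_mem S.aa)
    (hne S.j₁_mem S.j₁j₁) haj (F.mem_img.2 ⟨⟨v, F.part_H hv⟩, hv, rfl⟩) with h | h | h | h
  · obtain ⟨ε, e⟩ := key 1 (one_mem _) h
    exact ⟨ε, 1, Or.inl rfl, e⟩
  · obtain ⟨ε, e⟩ := key _ S.a_mem h
    exact ⟨ε, _, Or.inr (Or.inl rfl), e⟩
  · obtain ⟨ε, e⟩ := key _ S.j₁_mem h
    exact ⟨ε, _, Or.inr (Or.inr (Or.inl rfl)), e⟩
  · obtain ⟨ε, e⟩ := key _ (mul_mem S.a_mem S.j₁_mem) h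
    exact ⟨ε, _, Or.inr (Or.inr (Or.inr rfl)), e⟩

theorem partY_cases {v : G} (hv : v ∈ F.partY) :
    ∃ ε : Bool, ∃ w, (w = 1 ∨ w = S.b ∨ w = S.j₂ ∨ w = S.b * S.j₂) ∧ v = pb F.T.t ε * w := by
  set bq : F.X := ((⟨S.b, F.partY_H S.b_mem⟩ : F.H) : F.X) with hbq
  set jq : F.X := ((⟨S.j₂, F.partY_H S.j₂_mem⟩ : F.H) : F.X) with hjq
  have hne : ∀ {w : G} (hw : w ∈ F.partY), w * w = F.T.t →
      ((⟨w, F.partY_H hw⟩ : F.H) : F.X) ≠ 1 := by
    intro w hw hww h1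
    rcases F.mem_tH ((QuotientGroup.eq_one_iff _).1 h1) with e | e <;> change w = _ at e <;> subst e
    · exact F.t_ne (by rw [← hww, one_mul])
    · exact F.t_ne (by rw [← hww, F.T.tt])
  have hbj : bq ≠ jq := by
    intro h
    have hjb : S.j₂ * S.b * S.j₂⁻¹ = S.b := by
      rcases F.eq_cases h with e | e <;> change S.j₂ = _ at e <;> rw [e]
      · group
      · show S.b * F.T.t * S.b * (S.b * F.T.t)⁻¹ = S.b
        rw [show S.b * F.T.t * S.b * (S.b * F.T.t)⁻¹ = S.b * (F.T.t * S.b * F.T.t⁻¹) * S.b⁻¹ by group,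
          S.b_t.symm.eq, mul_inv_cancel_right]
        group
    rw [S.jb, F.inv_of_sq S.bb] at hjb
    exact F.t_ne (mul_eq_left.1 hjb)
  have key : ∀ (w : G) (hw : w ∈ F.partY),
      ((⟨v, F.partY_H hv⟩ : F.H) : F.X) = ((⟨w, F.partY_H hw⟩ : F.H) : F.X) →
      ∃ ε : Bool, v = pb F.T.t ε * w := by
    intro w hw h
    rcases F.eq_cases h.symm with e | e <;> change v = _ at e
    · exact ⟨false, e.trans (one_mul w).symm⟩
    · exact ⟨true, e.trans (F.mem_partY.1 hw).1⟩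
  rcases four_group (V := F.img F.partY) F.xframe.card_VY F.xframe.sq_VY
    (F.mem_img.2 ⟨_, S.b_mem, rfl⟩) (F.mem_img.2 ⟨_, S.j₂_mem, rfl⟩) (hne S.b_mem S.bb)
    (hne S.j₂_mem S.j₂j₂) hbj (F.mem_img.2 ⟨⟨v, F.partY_H hv⟩, hv, rfl⟩) with h | h | h | h
  · obtain ⟨ε, e⟩ := key 1 (one_mem _) h
    exact ⟨ε, 1, Or.inl rfl, e⟩
  · obtain ⟨ε, e⟩ := key _ S.b_mem h
    exact ⟨ε, _, Or.inr (Or.inl rfl), e⟩
  · obtain ⟨ε, e⟩ := key _ S.j₂_mem h
    exact ⟨ε, _, Or.inr (Or.inr (Or.inl rfl)), e⟩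
  · obtain ⟨ε, e⟩ := key _ (mul_mem S.b_mem S.j₂_mem) h
    exact ⟨ε, _, Or.inr (Or.inr (Or.inr rfl)), e⟩

theorem a_j₁ : S.a * S.j₁ = F.T.t * (S.j₁ * S.a) := by
  have h : S.j₁ * S.a = S.a⁻¹ * S.j₁ := mul_inv_eq_iff_eq_mul.1 S.ja
  rw [h, F.inv_of_sq S.aa, ← mul_assoc, ← mul_assoc, S.a_t.symm.eq, mul_assoc S.a, F.T.tt, mul_one]

theorem act_a {w : G} (hw : w = 1 ∨ w = S.a ∨ w = S.j₁ ∨ w = S.a * S.j₁) :
    ((w = 1 ∨ w = S.a) → w * S.a * w⁻¹ = S.a) ∧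
      ((w = S.j₁ ∨ w = S.a * S.j₁) → w * S.a * w⁻¹ = S.a * F.T.t) := by
  have hja : S.j₁ * S.a * S.j₁⁻¹ = S.a * F.T.t := by rw [S.ja, F.inv_of_sq S.aa]
  refine ⟨fun h => ?_, fun h => ?_⟩
  · rcases h with rfl | rfl <;> group
  · rcases h with rfl | rfl
    · exact hja
    · rw [show S.a * S.j₁ * S.a * (S.a * S.j₁)⁻¹ = S.a * (S.j₁ * S.a * S.j₁⁻¹) * S.a⁻¹ by group, hja,
        mul_assoc S.a, (show Commute (S.a * F.T.t) S.a⁻¹ from
          ((Commute.refl S.a).mul_left S.a_t.symm).inv_right).eq, mul_inv_cancel_left]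

theorem act_b {w : G} (hw : w = 1 ∨ w = S.b ∨ w = S.j₂ ∨ w = S.b * S.j₂) :
    ((w = 1 ∨ w = S.b) → w * S.b * w⁻¹ = S.b) ∧
      ((w = S.j₂ ∨ w = S.b * S.j₂) → w * S.b * w⁻¹ = S.b * F.T.t) := by
  have hjb : S.j₂ * S.b * S.j₂⁻¹ = S.b * F.T.t := by rw [S.jb, F.inv_of_sq S.bb]
  refine ⟨fun h => ?_, fun h => ?_⟩
  · rcases h with rfl | rfl <;> group
  · rcases h with rfl | rfl
    · exact hjb
    · rw [show S.b * S.j₂ * S.b * (S.b * S.j₂)⁻¹ = S.b * (S.j₂ * S.b * S.j₂⁻¹) * S.b⁻¹ by group, hjb,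
        mul_assoc S.b, (show Commute (S.b * F.T.t) S.b⁻¹ from
          ((Commute.refl S.b).mul_left S.b_t.symm).inv_right).eq, mul_inv_cancel_left]

/-- Conjugation of `a b` by a product. -/
theorem conj_e {w₁ w₂ : G} (h₁ : w₁ ∈ F.T.part) (h₂ : w₂ ∈ F.partY) :
    w₁ * w₂ * S.e * (w₁ * w₂)⁻¹ = (w₁ * S.a * w₁⁻¹) * (w₂ * S.b * w₂⁻¹) := by
  have hca : w₂ * S.a * w₂⁻¹ = S.a := by
    rw [← (comm_pY hc S.a_mem h₂).eq, mul_inv_cancel_right]
  have hcb : ∀ u ∈ F.partY, w₁ * u * w₁⁻¹ = u := fun u hu => by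
    rw [(comm_pY hc h₁ hu).eq, mul_inv_cancel_right]
  rw [Sel.e, show w₁ * w₂ * (S.a * S.b) * (w₁ * w₂)⁻¹ =
    (w₁ * (w₂ * S.a * w₂⁻¹) * w₁⁻¹) * (w₁ * (w₂ * S.b * w₂⁻¹) * w₁⁻¹) by group, hca,
    hcb _ (mul_mem (mul_mem h₂ S.b_mem) (inv_mem h₂))]

theorem conj_e_cases {w₁ w₂ : G} (h₁ : w₁ ∈ F.T.part) (h₂ : w₂ ∈ F.partY) :
    w₁ * w₂ * S.e * (w₁ * w₂)⁻¹ = S.e ∨ w₁ * w₂ * S.e * (w₁ * w₂)⁻¹ = S.e * F.T.t := by
  obtain ⟨ε, u, hu, rfl⟩ := S.part_cases hc h₁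
  obtain ⟨η, v, hv, rfl⟩ := S.partY_cases hc h₂
  have hA : (pb F.T.t ε * u) * S.a * (pb F.T.t ε * u)⁻¹ = S.a ∨
      (pb F.T.t ε * u) * S.a * (pb F.T.t ε * u)⁻¹ = S.a * F.T.t := by
    rcases hu with h | h | h | h
    all_goals
      rcases (by tauto : (u = 1 ∨ u = S.a) ∨ (u = S.j₁ ∨ u = S.a * S.j₁)) with hu' | hu'
      · left
        rw [conj_pb (F := F) ε ((by rw [(S.act_a hc (by tauto)).1 hu']; exact S.a_t)),
          (S.act_a hc (by tauto)).1 hu']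
      · right
        rw [conj_pb (F := F) ε ((by
            rw [(S.act_a hc (by tauto)).2 hu']; exact S.a_t.mul_left (Commute.refl _))),
          (S.act_a hc (by tauto)).2 hu']
  have hB : (pb F.T.t η * v) * S.b * (pb F.T.t η * v)⁻¹ = S.b ∨
      (pb F.T.t η * v) * S.b * (pb F.T.t η * v)⁻¹ = S.b * F.T.t := by
    rcases hv with h | h | h | h
    all_goals
      rcases (by tauto : (v = 1 ∨ v = S.b) ∨ (v = S.j₂ ∨ v = S.b * S.j₂)) with hv' | hv'
      · left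
        rw [conj_pb (F := F) η ((by rw [(S.act_b hc (by tauto)).1 hv']; exact S.b_t)),
          (S.act_b hc (by tauto)).1 hv']
      · right
        rw [conj_pb (F := F) η ((by
            rw [(S.act_b hc (by tauto)).2 hv']; exact S.b_t.mul_left (Commute.refl _))),
          (S.act_b hc (by tauto)).2 hv']
  rw [S.conj_e hc h₁ h₂]
  rcases hA with e1 | e1 <;> rcases hB with e2 | e2 <;> rw [e1, e2]
  · exact Or.inl rfl
  · right; rw [Sel.e, ← mul_assoc]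
  · right; rw [Sel.e, mul_assoc S.a, ← S.b_t.eq, ← mul_assoc]
  · left
    rw [show S.a * F.T.t * (S.b * F.T.t) = S.a * (F.T.t * S.b) * F.T.t by group, ← S.b_t.eq,
      show S.a * (S.b * F.T.t) * F.T.t = S.a * S.b * (F.T.t * F.T.t) by group, F.T.tt, mul_one]
    rfl

theorem j₁_not_inverted : F.T.s * S.j₁ * F.T.s⁻¹ ≠ S.j₁⁻¹ ∧
    F.T.s * (S.a * S.j₁) * F.T.s⁻¹ ≠ (S.a * S.j₁)⁻¹ := by
  constructor
  · intro h
    refine F.T.flip_no_fix F.T.ts.symm F.T.ss F.s_δ (mul_mem S.a_mem S.j₁_mem) ?_ ?_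
    · calc S.a * S.j₁ * (S.a * S.j₁) = S.a * (S.j₁ * S.a * S.j₁⁻¹) * (S.j₁ * S.j₁) := by group
        _ = F.T.t := by rw [S.ja, mul_inv_cancel, one_mul, S.j₁j₁]
    · rw [show F.T.s * (S.a * S.j₁) * F.T.s⁻¹ = (F.T.s * S.a * F.T.s⁻¹) * (F.T.s * S.j₁ * F.T.s⁻¹) by
        group, S.sa, h, F.inv_of_sq S.aa, F.inv_of_sq S.j₁j₁,
        show S.a * F.T.t * (S.j₁ * F.T.t) = S.a * (F.T.t * S.j₁) * F.T.t by group, ← S.j₁_t.eq,
        show S.a * (S.j₁ * F.T.t) * F.T.t = S.a * S.j₁ * (F.T.t * F.T.t) by group, F.T.tt, mul_one]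
  · intro h
    refine F.T.flip_no_fix F.T.ts.symm F.T.ss F.s_δ S.j₁_mem S.j₁j₁ ?_
    rw [show F.T.s * (S.a * S.j₁) * F.T.s⁻¹ = (F.T.s * S.a * F.T.s⁻¹) * (F.T.s * S.j₁ * F.T.s⁻¹) by
      group, S.sa, inv_mul_eq_iff_eq_mul] at h
    rw [h, S.a_j₁ hc, _root_.mul_inv_rev, _root_.mul_inv_rev, F.inv_of_sq S.j₁j₁, F.T.ti,
      mul_assoc S.a⁻¹, mul_inv_cancel_left, mul_assoc, F.T.tt, mul_one]

theorem j₂_not_inverted : F.T.s * S.j₂ * F.T.s⁻¹ ≠ S.j₂⁻¹ ∧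
    F.T.s * (S.b * S.j₂) * F.T.s⁻¹ ≠ (S.b * S.j₂)⁻¹ := by
  have hbj : S.b * S.j₂ = F.T.t * (S.j₂ * S.b) := by
    have h : S.j₂ * S.b = S.b⁻¹ * S.j₂ := mul_inv_eq_iff_eq_mul.1 S.jb
    rw [h, F.inv_of_sq S.bb, ← mul_assoc, ← mul_assoc, S.b_t.symm.eq, mul_assoc S.b, F.T.tt, mul_one]
  constructor
  · intro h
    refine F.partY_no_fix (mul_mem S.b_mem S.j₂_mem) ?_ ?_
    · calc S.b * S.j₂ * (S.b * S.j₂) = S.b * (S.j₂ * S.b * S.j₂⁻¹) * (S.j₂ * S.j₂) := by group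
        _ = F.T.t := by rw [S.jb, mul_inv_cancel, one_mul, S.j₂j₂]
    · rw [show F.T.s * (S.b * S.j₂) * F.T.s⁻¹ = (F.T.s * S.b * F.T.s⁻¹) * (F.T.s * S.j₂ * F.T.s⁻¹) by
        group, S.sb, h, F.inv_of_sq S.bb, F.inv_of_sq S.j₂j₂,
        show S.b * F.T.t * (S.j₂ * F.T.t) = S.b * (F.T.t * S.j₂) * F.T.t by group, ← S.j₂_t.eq,
        show S.b * (S.j₂ * F.T.t) * F.T.t = S.b * S.j₂ * (F.T.t * F.T.t) by group, F.T.tt, mul_one]
  · intro h
    refine F.partY_no_fix S.j₂_mem S.j₂j₂ ?_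
    rw [show F.T.s * (S.b * S.j₂) * F.T.s⁻¹ = (F.T.s * S.b * F.T.s⁻¹) * (F.T.s * S.j₂ * F.T.s⁻¹) by
      group, S.sb, inv_mul_eq_iff_eq_mul] at h
    rw [h, hbj, _root_.mul_inv_rev, _root_.mul_inv_rev, F.inv_of_sq S.j₂j₂, F.T.ti,
      mul_assoc S.b⁻¹, mul_inv_cancel_left, mul_assoc, F.T.tt, mul_one]

/-- Involutions centralising the four group. -/
theorem classify (hz : S.Good z) :
    z ∈ S.T₀ ∨ ∃ u ∈ S.T₀, ∃ w, (w = S.J ∨ w = S.K ∨ w = F.T.s ∨ w = S.a * F.T.s) ∧ z = u * w := by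
  obtain ⟨hzz, hzt, hze⟩ := hz
  have hzH : z ∈ F.H := F.mem_H.2 hzt.eq
  have hcz : z * S.e * z⁻¹ = S.e := by rw [hze.eq, mul_inv_cancel_right]
  have hpT : ∀ α, pb F.T.t α ∈ S.T₀ := fun α => pb_mem (S.t_T₀ hc) α
  by_cases hp : z ∈ F.plus
  · by_cases hz1 : z = 1
    · exact Or.inl (hz1 ▸ one_mem _)
    by_cases hzt' : z = F.T.t
    · exact Or.inl (hzt' ▸ S.t_T₀ hc)
    obtain ⟨a', ha', b', hb', haa, hbb, rfl⟩ := plus_invol hc hp hzz hz1 hzt'
    rw [S.conj_e hc ha' hb'] at hcz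
    obtain ⟨ε, u, hu, rfl⟩ := S.part_cases hc ha'
    obtain ⟨η, v, hv, rfl⟩ := S.partY_cases hc hb'
    have hut : Commute u F.T.t := by
      rcases hu with rfl | rfl | rfl | rfl
      · exact Commute.one_left _
      · exact S.a_t
      · exact S.j₁_t
      · exact S.a_t.mul_left S.j₁_t
    have hE : pb F.T.t ε * u * (pb F.T.t η * v) = pb F.T.t (ε ^^ η) * (u * v) := by
      rw [← pb_mul F.T.tt]
      cases η
      · simp [pb, mul_assoc]
      · simp only [pb, if_true]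
        rw [show (if ε = true then F.T.t else 1) * u * (F.T.t * v) =
          (if ε = true then F.T.t else 1) * (u * F.T.t) * v by group, hut.eq]
        group
    have hpb1 : ∀ α, pb F.T.t α * 1 * (pb F.T.t α * 1) ≠ F.T.t := fun α h => by
      cases α
      · exact F.t_ne (by simpa [pb] using h.symm)
      · exact F.t_ne (by rw [← h]; simp [pb, F.T.tt])
    have hA : ∀ (hu' : u = S.j₁ ∨ u = S.a * S.j₁),
        pb F.T.t ε * u * S.a * (pb F.T.t ε * u)⁻¹ = S.a * F.T.t := fun hu' => by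
      rw [conj_pb (F := F) ε ((by
          rw [(S.act_a hc hu).2 hu']; exact S.a_t.mul_left (Commute.refl _))),
        (S.act_a hc hu).2 hu']
    have hA0 : u = S.a → pb F.T.t ε * u * S.a * (pb F.T.t ε * u)⁻¹ = S.a := fun hu' => by
      rw [conj_pb (F := F) ε ((by
          rw [(S.act_a hc hu).1 (Or.inr hu')]; exact S.a_t)),
        (S.act_a hc hu).1 (Or.inr hu')]
    have hB : ∀ (hv' : v = S.j₂ ∨ v = S.b * S.j₂),
        pb F.T.t η * v * S.b * (pb F.T.t η * v)⁻¹ = S.b * F.T.t := fun hv' => by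
      rw [conj_pb (F := F) η ((by
          rw [(S.act_b hc hv).2 hv']; exact S.b_t.mul_left (Commute.refl _))),
        (S.act_b hc hv).2 hv']
    have hB0 : v = S.b → pb F.T.t η * v * S.b * (pb F.T.t η * v)⁻¹ = S.b := fun hv' => by
      rw [conj_pb (F := F) η ((by
          rw [(S.act_b hc hv).1 (Or.inr hv')]; exact S.b_t)),
        (S.act_b hc hv).1 (Or.inr hv')]
    have hmix1 : S.a * (S.b * F.T.t) ≠ S.e := fun h => F.t_ne (by
      rw [← mul_assoc] at h; exact mul_eq_left.1 h)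
    have hmix2 : S.a * F.T.t * S.b ≠ S.e := fun h => F.t_ne (by
      rw [mul_assoc S.a, ← S.b_t.eq, ← mul_assoc] at h; exact mul_eq_left.1 h)
    rcases hu with hu | hu | hu | hu
    · exact absurd (hu ▸ haa) (hpb1 ε)
    · rcases hv with hv | hv | hv | hv
      · exact absurd (hv ▸ hbb) (hpb1 η)
      · left
        rw [hE, hu, hv]
        exact mul_mem (hpT _) (S.e_T₀ hc)
      · rw [hA0 hu, hB (Or.inl hv)] at hcz; exact absurd hcz hmix1
      · rw [hA0 hu, hB (Or.inr hv)] at hcz; exact absurd hcz hmix1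
    · rcases hv with hv | hv | hv | hv
      · exact absurd (hv ▸ hbb) (hpb1 η)
      · rw [hA (Or.inl hu), hB0 hv] at hcz; exact absurd hcz hmix2
      · exact Or.inr ⟨_, hpT _, S.J, Or.inl rfl, by rw [hE, hu, hv]; rfl⟩
      · refine Or.inr ⟨pb F.T.t (ε ^^ η) * (S.e * F.T.t),
          mul_mem (hpT _) (mul_mem (S.e_T₀ hc) (S.t_T₀ hc)), S.K, Or.inr (Or.inl rfl), ?_⟩
        rw [hE, hu, hv, mul_assoc (pb F.T.t _)]
        congr 1
        have hbe : S.e * F.T.t * S.a = S.b := by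
          rw [mul_assoc, S.a_t.symm.eq, ← mul_assoc, Sel.e, mul_assoc S.a S.b,
            ← (comm_pY hc S.a_mem S.b_mem).eq, ← mul_assoc, S.aa, mul_assoc, S.b_t.eq,
            ← mul_assoc, F.T.tt, one_mul]
        rw [Sel.K, show S.e * F.T.t * (S.a * S.j₁ * S.j₂) = S.e * F.T.t * S.a * S.j₁ * S.j₂ by group,
          hbe, ← mul_assoc, (comm_pY hc S.j₁_mem S.b_mem).eq]
    · rcases hv with hv | hv | hv | hv
      · exact absurd (hv ▸ hbb) (hpb1 η)
      · rw [hA (Or.inr hu), hB0 hv] at hcz; exact absurd hcz hmix2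
      · exact Or.inr ⟨_, hpT _, S.K, Or.inr (Or.inl rfl), by rw [hE, hu, hv]; rfl⟩
      · refine Or.inr ⟨pb F.T.t (ε ^^ η) * S.e, mul_mem (hpT _) (S.e_T₀ hc), S.J, Or.inl rfl, ?_⟩
        rw [hE, hu, hv, mul_assoc (pb F.T.t _)]
        congr 1
        rw [Sel.J, Sel.e, show S.a * S.j₁ * (S.b * S.j₂) = S.a * (S.j₁ * S.b) * S.j₂ by group,
          (comm_pY hc S.j₁_mem S.b_mem).eq]
        group
  · obtain ⟨a', ha', b', hb', f, hf, hzs⟩ := decomp hc ((mem_H_cases hc hzH).resolve_left hp)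
    have hse : Commute F.T.s S.e := e₀_s hc S
    have hce : Commute (a' * b' * f) S.e := by
      rw [← hzs]; exact hze.mul_left hse
    have hf1 : f = 1 := by
      refine rot_fix hc hf S.a_mem S.b_mem S.aa S.bb ?_
      have e1 : f * S.e * f⁻¹ = (a' * b')⁻¹ * S.e * (a' * b')⁻¹⁻¹ := by
        calc f * S.e * f⁻¹ = (a' * b')⁻¹ * ((a' * b' * f) * S.e * (a' * b' * f)⁻¹) * (a' * b') := by
              group
          _ = _ := by rw [hce.eq, mul_inv_cancel_right, inv_inv]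
      show f * S.e * f⁻¹ = S.e ∨ f * S.e * f⁻¹ = S.e * F.T.t
      rw [e1, show (a' * b')⁻¹ = a'⁻¹ * b'⁻¹ by
        rw [(comm_pY hc ha' hb').eq, _root_.mul_inv_rev]]
      exact S.conj_e_cases hc (inv_mem ha') (inv_mem hb')
    subst hf1
    rw [mul_one] at hzs
    have hzeq : z = a' * b' * F.T.s := by rw [← hzs, mul_assoc, F.T.ss, mul_one]
    obtain ⟨h1, h2⟩ := split_inverted hc ha' hb' (hzeq ▸ hzz)
    obtain ⟨ε, u, hu, rfl⟩ := S.part_cases hc ha'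
    obtain ⟨η, v, hv, rfl⟩ := S.partY_cases hc hb'
    have hts : Commute F.T.t F.T.s := F.T.ts
    have hunfl : ∀ (α : Bool) (w : G), Commute w F.T.t →
        F.T.s * (pb F.T.t α * w) * F.T.s⁻¹ = (pb F.T.t α * w)⁻¹ → F.T.s * w * F.T.s⁻¹ = w⁻¹ := by
      intro α w hw h
      cases α
      · simpa [pb] using h
      · simp only [pb, if_true] at h
        rw [show F.T.s * (F.T.t * w) * F.T.s⁻¹ = (F.T.s * F.T.t) * w * F.T.s⁻¹ by group, ← hts.eq,
          _root_.mul_inv_rev, F.T.ti, ← hw.symm.inv_right.eq,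
          show F.T.t * F.T.s * w * F.T.s⁻¹ = F.T.t * (F.T.s * w * F.T.s⁻¹) by group] at h
        exact mul_left_cancel h
    have hu' : u = 1 ∨ u = S.a := by
      rcases hu with h | h | h | h
      · exact Or.inl h
      · exact Or.inr h
      · exact absurd (h ▸ hunfl ε u (h ▸ S.j₁_t) h1) (S.j₁_not_inverted hc).1
      · exact absurd (h ▸ hunfl ε u (h ▸ S.a_t.mul_left S.j₁_t) h1) (S.j₁_not_inverted hc).2
    have hv' : v = 1 ∨ v = S.b := by
      rcases hv with h | h | h | h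
      · exact Or.inl h
      · exact Or.inr h
      · exact absurd (h ▸ hunfl η v (h ▸ S.j₂_t) h2) (S.j₂_not_inverted hc).1
      · exact absurd (h ▸ hunfl η v (h ▸ S.b_t.mul_left S.j₂_t) h2) (S.j₂_not_inverted hc).2
    right
    have hut : Commute u F.T.t := by
      rcases hu' with rfl | rfl
      · exact Commute.one_left _
      · exact S.a_t
    have hE : pb F.T.t ε * u * (pb F.T.t η * v) * F.T.s = pb F.T.t (ε ^^ η) * (u * v * F.T.s) := by
      rw [← pb_mul F.T.tt]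
      cases η
      · simp [pb, mul_assoc]
      · simp only [pb, if_true]
        rw [show (if ε = true then F.T.t else 1) * u * (F.T.t * v) =
          (if ε = true then F.T.t else 1) * (u * F.T.t) * v by group, hut.eq]
        group
    rcases hu' with rfl | rfl <;> rcases hv' with rfl | rfl
    · exact ⟨_, hpT _, F.T.s, Or.inr (Or.inr (Or.inl rfl)), by rw [hzeq, hE, one_mul, one_mul]⟩
    · refine ⟨pb F.T.t (ε ^^ η) * (S.e * F.T.t), mul_mem (hpT _) (mul_mem (S.e_T₀ hc) (S.t_T₀ hc)),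
        S.a * F.T.s, Or.inr (Or.inr (Or.inr rfl)), ?_⟩
      rw [hzeq, hE, one_mul, mul_assoc (pb F.T.t _)]
      congr 1
      have hbe : S.e * F.T.t * S.a = S.b := by
        rw [mul_assoc, S.a_t.symm.eq, ← mul_assoc, Sel.e, mul_assoc S.a S.b,
          ← (comm_pY hc S.a_mem S.b_mem).eq, ← mul_assoc, S.aa, mul_assoc, S.b_t.eq,
          ← mul_assoc, F.T.tt, one_mul]
      rw [← mul_assoc, hbe]
    · exact ⟨_, hpT _, S.a * F.T.s, Or.inr (Or.inr (Or.inr rfl)), by rw [hzeq, hE, mul_one]⟩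
    · refine ⟨pb F.T.t (ε ^^ η) * S.e, mul_mem (hpT _) (S.e_T₀ hc), F.T.s,
        Or.inr (Or.inr (Or.inl rfl)), ?_⟩
      rw [hzeq, hE, ← mul_assoc]
      rfl

theorem Good_J : S.Good S.J := by
  refine ⟨?_, S.j₁_t.mul_left S.j₂_t, ?_⟩
  · rw [Sel.J, (comm_pY hc S.j₁_mem S.j₂_mem).symm.mul_mul_mul_comm, S.j₁j₁, S.j₂j₂, F.T.tt]
  · show S.J * S.e = S.e * S.J
    refine mul_inv_eq_iff_eq_mul.1 ?_
    rw [Sel.J, S.conj_e hc S.j₁_mem S.j₂_mem, S.ja, S.jb, F.inv_of_sq S.aa, F.inv_of_sq S.bb,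
      show S.a * F.T.t * (S.b * F.T.t) = S.a * (F.T.t * S.b) * F.T.t by group, ← S.b_t.eq,
      show S.a * (S.b * F.T.t) * F.T.t = S.a * S.b * (F.T.t * F.T.t) by group, F.T.tt, mul_one]
    rfl

theorem Good_K : S.Good S.K := by
  obtain ⟨-, hJt, hJe⟩ := S.Good_J hc
  have hK : S.K = S.a * S.J := by rw [Sel.K, Sel.J, mul_assoc]
  have hae : Commute S.a S.e := S.a_T₀ hc (S.e_T₀ hc)
  refine ⟨?_, hK ▸ S.a_t.mul_left hJt, hK ▸ hae.mul_left hJe⟩
  rw [Sel.K, ((comm_pY hc (mul_mem S.a_mem S.j₁_mem) S.j₂_mem).symm).mul_mul_mul_comm, S.j₂j₂,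
    show S.a * S.j₁ * (S.a * S.j₁) = S.a * (S.j₁ * S.a * S.j₁⁻¹) * (S.j₁ * S.j₁) by group, S.ja,
    mul_inv_cancel, one_mul, S.j₁j₁, F.T.tt]

theorem J_notT₀ : S.J ∉ S.T₀ := fun h => by
  have h1 := (S.a_T₀ hc h).eq
  have h2 : S.J * S.a * S.J⁻¹ = S.a⁻¹ := by
    rw [Sel.J, show S.j₁ * S.j₂ * S.a * (S.j₁ * S.j₂)⁻¹ = S.j₁ * (S.j₂ * S.a * S.j₂⁻¹) * S.j₁⁻¹ by group,
      ← (comm_pY hc S.a_mem S.j₂_mem).eq, mul_inv_cancel_right, S.ja]
  rw [← h1, mul_inv_cancel_right, F.inv_of_sq S.aa] at h2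
  exact F.t_ne (mul_eq_left.1 h2.symm)

theorem K_notT₀ : S.K ∉ S.T₀ := fun h => by
  have hK : S.K = S.a * S.J := by rw [Sel.K, Sel.J, mul_assoc]
  have h1 : Commute S.a (S.a * S.J) := hK ▸ S.a_T₀ hc h
  have h3 : Commute S.a S.J := by
    have := (Commute.refl S.a).inv_right.mul_right h1
    rwa [inv_mul_cancel_left] at this
  have h2 : S.J * S.a * S.J⁻¹ = S.a⁻¹ := by
    rw [Sel.J, show S.j₁ * S.j₂ * S.a * (S.j₁ * S.j₂)⁻¹ = S.j₁ * (S.j₂ * S.a * S.j₂⁻¹) * S.j₁⁻¹ by group,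
      ← (comm_pY hc S.a_mem S.j₂_mem).eq, mul_inv_cancel_right, S.ja]
  rw [← h3.eq, mul_inv_cancel_right, F.inv_of_sq S.aa] at h2
  exact F.t_ne (mul_eq_left.1 h2.symm)

theorem El_ne : S.El S.J ≠ S.El S.K := fun h => by
  have hK : S.K = S.a * S.J := by rw [Sel.K, Sel.J, mul_assoc]
  have ha : S.a ∈ S.El S.J := by
    have := mul_mem (h ▸ S.self_El hc (z := S.K) : S.K ∈ S.El S.J) (inv_mem (S.self_El hc (z := S.J)))
    rwa [hK, mul_inv_cancel_right] at this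
  have := S.El_sq hc (S.Good_J hc) ha
  rw [S.aa] at this
  exact F.t_ne this

/-- The elementary groups of order eight above the four group. -/
theorem El_cases {L : Subgroup G} (hT : S.T₀ ≤ L) (h8 : Nat.card L = 8)
    (hL : ∀ x ∈ L, x * x = 1) (hcL : ∀ x ∈ L, ∀ w ∈ L, x * w = w * x) :
    L = S.El S.J ∨ L = S.El S.K ∨ L = S.El F.T.s ∨ L = S.El (S.a * F.T.s) := by
  have hT4 : Nat.card S.T₀ ≤ 4 := by
    rw [← show Nat.card (Bool × Bool) = 4 by simp [Nat.card_eq_fintype_card]]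
    exact Nat.card_le_card_of_surjective (fun w : Bool × Bool =>
      (⟨pb F.T.t w.1 * pb S.e w.2, (S.mem_T₀ hc).2 ⟨_, _, rfl⟩⟩ : S.T₀)) fun x => by
        obtain ⟨α, β, e⟩ := (S.mem_T₀ hc).1 x.2
        exact ⟨(α, β), Subtype.ext e.symm⟩
  obtain ⟨z, hz, hzT⟩ := SetLike.not_le_iff_exists.1 (fun h : L ≤ S.T₀ => by
    have := Subgroup.card_le_of_le h
    omega)
  have hg : S.Good z := ⟨hL z hz, hcL z hz _ (hT (S.t_T₀ hc)), hcL z hz _ (hT (S.e_T₀ hc))⟩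
  obtain ⟨u, hu, w, hw, e⟩ := (S.classify hc hg).resolve_left hzT
  have hle : S.El z ≤ L := sup_le hT (Subgroup.zpowers_le.2 hz)
  have heq : S.El z = L := Subgroup.eq_of_le_of_card_ge hle (by rw [h8, S.card_El hc hg hzT])
  rw [← heq, S.El_congr hc hg hu e]
  rcases hw with rfl | rfl | rfl | rfl
  · exact Or.inl rfl
  · exact Or.inr (Or.inl rfl)
  · exact Or.inr (Or.inr (Or.inl rfl))
  · exact Or.inr (Or.inr (Or.inr rfl))

end Sel

end Frame

end Setup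

end CfsgLib.G2Amalgam
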