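import Cfsg.Agent.G2Amalgam.HBlock
import Mathlib.LinearAlgebra.Matrix.SpecialLinearGroup

/-!
# The amalgam of type `G₂(3)`: an involution inverting `δ₁` on the quaternion group
-/

set_option autoImplicit false
set_option linter.unusedSectionVars false
set_option linter.style.haveILetI false
set_option maxRecDepth 100000

namespace CfsgLib.G2Amalgam

open Matrix

attribute [local instance] fact_three'

variable {G : Type*} [Group G]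

/-- The quaternion matrices. -/
def quats : List Mat := [1, -1, !![0, 1; 2, 0], !![0, 2; 1, 0],
  !![1, 1; 1, 2], !![2, 2; 2, 1], !![2, 1; 1, 1], !![1, 2; 2, 2]]

theorem mem_quats : ∀ M : Mat, M.det = 1 → M ^ 4 = 1 → M ∈ quats := by decide +kernel

/-- The involutions of determinant `-1`. -/
def flips : List Mat := [!![1, 0; 0, 2], !![2, 0; 0, 1], !![1, 1; 0, 2], !![1, 2; 0, 2],
  !![2, 1; 0, 1], !![2, 2; 0, 1], !![1, 0; 1, 2], !![1, 0; 2, 2], !![2, 0; 1, 1], !![2, 0; 2, 1],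
  !![0, 1; 1, 0], !![0, 2; 2, 0]]

theorem mem_flips : ∀ M : Mat, M * M = 1 → M.det = -1 → M ∈ flips := by decide +kernel

theorem flip_no_fix_list : ∀ U ∈ flips, ∀ A ∈ quats, A * A = -1 → U * A ≠ A * U := by decide +kernel

theorem flip_inverted_list : ∀ U ∈ flips, ∃ A ∈ quats, A * A = -1 ∧ U * A * U = -A ∧
    A.det = 1 ∧ A ^ 4 = 1 := by decide +kernel

theorem flip_witness_list : ∀ U ∈ flips, ∀ A ∈ quats, U * A * U * A = 1 →
    ∃ K ∈ quats, K * U = A * U * K ∧ K.det = 1 ∧ K ^ 4 = 1 := by decide +kernel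

theorem quat_anti_list : ∀ A ∈ quats, A * A = -1 → ∃ J ∈ quats, J * A = -(A * J) ∧ J * J = -1 ∧
    J.det = 1 ∧ J ^ 4 = 1 := by decide +kernel

namespace Setup

variable [Finite G] {c : Setup G}

namespace Torus

variable (T : c.Torus)

theorem part_inj {v w : G} (hv : v ∈ T.part) (hw : w ∈ T.part)
    (h : c.one.P.ρ v = c.one.P.ρ w) : v = w := by
  have hvA := T.mem_A_of hv.2.1
  have hwA := T.mem_A_of hw.2.1
  have hm : v⁻¹ * w ∈ T.part := mul_mem (inv_mem hv) hw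
  exact inv_mul_eq_one.1 (D_four (T.cent_Q₁ ((c.one.P.ρ_ker _ (mul_mem (inv_mem hvA) hwA)).1 (by
    rw [c.one.P.ρ_mul _ (inv_mem hvA) _ hwA, ← h, c.one.P.ρ_inv' hvA])) hm.1.symm) hm.2.2)

theorem exists_part_ρ {M : Mat} (hM : M.det = 1) (hM4 : M ^ 4 = 1) :
    ∃ v ∈ T.part, c.one.P.ρ v = M := by
  obtain ⟨x, hx, hxt, hxδ, hxρ⟩ := T.exists_lift hM
  obtain ⟨i, hi⟩ := T.exists_part hxt hxδ (by rw [hxρ, hM4])
  exact ⟨_, hi, by rw [c.one.P.ρ_mul_Q hx (c.one.D_le_A (pow_mem c.one.δ_mem i))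
    (c.one.D_le_Q (pow_mem c.one.δ_mem i)), hxρ]⟩

/-- Elements of `A₁` centralising `t` normalise the two-part. -/
theorem part_conj {x : G} (hx : x ∈ c.one.A) (hxt : x * T.t = T.t * x) {v : G} (hv : v ∈ T.part) :
    x * v * x⁻¹ ∈ T.part := by
  have hvA := T.mem_A_of hv.2.1
  have h1 : Commute (x * v * x⁻¹) T.t :=
    ((show Commute x T.t from hxt).mul_left hv.1).mul_left (show Commute x T.t from hxt).inv_left
  refine ⟨h1.eq, c.one.comm_D (mul_mem (mul_mem hx hvA) (inv_mem hx)) c.one.δ_mem ?_, ?_⟩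
  · rw [c.one.P.ρ_mul _ (mul_mem hx hvA) _ (inv_mem hx), c.one.P.ρ_mul x hx v hvA, Matrix.det_mul_right_comm,
      c.one.P.ρ_inv hx, Matrix.one_mul, (T.ρ_four hv.2.1 hv.2.2).1]
  · rw [conj_pow, hv.2.2, mul_one, mul_inv_cancel]

variable {u : G}

include T in
theorem flip_mem (hu : u * u = 1) (hi : u * c.one.δ * u⁻¹ = c.one.δ⁻¹) :
    u ∈ c.one.A ∧ c.one.P.ρ u ∈ flips := by
  have hA : u ∈ c.one.A := c.one.mem_A_of_conj fun d hd => by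
    obtain ⟨i, rfl⟩ := c.one.exists_pow_δ hd
    rw [← conj_pow, hi, inv_pow]
    exact inv_mem (pow_mem c.one.δ_mem _)
  refine ⟨hA, mem_flips _ (c.one.P.ρ_sq_one hA hu) ?_⟩
  refine (det_cases _ (c.one.P.ρ_det _ hA)).resolve_left fun e => c.one.δ_ne ?_
  rw [c.one.comm_D hA c.one.δ_mem e, mul_inv_cancel_right] at hi
  exact eq_one_of_sq_cube (by nth_rw 1 [hi]; exact inv_mul_cancel _) (c.one.D_pow c.one.δ_mem)

theorem flip_no_fix (ht : u * T.t = T.t * u) (hu : u * u = 1)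
    (hi : u * c.one.δ * u⁻¹ = c.one.δ⁻¹) {v : G} (hv : v ∈ T.part) (hvv : v * v = T.t) :
    u * v * u⁻¹ ≠ v := by
  obtain ⟨hA, hU⟩ := T.flip_mem hu hi
  have hvA := T.mem_A_of hv.2.1
  obtain ⟨hd, h4⟩ := T.ρ_four hv.2.1 hv.2.2
  intro h
  refine flip_no_fix_list _ hU _ (mem_quats _ hd h4) ?_ ?_
  · rw [← c.one.P.ρ_mul v hvA v hvA, hvv, T.ρt]
  · rw [← c.one.P.ρ_mul u hA v hvA, ← c.one.P.ρ_mul v hvA u hA, mul_inv_eq_iff_eq_mul.1 h]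

theorem flip_inverted (ht : u * T.t = T.t * u) (hu : u * u = 1)
    (hi : u * c.one.δ * u⁻¹ = c.one.δ⁻¹) :
    ∃ a ∈ T.part, a * a = T.t ∧ u * a * u⁻¹ = a⁻¹ := by
  obtain ⟨hA, hU⟩ := T.flip_mem hu hi
  obtain ⟨M, -, hMM, hUM, hd, h4⟩ := flip_inverted_list _ hU
  obtain ⟨a, ha, rfl⟩ := T.exists_part_ρ hd h4
  have haA := T.mem_A_of ha.2.1
  have hui : u⁻¹ = u := inv_eq_of_mul_eq_one_right hu
  have haa : a * a = T.t := T.part_inj (mul_mem ha ha) T.t_part (by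
    rw [c.one.P.ρ_mul a haA a haA, hMM, T.ρt])
  refine ⟨a, ha, haa, T.part_inj (T.part_conj hA ht ha) (inv_mem ha) ?_⟩
  have e : a⁻¹ = a * T.t := inv_eq_of_mul_eq_one_right (by rw [← mul_assoc, haa, T.tt])
  rw [hui, e, c.one.P.ρ_mul _ (mul_mem hA haA) u hA, c.one.P.ρ_mul u hA a haA, hUM,
    c.one.P.ρ_mul a haA _ T.t₁, T.ρt, mul_neg_one]

theorem flip_witness (ht : u * T.t = T.t * u) (hu : u * u = 1)
    (hi : u * c.one.δ * u⁻¹ = c.one.δ⁻¹) {v : G} (hv : v ∈ T.part) (hinv : u * v * u⁻¹ = v⁻¹) :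
    ∃ k ∈ T.part, k * u * k⁻¹ = v * u := by
  obtain ⟨hA, hU⟩ := T.flip_mem hu hi
  have hui : u⁻¹ = u := inv_eq_of_mul_eq_one_right hu
  have hvA := T.mem_A_of hv.2.1
  obtain ⟨hd, h4⟩ := T.ρ_four hv.2.1 hv.2.2
  obtain ⟨M, -, hKU, hKd, hK4⟩ := flip_witness_list _ hU _ (mem_quats _ hd h4) (by
    rw [← c.one.P.ρ_mul u hA v hvA, ← c.one.P.ρ_mul _ (mul_mem hA hvA) u hA,
      ← c.one.P.ρ_mul _ (mul_mem (mul_mem hA hvA) hA) v hvA]
    conv_lhs => rw [show u * v * u = v⁻¹ by rw [← hinv, hui]]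
    rw [inv_mul_cancel, c.one.P.ρ_one])
  obtain ⟨k, hk, rfl⟩ := T.exists_part_ρ hKd hK4
  have hkA := T.mem_A_of hk.2.1
  refine ⟨k, hk, ?_⟩
  have h : k * (u * k⁻¹ * u⁻¹) = v := T.part_inj (mul_mem hk (T.part_conj hA ht (inv_mem hk))) hv (by
    rw [hui, c.one.P.ρ_mul k hkA _ (mul_mem (mul_mem hA (inv_mem hkA)) hA),
      c.one.P.ρ_mul _ (mul_mem hA (inv_mem hkA)) u hA, c.one.P.ρ_mul u hA _ (inv_mem hkA),
      ← Matrix.mul_assoc, ← Matrix.mul_assoc, hKU, Matrix.mul_assoc (c.one.P.ρ v * c.one.P.ρ u),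
      c.one.P.ρ_inv hkA, Matrix.mul_one, Matrix.mul_assoc, c.one.P.ρ_sq_one hA hu, Matrix.mul_one])
  rw [← h]
  group

theorem exists_anti {v : G} (hv : v ∈ T.part) (hvv : v * v = T.t) :
    ∃ j ∈ T.part, j * j = T.t ∧ j * v * j⁻¹ = v⁻¹ := by
  have hvA := T.mem_A_of hv.2.1
  obtain ⟨hd, h4⟩ := T.ρ_four hv.2.1 hv.2.2
  obtain ⟨M, -, hJA, hJJ, hJd, hJ4⟩ := quat_anti_list _ (mem_quats _ hd h4) (by
    rw [← c.one.P.ρ_mul v hvA v hvA, hvv, T.ρt])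
  obtain ⟨j, hj, rfl⟩ := T.exists_part_ρ hJd hJ4
  have hjA := T.mem_A_of hj.2.1
  refine ⟨j, hj, T.part_inj (mul_mem hj hj) T.t_part (by
    rw [c.one.P.ρ_mul j hjA j hjA, hJJ, T.ρt]), ?_⟩
  have e : v⁻¹ = v * T.t := inv_eq_of_mul_eq_one_right (by rw [← mul_assoc, hvv, T.tt])
  have h : j * v = v * T.t * j := T.part_inj (mul_mem hj hv) (mul_mem (mul_mem hv T.t_part) hj) (by
    rw [c.one.P.ρ_mul j hjA v hvA, hJA, c.one.P.ρ_mul _ (mul_mem hvA T.t₁) j hjA,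
      c.one.P.ρ_mul v hvA _ T.t₁, T.ρt, mul_neg_one, neg_mul])
  rw [h, mul_inv_cancel_right, e]

/-- The group `SL(2,3)` in the centraliser of `⟨t, δ₁⟩`. -/
theorem sl_iso {N : G} (hNt : N * T.t = T.t * N) (hNδ : N * c.one.δ = c.one.δ * N) (hN3 : N ^ 3 = 1)
    (hNQ : N ∉ c.one.Q) :
    Nonempty (↥(T.part ⊔ Subgroup.zpowers N) ≃* Matrix.SpecialLinearGroup (Fin 2) (ZMod 3)) := by
  set L := T.part ⊔ Subgroup.zpowers N with hL
  have hNA := T.mem_A_of hNδ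
  have hN : c.one.P.ρ N * c.one.P.ρ N * c.one.P.ρ N = 1 := by
    rw [← c.one.P.ρ_mul N hNA N hNA, ← c.one.P.ρ_mul _ (mul_mem hNA hNA) N hNA, ← pow_two,
      ← pow_succ, hN3, c.one.P.ρ_one]
  have hzn : Subgroup.zpowers N ≤ Subgroup.normalizer (T.part : Set G) :=
    Subgroup.zpowers_le.2 (Subgroup.mem_normalizer_fintype fun v hv => T.part_conj hNA hNt hv)
  have hmem : ∀ {x : G}, x ∈ L ↔ ∃ v ∈ T.part, ∃ j : ℕ, x = v * N ^ j := by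
    intro x
    rw [hL, ← SetLike.mem_coe, Subgroup.coe_mul_of_right_le_normalizer_left _ _ hzn]
    constructor
    · rintro ⟨v, hv, z, hz, rfl⟩
      obtain ⟨k, rfl⟩ := Subgroup.mem_zpowers_iff.1 hz
      refine ⟨v, hv, (k % 3).toNat, ?_⟩
      show v * N ^ k = _
      congr 1
      rw [← zpow_natCast, Int.toNat_of_nonneg (by omega)]
      conv_lhs => rw [show k = k % 3 + 3 * (k / 3) by omega, zpow_add, zpow_mul,
        show (3 : ℤ) = ((3 : ℕ) : ℤ) from rfl, zpow_natCast, hN3, one_zpow, mul_one]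
      rfl
    · rintro ⟨v, hv, j, rfl⟩
      exact ⟨v, hv, _, pow_mem (Subgroup.mem_zpowers N) j, rfl⟩
  have hcomm : ∀ x : L, (x : G) * c.one.δ = c.one.δ * x := fun x => by
    obtain ⟨v, hv, j, e⟩ := hmem.1 x.2
    rw [e]
    exact ((show Commute v c.one.δ from hv.2.1).mul_left
      ((show Commute N c.one.δ from hNδ).pow_left j)).eq
  let f : L →* Matrix.SpecialLinearGroup (Fin 2) (ZMod 3) := MonoidHom.mk'
    (fun x => ⟨c.one.P.ρ (x : G), c.one.det_of_comm (T.mem_A_of (hcomm x)) c.one.δ_mem c.one.δ_ne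
      (hcomm x)⟩)
    fun x z => Subtype.ext (c.one.P.ρ_mul _ (T.mem_A_of (hcomm x)) _ (T.mem_A_of (hcomm z)))
  refine ⟨MulEquiv.ofBijective f ⟨(injective_iff_map_eq_one f).2 fun x hx => ?_, fun M => ?_⟩⟩
  · obtain ⟨v, hv, j, e⟩ := hmem.1 x.2
    have hρ : c.one.P.ρ (x : G) = 1 := congrArg Subtype.val hx
    have hxt : (x : G) * T.t = T.t * x := by
      rw [e]; exact ((show Commute v T.t from hv.1).mul_left ((show Commute N T.t from hNt).pow_left j)).eq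
    obtain ⟨i, hi⟩ := c.one.exists_pow_δ
      (T.cent_Q₁ ((c.one.P.ρ_ker _ (T.mem_A_of (hcomm x))).1 hρ) hxt.symm)
    have hve : v = c.one.δ ^ i.val * (N ^ j)⁻¹ := by rw [← hi, e, mul_inv_cancel_right]
    have h3 : v ^ 3 = 1 := by
      rw [hve, (((show Commute c.one.δ N from hNδ.symm).pow_pow _ j).inv_right).mul_pow, inv_pow,
        ← pow_mul, mul_comm, pow_mul, c.one.D_pow c.one.δ_mem, one_pow, ← pow_mul, mul_comm, pow_mul,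
        hN3, one_pow, inv_one, mul_one]
    have hv1 : v = 1 := by
      have h4 := hv.2.2
      rwa [pow_succ, h3, one_mul] at h4
    rw [hv1, one_mul] at e
    refine Subtype.ext ?_
    rw [e]
    show N ^ j = 1
    rw [pow_eq_pow_mod j hN3]
    have hQ : N ^ (j % 3) ∈ c.one.Q := by
      rw [← pow_eq_pow_mod j hN3, ← e, hi]
      exact pow_mem (c.one.D_le_Q c.one.δ_mem) _
    rcases (show j % 3 = 0 ∨ j % 3 = 1 ∨ j % 3 = 2 by omega) with e0 | e0 | e0 <;> rw [e0] at hQ ⊢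
    · exact pow_zero N
    · exact absurd (by rwa [pow_one] at hQ) hNQ
    · refine absurd ?_ hNQ
      have := mul_mem hQ hQ
      rwa [← pow_add, show 2 + 2 = 3 + 1 from rfl, pow_succ, hN3, one_mul] at this
  · obtain ⟨z, hz, hzt, hzδ, hzρ⟩ := T.exists_lift M.2
    obtain ⟨v, hv, i, j, e⟩ := T.split hNt hNδ hN3 hNQ hzt hzδ
    refine ⟨⟨v * N ^ j, hmem.2 ⟨v, hv, j, rfl⟩⟩, Subtype.ext ?_⟩
    show c.one.P.ρ (v * N ^ j) = _
    have hvA := T.mem_A_of hv.2.1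
    have hd := pow_mem c.one.δ_mem i
    rw [← hzρ, e, c.one.P.ρ_mul _ (mul_mem hvA (c.one.D_le_A hd)) _ (pow_mem hNA j),
      c.one.P.ρ_mul_Q hvA (c.one.D_le_A hd) (c.one.D_le_Q hd), c.one.P.ρ_mul v hvA _ (pow_mem hNA j)]

end Torus

namespace Frame

variable (F : c.Frame)

theorem part_conj {x : G} (hx : x ∈ c.one.A) (hxt : x * F.T.t = F.T.t * x) {v : G}
    (hv : v ∈ F.T.part) : x * v * x⁻¹ ∈ F.T.part := F.T.part_conj hx hxt hv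

theorem y₁ : F.y ∈ c.one.A := c.U_le₁ F.yU

theorem partY_conj {x : G} (hxt : x * F.T.t = F.T.t * x)
    (hxy : x * F.y * x⁻¹ = F.y ∨ x * F.y * x⁻¹ = F.y⁻¹) {v : G} (hv : v ∈ F.partY) :
    x * v * x⁻¹ ∈ F.partY := by
  obtain ⟨h1, h2, h4⟩ := F.mem_partY.1 hv
  have hct : Commute (x * v * x⁻¹) F.T.t :=
    ((show Commute x F.T.t from hxt).mul_left h1).mul_left (show Commute x F.T.t from hxt).inv_left
  have hcy : Commute (x * v * x⁻¹) (x * F.y * x⁻¹) := by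
    show x * v * x⁻¹ * (x * F.y * x⁻¹) = x * F.y * x⁻¹ * (x * v * x⁻¹)
    calc x * v * x⁻¹ * (x * F.y * x⁻¹) = x * (v * F.y) * x⁻¹ := by group
      _ = x * (F.y * v) * x⁻¹ := by rw [h2]
      _ = _ := by group
  refine F.mem_partY.2 ⟨hct.eq, ?_, by rw [conj_pow, h4, mul_one, mul_inv_cancel]⟩
  rcases hxy with e | e <;> rw [e] at hcy
  · exact hcy.eq
  · have := hcy.inv_right
    rw [inv_inv] at this
    exact this.eq

/-- The pullback of `s`. -/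
theorem flipY : (F.h⁻¹ * F.T.s * F.h) * F.T.s = F.T.s * (F.h⁻¹ * F.T.s * F.h) ∧
    (F.h⁻¹ * F.T.s * F.h) * (F.h⁻¹ * F.T.s * F.h) = 1 ∧
    (F.h⁻¹ * F.T.s * F.h) * c.two.δ * (F.h⁻¹ * F.T.s * F.h)⁻¹ = c.two.δ⁻¹ := by
  have ht : F.h⁻¹ * F.T.t * F.h = F.T.s := by rw [← F.hs]; group
  have hy : F.h⁻¹ * F.y * F.h = c.two.δ := by rw [← F.hy]; group
  refine ⟨?_, ?_, ?_⟩
  · calc F.h⁻¹ * F.T.s * F.h * F.T.s = F.h⁻¹ * F.T.s * F.h * (F.h⁻¹ * F.T.t * F.h) := by rw [ht]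
      _ = F.h⁻¹ * (F.T.s * F.T.t) * F.h := by group
      _ = F.h⁻¹ * (F.T.t * F.T.s) * F.h := by rw [F.T.ts]
      _ = F.h⁻¹ * F.T.t * F.h * (F.h⁻¹ * F.T.s * F.h) := by group
      _ = _ := by rw [ht]
  · rw [show F.h⁻¹ * F.T.s * F.h * (F.h⁻¹ * F.T.s * F.h) = F.h⁻¹ * (F.T.s * F.T.s) * F.h by group,
      F.T.ss, mul_one, inv_mul_cancel]
  · rw [← hy, show F.h⁻¹ * F.T.s * F.h * (F.h⁻¹ * F.y * F.h) * (F.h⁻¹ * F.T.s * F.h)⁻¹ =
      F.h⁻¹ * (F.T.s * F.y * F.T.s⁻¹) * F.h by group, F.sy]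
    group

theorem s_δ : F.T.s * c.one.δ * F.T.s⁻¹ = c.one.δ⁻¹ := F.E_s F.δ_E

theorem partY_no_fix {v : G} (hv : v ∈ F.partY) (hvv : v * v = F.T.t) :
    F.T.s * v * F.T.s⁻¹ ≠ v := by
  obtain ⟨w, hw, rfl⟩ := hv
  change F.h * w * F.h⁻¹ * (F.h * w * F.h⁻¹) = _ at hvv
  obtain ⟨h1, h2, h3⟩ := F.flipY
  intro h
  change F.T.s * (F.h * w * F.h⁻¹) * F.T.s⁻¹ = F.h * w * F.h⁻¹ at h
  refine F.T.swap.flip_no_fix h1 h2 h3 hw ?_ ?_
  · show w * w = F.T.s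
    rw [show F.T.s = F.h⁻¹ * F.T.t * F.h by rw [← F.hs]; group, ← hvv]
    group
  · calc F.h⁻¹ * F.T.s * F.h * w * (F.h⁻¹ * F.T.s * F.h)⁻¹ =
        F.h⁻¹ * (F.T.s * (F.h * w * F.h⁻¹) * F.T.s⁻¹) * F.h := by group
      _ = w := by rw [h]; group

theorem partY_inverted : ∃ b ∈ F.partY, b * b = F.T.t ∧ F.T.s * b * F.T.s⁻¹ = b⁻¹ := by
  obtain ⟨h1, h2, h3⟩ := F.flipY
  obtain ⟨w, hw, hww, hwi⟩ := F.T.swap.flip_inverted h1 h2 h3
  change w * w = F.T.s at hww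
  refine ⟨F.h * w * F.h⁻¹, ⟨w, hw, rfl⟩, ?_, ?_⟩
  · rw [show F.h * w * F.h⁻¹ * (F.h * w * F.h⁻¹) = F.h * (w * w) * F.h⁻¹ by group, hww, F.hs]
  · calc F.T.s * (F.h * w * F.h⁻¹) * F.T.s⁻¹ =
        F.h * ((F.h⁻¹ * F.T.s * F.h) * w * (F.h⁻¹ * F.T.s * F.h)⁻¹) * F.h⁻¹ := by group
      _ = _ := by rw [hwi]; group

theorem partY_witness {v : G} (hv : v ∈ F.partY) (hinv : F.T.s * v * F.T.s⁻¹ = v⁻¹) :
    ∃ k ∈ F.partY, k * F.T.s * k⁻¹ = v * F.T.s := by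
  obtain ⟨w, hw, rfl⟩ := hv
  change F.T.s * (F.h * w * F.h⁻¹) * F.T.s⁻¹ = (F.h * w * F.h⁻¹)⁻¹ at hinv
  obtain ⟨h1, h2, h3⟩ := F.flipY
  obtain ⟨k, hk, hke⟩ := F.T.swap.flip_witness h1 h2 h3 hw (by
    calc F.h⁻¹ * F.T.s * F.h * w * (F.h⁻¹ * F.T.s * F.h)⁻¹ =
          F.h⁻¹ * (F.T.s * (F.h * w * F.h⁻¹) * F.T.s⁻¹) * F.h := by group
      _ = w⁻¹ := by rw [hinv]; group)
  refine ⟨F.h * k * F.h⁻¹, ⟨k, hk, rfl⟩, ?_⟩
  calc F.h * k * F.h⁻¹ * F.T.s * (F.h * k * F.h⁻¹)⁻¹ =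
      F.h * (k * (F.h⁻¹ * F.T.s * F.h) * k⁻¹) * F.h⁻¹ := by group
    _ = F.h * w * F.h⁻¹ * F.T.s := by rw [hke]; group

theorem partY_anti {v : G} (hv : v ∈ F.partY) (hvv : v * v = F.T.t) :
    ∃ j ∈ F.partY, j * j = F.T.t ∧ j * v * j⁻¹ = v⁻¹ := by
  obtain ⟨w, hw, rfl⟩ := hv
  change F.h * w * F.h⁻¹ * (F.h * w * F.h⁻¹) = _ at hvv
  obtain ⟨j, hj, hjj, hjw⟩ := F.T.swap.exists_anti hw (by
    show w * w = F.T.s
    rw [show F.T.s = F.h⁻¹ * F.T.t * F.h by rw [← F.hs]; group, ← hvv]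
    group)
  change j * j = F.T.s at hjj
  refine ⟨F.h * j * F.h⁻¹, ⟨j, hj, rfl⟩, ?_, ?_⟩
  · rw [show F.h * j * F.h⁻¹ * (F.h * j * F.h⁻¹) = F.h * (j * j) * F.h⁻¹ by group, hjj, F.hs]
  · show F.h * j * F.h⁻¹ * (F.h * w * F.h⁻¹) * (F.h * j * F.h⁻¹)⁻¹ = (F.h * w * F.h⁻¹)⁻¹
    rw [show F.h * j * F.h⁻¹ * (F.h * w * F.h⁻¹) * (F.h * j * F.h⁻¹)⁻¹ =
      F.h * (j * w * j⁻¹) * F.h⁻¹ by group, hjw]
    group

/-- The first factor. -/
noncomputable def L₁ : Subgroup G := F.T.part ⊔ Subgroup.zpowers F.y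

/-- The second factor. -/
noncomputable def L₂ : Subgroup G := F.partY ⊔ Subgroup.zpowers c.one.δ

theorem L₁_iso : Nonempty (↥F.L₁ ≃* Matrix.SpecialLinearGroup (Fin 2) (ZMod 3)) :=
  F.T.sl_iso F.ty.symm (F.W₃_comm F.y_W₃ F.δ₁_W₃) F.y3 F.y_notMem_Q₁

theorem L₂_iso : Nonempty (↥F.L₂ ≃* Matrix.SpecialLinearGroup (Fin 2) (ZMod 3)) := by
  have ht : F.h⁻¹ * F.T.t * F.h = F.T.s := by rw [← F.hs]; group
  have hy : F.h⁻¹ * F.y * F.h = c.two.δ := by rw [← F.hy]; group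
  have key : ∀ a b : G, a * b = b * a →
      F.h⁻¹ * a * F.h * (F.h⁻¹ * b * F.h) = F.h⁻¹ * b * F.h * (F.h⁻¹ * a * F.h) := fun a b h => by
    calc F.h⁻¹ * a * F.h * (F.h⁻¹ * b * F.h) = F.h⁻¹ * (a * b) * F.h := by group
      _ = F.h⁻¹ * (b * a) * F.h := by rw [h]
      _ = _ := by group
  obtain ⟨e⟩ := F.T.swap.sl_iso (N := F.h⁻¹ * c.one.δ * F.h)
    (show _ * F.T.s = F.T.s * _ by rw [← ht]; exact key _ _ (F.T.comm_D₁ c.one.δ_mem).symm)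
    (show _ * c.two.δ = c.two.δ * _ by rw [← hy]; exact key _ _ (F.W₃_comm F.δ₁_W₃ F.y_W₃))
    (by rw [show F.h⁻¹ * c.one.δ * F.h = F.h⁻¹ * c.one.δ * F.h⁻¹⁻¹ by group, conj_pow,
      c.one.D_pow c.one.δ_mem, mul_one, mul_inv_cancel])
    F.hδ_notQ
  have hmap : (F.T.swap.part ⊔ Subgroup.zpowers (F.h⁻¹ * c.one.δ * F.h)).map
      (MulAut.conj F.h).toMonoidHom = F.L₂ := by
    rw [Subgroup.map_sup, MonoidHom.map_zpowers,
      show (MulAut.conj F.h).toMonoidHom (F.h⁻¹ * c.one.δ * F.h) = c.one.δ by simp [mul_assoc]]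
    rfl
  exact ⟨((Subgroup.equivMapOfInjective _ (MulAut.conj F.h).toMonoidHom
    (MulAut.conj F.h).injective).trans (MulEquiv.subgroupCongr hmap)).symm.trans e⟩

end Frame

end Setup

end CfsgLib.G2Amalgam
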