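import Cfsg.Agent.G2Amalgam.Torus

/-!
# The amalgam of type `G₂(3)`: fusion in the centraliser of the involution
-/

set_option autoImplicit false
set_option linter.unusedSectionVars false
set_option maxRecDepth 100000

namespace CfsgLib.G2Amalgam

open Matrix

attribute [local instance] fact_three'

variable {G : Type*} [Group G]

namespace Setup

variable [Finite G] {c : Setup G}

namespace Torus

variable (T : c.Torus)

/-- Involutions centralising `D₁` are conjugates of `t` under `Q₁`. -/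
theorem conj_invol {u : G} (hu : u * u = 1) (hu1 : u ≠ 1) (hc : u * c.one.δ = c.one.δ * u) :
    ∃ k ∈ c.one.Q, k * T.t * k⁻¹ = u := by
  have huA : u ∈ c.one.A := c.one.mem_A_of_comm fun d hd => by
    obtain ⟨i, rfl⟩ := c.one.exists_pow_δ hd
    exact ((show Commute u c.one.δ from hc).pow_right _).eq
  refine c.one.exists_conj T.t₁ huA T.tt hu ?_
  rw [T.ρt]
  refine ((invol_det_one _ (c.one.P.ρ_sq_one huA hu)
    (c.one.det_of_comm huA c.one.δ_mem c.one.δ_ne hc)).resolve_left fun e => hu1 ?_).symm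
  have h243 := c.one.Q_pow ((c.one.P.ρ_ker _ huA).1 e)
  rwa [show 243 = 2 * 121 + 1 from rfl, pow_succ, pow_mul, pow_two, hu, one_pow, one_mul] at h243

end Torus

/-- The torus with `y`, the conjugating element `h` and the element `b`. -/
structure Frame (c : Setup G) where
  T : c.Torus
  y : G
  h : G
  b : G
  yQ : y ∈ c.two.Q
  yZ : y ∉ c.two.Z
  y3 : y ^ 3 = 1
  ty : T.t * y = y * T.t
  sy : T.s * y * T.s⁻¹ = y⁻¹
  hs : h * T.s * h⁻¹ = T.t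
  hy : h * c.two.δ * h⁻¹ = y
  b₂ : b ∈ c.two.A
  bs : T.s * b = b * T.s
  bK : b⁻¹ * y * b ∈ c.K

theorem exists_Frame (c : Setup G) : Nonempty c.Frame := by
  obtain ⟨T⟩ := c.exists_Torus
  obtain ⟨y, h, hyQ, hyZ, hy3, hty, hsy, hs, hh⟩ := T.exists_y
  obtain ⟨k, hk, hk2⟩ := c.swap.exists_K_notZ
  rw [c.swap_K] at hk
  change k ∉ c.two.Z at hk2
  obtain ⟨P, hP, hPv⟩ := trans_vec _ _ (fun e => hk2 ((c.two.P.v_ker _ hk.2).1 e))
    (fun e => hyZ ((c.two.P.v_ker _ hyQ).1 e))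
  obtain ⟨a, ha, rfl⟩ := c.two.P.ρ_surj P (by rw [hP]; decide)
  obtain ⟨q, hq, hqe⟩ := c.two.exists_conj T.s₂ (mul_mem (mul_mem ha T.s₂) (inv_mem ha)) T.ss
    (by rw [show a * T.s * a⁻¹ * (a * T.s * a⁻¹) = a * (T.s * T.s) * a⁻¹ by group, T.ss, mul_one,
      mul_inv_cancel])
    (by rw [c.two.P.ρ_mul _ (mul_mem ha T.s₂) _ (inv_mem ha), c.two.P.ρ_mul a ha _ T.s₂, T.ρs,
      mul_neg_one, neg_mul, c.two.P.ρ_inv ha])
  set b := q⁻¹ * a with hb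
  have hbA : b ∈ c.two.A := mul_mem (inv_mem (c.two.Q_le hq)) ha
  have hbs : b * T.s * b⁻¹ = T.s := by
    rw [hb, show q⁻¹ * a * T.s * (q⁻¹ * a)⁻¹ = q⁻¹ * (a * T.s * a⁻¹) * q by group, ← hqe]
    group
  refine ⟨⟨T, y, h, b, hyQ, hyZ, hy3, hty, hsy, hs, hh, hbA, (mul_inv_eq_iff_eq_mul.1 hbs).symm, ?_⟩⟩
  -- `b⁻¹ y b` agrees with `k` modulo `Z₂`
  have hbk := c.two.conj_Q hbA hk.2
  have hz : (b * k * b⁻¹)⁻¹ * y ∈ c.two.Z := by
    rw [← c.two.P.v_eq_iff hbk hyQ, c.two.P.v_conj _ hbA _ hk.2, hb,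
      c.two.P.ρ_Q_mul ha (inv_mem (c.two.Q_le hq)) (inv_mem hq), hPv]
  have hz' := c.Z₂_le_K (c.two.conj_Z (inv_mem hbA) hz)
  have := mul_mem hk hz'
  rwa [show k * (b⁻¹ * ((b * k * b⁻¹)⁻¹ * y) * b⁻¹⁻¹) = b⁻¹ * y * b by group] at this

namespace Frame

variable (F : c.Frame)

/-- The conjugate of `K`. -/
def W₃ : Subgroup G := c.K.map (MulAut.conj F.b).toMonoidHom

theorem mem_W₃ {x : G} : x ∈ F.W₃ ↔ F.b⁻¹ * x * F.b ∈ c.K := by
  constructor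
  · rintro ⟨k, hk, rfl⟩
    simpa [mul_assoc] using hk
  · intro h
    exact ⟨_, h, by simp [mul_assoc]⟩

theorem card_W₃ : Nat.card F.W₃ = 81 := by
  rw [W₃, Subgroup.card_map_of_injective (MulAut.conj F.b).injective, c.card_K]

theorem W₃_comm {x y : G} (hx : x ∈ F.W₃) (hy : y ∈ F.W₃) : x * y = y * x := by
  obtain ⟨k, hk, rfl⟩ := hx
  obtain ⟨l, hl, rfl⟩ := hy
  rw [← map_mul, ← map_mul, c.K_comm hk hl]

theorem W₃_le_Q : F.W₃ ≤ c.two.Q := by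
  rintro _ ⟨k, hk, rfl⟩
  exact c.two.conj_Q F.b₂ hk.2

theorem Z₂_le_W₃ : c.two.Z ≤ F.W₃ := fun z hz => F.mem_W₃.2 (by
  have := c.Z₂_le_K (c.two.conj_Z (inv_mem F.b₂) hz)
  rwa [inv_inv] at this)

theorem y_W₃ : F.y ∈ F.W₃ := F.mem_W₃.2 F.bK

theorem δ₁_W₃ : c.one.δ ∈ F.W₃ := F.Z₂_le_W₃ (c.D₁_le_Z c.one.δ_mem)

theorem yU : F.y ∈ c.U := c.Q₂_le_U F.yQ

theorem y_notMem_Q₁ : F.y ∉ c.one.Q := fun h =>
  F.yZ (c.D₁_le_Z (F.T.cent_Q₁ h F.ty))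

theorem y_ne : F.y ≠ 1 := fun h => F.yZ (h ▸ one_mem _)

theorem vy_ne : c.two.P.v F.y ≠ 0 := fun e => F.yZ ((c.two.P.v_ker _ F.yQ).1 e)

/-- `W₃` consists of the elements of `Q₂` on the line of `y`. -/
theorem mem_W₃_iff {x : G} (hx : x ∈ c.two.Q) :
    x ∈ F.W₃ ↔ ∃ i : ZMod 3, c.two.P.v x = i • c.two.P.v F.y := by
  constructor
  · intro h
    have hb := inv_mem F.b₂
    have e : ∀ {z : G}, z ∈ c.two.Q → c.two.P.v z = c.two.P.ρ F.b *ᵥ c.two.P.v (F.b⁻¹ * z * F.b) :=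
      fun {z} hz => by
        have hz' : F.b⁻¹ * z * F.b ∈ c.two.Q := by
          have := c.two.conj_Q hb hz
          rwa [inv_inv] at this
        rw [← c.two.P.v_conj _ F.b₂ _ hz']
        congr 1
        group
    have hk := F.mem_W₃.1 h
    have hl := F.bK
    obtain ⟨i, hi⟩ := cube_fixed_line _ (c.two.P.three c.swap.u₀_A (c.U_pow c.swap.u₀_U))
      c.swap.P_u₀_ne (c.two.P.v (F.b⁻¹ * F.y * F.b)) (c.two.P.v (F.b⁻¹ * x * F.b)) (fun e0 => by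
        have hv := e F.yQ
        rw [e0, mulVec_zero] at hv
        exact F.vy_ne hv)
      (c.swap.P_fix c.swap.u₀_U (by rw [c.swap_K]; exact hl))
      (c.swap.P_fix c.swap.u₀_U (by rw [c.swap_K]; exact hk))
    exact ⟨i, by rw [e hx, e F.yQ, hi, mulVec_smul]⟩
  · rintro ⟨i, hi⟩
    have hp : F.y ^ i.val ∈ c.two.Q := pow_mem F.yQ _
    have hz : x * (F.y ^ i.val)⁻¹ ∈ c.two.Z := by
      rw [← c.two.P.v_ker _ (mul_mem hx (inv_mem hp)), c.two.P.v_mul _ hx _ (inv_mem hp),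
        c.two.P.v_inv hp, c.two.P.v_pow F.yQ, ZMod.natCast_zmod_val, hi, add_neg_cancel]
    have := mul_mem (F.Z₂_le_W₃ hz) (pow_mem F.y_W₃ i.val)
    rwa [inv_mul_cancel_right] at this

theorem ρt_vy : c.two.P.ρ F.T.t *ᵥ c.two.P.v F.y = c.two.P.v F.y := by
  rw [← c.two.P.v_conj _ F.T.t₂ _ F.yQ, F.ty, mul_inv_cancel_right]

theorem t_norm_W₃ {x : G} (hx : x ∈ F.W₃) : F.T.t * x * F.T.t⁻¹ ∈ F.W₃ := by
  have hq := F.W₃_le_Q hx
  obtain ⟨i, hi⟩ := (F.mem_W₃_iff hq).1 hx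
  exact (F.mem_W₃_iff (c.two.conj_Q F.T.t₂ hq)).2 ⟨i, by
    rw [c.two.P.v_conj _ F.T.t₂ _ hq, hi, mulVec_smul, F.ρt_vy]⟩

/-- The conjugate of `t` in `B`. -/
def τ : G := F.b⁻¹ * F.T.t * F.b

theorem τ₂ : F.τ ∈ c.two.A := mul_mem (mul_mem (inv_mem F.b₂) F.T.t₂) F.b₂

theorem τ_norm_K {k : G} (hk : k ∈ c.K) : F.τ * k * F.τ⁻¹ ∈ c.K := by
  have h1 : F.b * k * F.b⁻¹ ∈ F.W₃ := F.mem_W₃.2 (by
    rwa [show F.b⁻¹ * (F.b * k * F.b⁻¹) * F.b = k by group])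
  have := F.mem_W₃.1 (F.t_norm_W₃ h1)
  rwa [show F.b⁻¹ * (F.T.t * (F.b * k * F.b⁻¹) * F.T.t⁻¹) * F.b = F.τ * k * F.τ⁻¹ by
    rw [τ]; group] at this

theorem τU : F.τ ∈ Subgroup.normalizer (c.U : Set G) :=
  c.swap.norm_U_of_norm_K F.τ₂ fun k hk => by rw [c.swap_K] at hk ⊢; exact F.τ_norm_K hk

theorem τ₁ : F.τ ∈ c.one.A := c.norm_U_le₁ F.τU

/-- The conjugate of `δ₁`. -/
noncomputable def p : G := F.b * c.one.δ * F.b⁻¹

theorem p_mem : F.p ∈ c.two.Z := c.two.conj_Z F.b₂ (c.D₁_le_Z c.one.δ_mem)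

theorem p_W₃ : F.p ∈ F.W₃ := F.Z₂_le_W₃ F.p_mem

theorem p_cube : F.p ^ 3 = 1 := by
  rw [p, conj_pow, c.one.D_pow c.one.δ_mem, mul_one, mul_inv_cancel]

theorem p_ne : F.p ≠ 1 := fun h => c.one.δ_ne (conj_eq_one_iff.1 h)

theorem p_notMem₂ : F.p ∉ c.two.D := c.D_not_conj F.b c.one.δ_mem c.one.δ_ne

theorem p_notMem₁ : F.p ∉ c.one.D := by
  intro h
  have hbA : F.b ∈ c.one.A := c.one.mem_A_of_conj fun d hd => by
    obtain ⟨i, rfl⟩ := c.one.exists_pow_δ hd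
    rw [← conj_pow]
    exact pow_mem h _
  refine F.y_notMem_Q₁ ?_
  have := c.one.conj_Q hbA F.bK.1
  rwa [show F.b * (F.b⁻¹ * F.y * F.b) * F.b⁻¹ = F.y by group] at this

theorem tp : F.T.t * F.p * F.T.t⁻¹ = F.p⁻¹ := by
  rcases det_cases _ (c.one.P.ρ_det _ F.τ₁) with e | e
  · refine absurd (F.T.cent_Z₂ F.p_mem ?_) F.p_notMem₁
    have := c.one.comm_D F.τ₁ c.one.δ_mem e
    rw [τ] at this
    calc F.T.t * F.p = F.b * (F.b⁻¹ * F.T.t * F.b * c.one.δ) * F.b⁻¹ := by rw [p]; group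
      _ = F.p * F.T.t := by rw [this, p]; group
  · have := c.one.inv_D F.τ₁ c.one.δ_mem e
    rw [τ] at this
    calc F.T.t * F.p * F.T.t⁻¹ = F.b * (F.b⁻¹ * F.T.t * F.b * c.one.δ * (F.b⁻¹ * F.T.t * F.b)⁻¹) *
          F.b⁻¹ := by rw [p]; group
      _ = F.p⁻¹ := by rw [this, p]; group

theorem det_τ : (c.one.P.ρ F.τ).det = -1 := by
  refine (det_cases _ (c.one.P.ρ_det _ F.τ₁)).resolve_left fun e => ?_
  have h := c.one.comm_D F.τ₁ c.one.δ_mem e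
  have h2 : F.T.t * F.p * F.T.t⁻¹ = F.p := by
    rw [τ] at h
    calc F.T.t * F.p * F.T.t⁻¹ = F.b * (F.b⁻¹ * F.T.t * F.b * c.one.δ) *
          (F.b⁻¹ * F.T.t * F.b)⁻¹ * F.b⁻¹ := by rw [p]; group
      _ = F.p := by rw [h, p]; group
  rw [F.tp] at h2
  exact F.p_ne (eq_one_of_sq_cube (by nth_rw 1 [← h2]; exact inv_mul_cancel _) F.p_cube)

theorem sp : F.T.s * F.p * F.T.s⁻¹ = F.p⁻¹ := by
  calc F.T.s * F.p * F.T.s⁻¹ = (F.T.s * F.b) * c.one.δ * (F.T.s * F.b)⁻¹ := by rw [p]; group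
    _ = F.b * (F.T.s * c.one.δ * F.T.s⁻¹) * F.b⁻¹ := by rw [F.bs]; group
    _ = F.p⁻¹ := by rw [c.one.inv_D F.T.s₁ c.one.δ_mem F.T.swap.det_t₂, p]; group

theorem S_cube {z : G} (hz : z ∈ c.two.Z) : z ^ 3 ∈ c.two.D := by
  rw [← c.two.S.v_ker _ (pow_mem hz 3), c.two.S.v_pow hz,
    show ((3 : ℕ) : ZMod 3) = 0 from rfl, zero_smul]

/-- Elements of `Z₂` inverted by `t`. -/
theorem inverted_Z₂ {z : G} (hz : z ∈ c.two.Z) (h : F.T.t * z * F.T.t⁻¹ = z⁻¹) :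
    ∃ i : ℕ, ∃ d ∈ c.two.D, z = F.p ^ i * d := by
  have hM : (c.two.S.ρ F.T.t).det = -1 := by rw [c.two.det_eq F.T.t₂, F.T.det_t₂]
  have hsq := c.two.S.ρ_sq_one F.T.t₂ F.T.tt
  have hneg : ∀ w ∈ c.two.Z, F.T.t * w * F.T.t⁻¹ = w⁻¹ →
      (-c.two.S.ρ F.T.t) *ᵥ c.two.S.v w = c.two.S.v w := fun w hw hwi => by
    rw [neg_mulVec, ← c.two.S.v_conj _ F.T.t₂ _ hw, hwi, c.two.S.v_inv hw, neg_neg]
  obtain ⟨i, hi⟩ := invol_lines (-c.two.S.ρ F.T.t) (by rw [neg_mul_neg, hsq])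
    (by rw [Matrix.det_neg, hM]; decide) _ _
    (fun e => F.p_notMem₂ ((c.two.S.v_ker _ F.p_mem).1 e)) (hneg _ F.p_mem F.tp) (hneg _ hz h)
  have hp : F.p ^ i.val ∈ c.two.Z := pow_mem F.p_mem _
  refine ⟨i.val, (F.p ^ i.val)⁻¹ * z, ?_, (mul_inv_cancel_left _ _).symm⟩
  rw [← c.two.S.v_ker _ (mul_mem (inv_mem hp) hz), c.two.S.v_mul _ (inv_mem hp) _ hz,
    c.two.S.v_inv hp, c.two.S.v_pow F.p_mem, ZMod.natCast_zmod_val, hi, neg_add_cancel]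

/-- The group `E`. -/
noncomputable def E : Subgroup G where
  carrier := {x | ∃ i j : ℕ, x = c.one.δ ^ i * F.y ^ j}
  one_mem' := ⟨0, 0, by simp⟩
  mul_mem' := by
    rintro _ _ ⟨i, j, rfl⟩ ⟨k, l, rfl⟩
    refine ⟨i + k, j + l, ?_⟩
    rw [pow_add, pow_add]
    exact Commute.mul_mul_mul_comm
      ((show Commute c.one.δ F.y from F.W₃_comm F.δ₁_W₃ F.y_W₃).pow_pow k j).symm _ _
  inv_mem' := by
    rintro _ ⟨i, j, rfl⟩
    refine ⟨2 * i, 2 * j, inv_eq_of_mul_eq_one_right ?_⟩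
    rw [Commute.mul_mul_mul_comm
      ((show Commute c.one.δ F.y from F.W₃_comm F.δ₁_W₃ F.y_W₃).pow_pow (2 * i) j).symm,
      ← pow_add, ← pow_add, show i + 2 * i = 3 * i by ring, show j + 2 * j = 3 * j by ring, pow_mul,
      pow_mul, c.one.D_pow c.one.δ_mem, F.y3, one_pow, one_pow, one_mul]

theorem δ_E : c.one.δ ∈ F.E := ⟨1, 0, by simp⟩
theorem y_E : F.y ∈ F.E := ⟨0, 1, by simp⟩

theorem E_le_W₃ : F.E ≤ F.W₃ := by
  rintro _ ⟨i, j, rfl⟩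
  exact mul_mem (pow_mem F.δ₁_W₃ i) (pow_mem F.y_W₃ j)

theorem E_t {e : G} (he : e ∈ F.E) : F.T.t * e = e * F.T.t := by
  obtain ⟨i, j, rfl⟩ := he
  exact (((show Commute F.T.t c.one.δ from F.T.comm_D₁ c.one.δ_mem).pow_right i).mul_right
    ((show Commute F.T.t F.y from F.ty).pow_right j)).eq

theorem E_s {e : G} (he : e ∈ F.E) : F.T.s * e * F.T.s⁻¹ = e⁻¹ := by
  obtain ⟨i, j, rfl⟩ := he
  rw [_root_.mul_inv_rev, ← ((show Commute c.one.δ F.y from F.W₃_comm F.δ₁_W₃ F.y_W₃).pow_pow i j).inv_inv,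
    ← inv_pow, ← inv_pow, ← F.sy, ← c.one.inv_D F.T.s₁ c.one.δ_mem F.T.swap.det_t₂, conj_pow,
    conj_pow]
  group

theorem E_cube {e : G} (he : e ∈ F.E) : e ^ 3 = 1 := by
  obtain ⟨i, j, rfl⟩ := he
  rw [((show Commute c.one.δ F.y from F.W₃_comm F.δ₁_W₃ F.y_W₃).pow_pow i j).mul_pow, ← pow_mul,
    ← pow_mul, mul_comm i, mul_comm j, pow_mul, pow_mul, c.one.D_pow c.one.δ_mem, F.y3, one_pow,
    one_pow, one_mul]

theorem E_Z₂ {e : G} (he : e ∈ F.E) (hz : e ∈ c.two.Z) : e ∈ c.one.D := F.T.cent_Z₂ hz (F.E_t he)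

theorem mem_E_of_fixed {w : G} (hw : w ∈ F.W₃) (h : F.T.t * w = w * F.T.t) : w ∈ F.E := by
  have hq := F.W₃_le_Q hw
  obtain ⟨i, hi⟩ := (F.mem_W₃_iff hq).1 hw
  have hp : F.y ^ i.val ∈ c.two.Q := pow_mem F.yQ _
  have hz : w * (F.y ^ i.val)⁻¹ ∈ c.two.Z := by
    rw [← c.two.P.v_ker _ (mul_mem hq (inv_mem hp)), c.two.P.v_mul _ hq _ (inv_mem hp),
      c.two.P.v_inv hp, c.two.P.v_pow F.yQ, ZMod.natCast_zmod_val, hi, add_neg_cancel]
  have hd := F.T.cent_Z₂ hz ((show Commute F.T.t w from h).mul_right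
    ((show Commute F.T.t F.y from F.ty).pow_right _).inv_right).eq
  obtain ⟨j, hj⟩ := c.one.exists_pow_δ hd
  exact ⟨j.val, i.val, by rw [← hj, inv_mul_cancel_right]⟩

theorem inverted_W₃ {w : G} (hw : w ∈ F.W₃) (h : F.T.t * w * F.T.t⁻¹ = w⁻¹) :
    ∃ i : ℕ, ∃ d ∈ c.two.D, w = F.p ^ i * d := by
  have hq := F.W₃_le_Q hw
  obtain ⟨i, hi⟩ := (F.mem_W₃_iff hq).1 hw
  refine F.inverted_Z₂ ((c.two.P.v_ker _ hq).1 (vec_neg_self _ ?_)) h
  have e := c.two.P.v_conj _ F.T.t₂ _ hq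
  rw [h, c.two.P.v_inv hq, hi, mulVec_smul, F.ρt_vy] at e
  rw [hi]
  exact e.symm

theorem comm_W₃ {q : G} (hq : q ∈ c.two.Q) (h : q * F.y = F.y * q) : q ∈ F.W₃ := by
  refine (F.mem_W₃_iff hq).2 (alt_eq_zero _ _ F.vy_ne ?_)
  have hp := c.two.pairing F.yQ hq
  rw [← h, mul_inv_cancel_right, mul_inv_cancel, eq_comm] at hp
  by_contra hne
  rcases (show ∀ t : ZMod 3, t ≠ 0 → t.val = 1 ∨ t.val = 2 by decide) _ hne with e | e <;>
    rw [e] at hp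
  · exact c.two.δ_ne (by simpa using hp)
  · refine c.two.δ_ne ?_
    have h3 := c.two.D_pow c.two.δ_mem
    rwa [pow_succ, hp, one_mul] at h3

/-- The centraliser of `E`. -/
theorem cent_E {x : G} (hx : x * c.one.δ = c.one.δ * x) (hy : x * F.y = F.y * x) :
    x ∈ F.W₃ ∨ F.T.t * x ∈ F.W₃ := by
  have hxA : x ∈ c.one.A := c.one.mem_A_of_comm fun d hd => by
    obtain ⟨i, rfl⟩ := c.one.exists_pow_δ hd
    exact ((show Commute x c.one.δ from hx).pow_right _).eq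
  have hyA := c.U_le₁ F.yU
  have hN := c.one.P.three hyA (c.U_pow F.yU)
  obtain ⟨b, j, hM⟩ := borel _ _ hN (fun e => F.y_notMem_Q₁ ((c.one.P.ρ_ker _ hyA).1 e))
    (c.one.det_of_comm hxA c.one.δ_mem c.one.δ_ne hx)
    (Or.inl (by rw [← c.one.P.ρ_mul x hxA _ hyA, hy, c.one.P.ρ_mul _ hyA x hxA]))
  have key : ∀ z ∈ c.one.A, z * F.y = F.y * z → c.one.P.ρ z = c.one.P.ρ F.y ^ (j : ℕ) → z ∈ F.W₃ := by
    intro z hz hzy hρ
    have hp := pow_mem hyA (j : ℕ)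
    have hq : (F.y ^ (j : ℕ))⁻¹ * z ∈ c.one.Q := (c.one.P.ρ_ker _ (mul_mem (inv_mem hp) hz)).1 (by
      rw [c.one.P.ρ_mul _ (inv_mem hp) z hz, hρ, ← c.one.P.ρ_pow hyA, c.one.P.ρ_inv' hp])
    have hc : (F.y ^ (j : ℕ))⁻¹ * z * F.y = F.y * ((F.y ^ (j : ℕ))⁻¹ * z) :=
      (((Commute.refl F.y).pow_left _).inv_left.mul_left (show Commute z F.y from hzy)).eq
    have hK := c.mem_K_of_fixed F.yU F.y_notMem_Q₁ hq (by
      rw [← c.one.P.v_conj _ hyA _ hq, ← hc, mul_inv_cancel_right])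
    have := mul_mem (pow_mem F.y_W₃ (j : ℕ)) (F.comm_W₃ hK.2 hc)
    rwa [mul_inv_cancel_left] at this
  cases b
  · exact Or.inl (key x hxA hy (by rw [hM]; simp))
  · refine Or.inr (key _ (mul_mem F.T.t₁ hxA) ?_ ?_)
    · exact ((show Commute F.T.t F.y from F.ty).mul_left (show Commute x F.y from hy)).eq
    · rw [c.one.P.ρ_mul _ F.T.t₁ x hxA, F.T.ρt, hM]
      simp

theorem three_cent_E {x : G} (h3 : x ^ 729 = 1) (hx : x * c.one.δ = c.one.δ * x)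
    (hy : x * F.y = F.y * x) : x ∈ F.W₃ := by
  refine (F.cent_E hx hy).resolve_right fun h => ?_
  have hxA : x ∈ c.one.A := c.one.mem_A_of_comm fun d hd => by
    obtain ⟨i, rfl⟩ := c.one.exists_pow_δ hd
    exact ((show Commute x c.one.δ from hx).pow_right _).eq
  have hU : F.T.t * x ∈ c.U := c.Q₂_le_U (F.W₃_le_Q h)
  have h1 := c.one.P.three (c.U_le₁ hU) (c.U_pow hU)
  have h2 := c.one.P.three hxA h3
  rw [c.one.P.ρ_mul _ F.T.t₁ x hxA, F.T.ρt] at h1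
  simp only [neg_mul, one_mul, mul_neg, neg_neg] at h1
  rw [h2] at h1
  exact absurd h1 (by decide)

theorem t_W₃_comm {x : G} (hx : x * F.T.t = F.T.t * x) {w : G} (h : F.T.t * w * F.T.t⁻¹ = w⁻¹) :
    F.T.t * (x * w * x⁻¹) * F.T.t⁻¹ = (x * w * x⁻¹)⁻¹ := by
  calc F.T.t * (x * w * x⁻¹) * F.T.t⁻¹ = (x * F.T.t) * w * (x * F.T.t)⁻¹ := by rw [hx]; group
    _ = x * (F.T.t * w * F.T.t⁻¹) * x⁻¹ := by group
    _ = _ := by rw [h]; group

/-- The normaliser of `E` in the centraliser of `t` centralises or inverts `E`. -/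
theorem norm_E {n : G} (hn : n * F.T.t = F.T.t * n) (hE : ∀ e ∈ F.E, n * e * n⁻¹ ∈ F.E) :
    (∀ e ∈ F.E, n * e * n⁻¹ = e) ∨ (∀ e ∈ F.E, n * e * n⁻¹ = e⁻¹) := by
  have hnE : n ∈ Subgroup.normalizer (F.E : Set G) := Subgroup.mem_normalizer_fintype hE
  -- conjugates of elements inverted by `t`
  have key : ∀ w ∈ F.W₃, w ^ 3 = 1 → F.T.t * w * F.T.t⁻¹ = w⁻¹ →
      ∃ i : ℕ, ∃ d ∈ c.two.D, n * w * n⁻¹ = F.p ^ i * d := by
    intro w hw hw3 hwt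
    have hcomm : ∀ e ∈ F.E, n * w * n⁻¹ * e = e * (n * w * n⁻¹) := fun e he => by
      have he' : n⁻¹ * e * n⁻¹⁻¹ ∈ F.E := conj_mem_norm (inv_mem hnE) he
      calc n * w * n⁻¹ * e = n * (w * (n⁻¹ * e * n⁻¹⁻¹)) * n⁻¹ := by group
        _ = n * ((n⁻¹ * e * n⁻¹⁻¹) * w) * n⁻¹ := by rw [F.W₃_comm hw (F.E_le_W₃ he')]
        _ = e * (n * w * n⁻¹) := by group
    refine F.inverted_W₃ (F.three_cent_E ?_ (hcomm _ F.δ_E) (hcomm _ F.y_E)) (F.t_W₃_comm hn hwt)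
    rw [conj_pow, show 729 = 3 * 243 from rfl, pow_mul, hw3, one_pow, mul_one, mul_inv_cancel]
  obtain ⟨i₁, d₁, hd₁, e₁⟩ := key _ F.p_W₃ F.p_cube F.tp
  obtain ⟨i₂, d₂, hd₂, e₂⟩ := key _ (F.Z₂_le_W₃ (c.two.D_le c.two.δ_mem))
    (c.two.D_pow c.two.δ_mem) (F.T.inv_D₂ c.two.δ_mem)
  set m := F.b⁻¹ * n * F.b with hm
  have hback : ∀ (i : ℕ) (d : G), d ∈ c.two.D → F.b⁻¹ * (F.p ^ i * d) * F.b ∈ c.ZU := by
    intro i d hd
    rw [show F.b⁻¹ * (F.p ^ i * d) * F.b = (F.b⁻¹ * F.p ^ i * F.b) * (F.b⁻¹ * d * F.b⁻¹⁻¹) by group,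
      p, conj_pow, show F.b⁻¹ * (F.b * c.one.δ ^ i * F.b⁻¹) * F.b = c.one.δ ^ i by group]
    exact mul_mem (pow_mem (c.D₁_le_ZU c.one.δ_mem) i)
      (c.D₂_le_ZU (c.two.conj_D (inv_mem F.b₂) hd))
  have m1 : m * c.one.δ * m⁻¹ ∈ c.ZU := by
    rw [hm, show F.b⁻¹ * n * F.b * c.one.δ * (F.b⁻¹ * n * F.b)⁻¹ = F.b⁻¹ * (n * F.p * n⁻¹) * F.b by
      rw [p]; group, e₁]
    exact hback _ _ hd₁
  obtain ⟨j, hj⟩ := c.two.exists_pow_δ (c.two.conj_D F.b₂ c.two.δ_mem)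
  have m2 : m * c.two.δ * m⁻¹ ∈ c.ZU := by
    rw [hm, show F.b⁻¹ * n * F.b * c.two.δ * (F.b⁻¹ * n * F.b)⁻¹ =
      F.b⁻¹ * (n * (F.b * c.two.δ * F.b⁻¹) * n⁻¹) * F.b by group, hj, ← conj_pow, e₂,
      show F.b⁻¹ * (F.p ^ i₂ * d₂) ^ j.val * F.b = F.b⁻¹ * (F.p ^ i₂ * d₂) ^ j.val * F.b⁻¹⁻¹ by group,
      ← conj_pow, inv_inv]
    exact pow_mem (hback _ _ hd₂) _
  have hmZ : m ∈ Subgroup.normalizer (c.ZU : Set G) := Subgroup.mem_normalizer_fintype fun z hz => by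
    obtain ⟨d, hd, i, rfl⟩ := c.ZU_decomp hz
    obtain ⟨k, rfl⟩ := c.one.exists_pow_δ hd
    rw [show m * (c.one.δ ^ k.val * c.two.δ ^ i) * m⁻¹ =
      (m * c.one.δ ^ k.val * m⁻¹) * (m * c.two.δ ^ i * m⁻¹) by group, ← conj_pow, ← conj_pow]
    exact mul_mem (pow_mem m1 _) (pow_mem m2 _)
  have hmU : m ∈ Subgroup.normalizer (c.U : Set G) := Subgroup.mem_normalizer_fintype fun u hu => by
    have hc : ∀ z ∈ c.ZU, m * u * m⁻¹ * z = z * (m * u * m⁻¹) := fun z hz => by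
      have hz' : m⁻¹ * z * m⁻¹⁻¹ ∈ c.ZU := conj_mem_norm (inv_mem hmZ) hz
      calc m * u * m⁻¹ * z = m * (u * (m⁻¹ * z * m⁻¹⁻¹)) * m⁻¹ := by group
        _ = m * ((m⁻¹ * z * m⁻¹⁻¹) * u) * m⁻¹ := by rw [c.ZU_central hu hz']
        _ = z * (m * u * m⁻¹) := by group
    exact c.mem_U_of_cent (fun d hd => hc d (c.D₁_le_ZU hd)) (hc _ (c.D₂_le_ZU c.two.δ_mem))
  have hnA2 : n ∈ c.two.A := by
    have := mul_mem (mul_mem F.b₂ (c.norm_U_le₂ hmU)) (inv_mem F.b₂)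
    rwa [hm, show F.b * (F.b⁻¹ * n * F.b) * F.b⁻¹ = n by group] at this
  have hnD : n * c.one.δ * n⁻¹ ∈ c.one.D :=
    F.E_Z₂ (hE _ F.δ_E) (c.two.conj_Z hnA2 (c.D₁_le_Z c.one.δ_mem))
  have hnA1 : n ∈ c.one.A := c.one.mem_A_of_conj fun d hd => by
    obtain ⟨i, rfl⟩ := c.one.exists_pow_δ hd
    rw [← conj_pow]
    exact pow_mem hnD _
  -- an element centralising `D₁` centralises `E`
  have main : ∀ x ∈ c.one.A, x * F.T.t = F.T.t * x → x * F.y * x⁻¹ ∈ F.E →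
      (c.one.P.ρ x).det = 1 → ∀ e ∈ F.E, x * e * x⁻¹ = e := by
    intro x hx hxt hxy hdet
    have hyA := c.U_le₁ F.yU
    have hN := c.one.P.three hyA (c.U_pow F.yU)
    have hN1 : c.one.P.ρ F.y ≠ 1 := fun e => F.y_notMem_Q₁ ((c.one.P.ρ_ker _ hyA).1 e)
    obtain ⟨i, j, hij⟩ := hxy
    have hd1 : c.one.δ ^ i ∈ c.one.Q := pow_mem (c.one.D_le_Q c.one.δ_mem) i
    have hρ : c.one.P.ρ x * c.one.P.ρ F.y = c.one.P.ρ F.y ^ j * c.one.P.ρ x := by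
      rw [← c.one.P.ρ_pow hyA, ← c.one.P.ρ_Q_mul (pow_mem hyA j) (c.one.Q_le hd1) hd1, ← hij,
        ← c.one.P.ρ_mul x hx _ hyA, ← c.one.P.ρ_mul _ (mul_mem (mul_mem hx hyA) (inv_mem hx)) x hx,
        inv_mul_cancel_right]
    have hj3 : c.one.P.ρ F.y ^ j = c.one.P.ρ F.y ^ (j % 3) :=
      pow_eq_pow_mod j (by rw [pow_succ, pow_two]; exact hN)
    rw [hj3] at hρ
    have hor : c.one.P.ρ x * c.one.P.ρ F.y = c.one.P.ρ F.y * c.one.P.ρ x ∨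
        c.one.P.ρ x * c.one.P.ρ F.y = c.one.P.ρ F.y * c.one.P.ρ F.y * c.one.P.ρ x := by
      rcases (show j % 3 = 0 ∨ j % 3 = 1 ∨ j % 3 = 2 by omega) with e | e | e <;> rw [e] at hρ
      · refine absurd ?_ hN1
        rw [pow_zero, one_mul] at hρ
        have := congrArg (fun M => c.one.P.ρ x⁻¹ * M) hρ
        simp only [← Matrix.mul_assoc, c.one.P.ρ_inv' hx, Matrix.one_mul] at this
        exact this
      · exact Or.inl (by rwa [pow_one] at hρ)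
      · exact Or.inr (by rwa [pow_two] at hρ)
    obtain ⟨sg, k, hM⟩ := borel _ _ hN hN1 hdet hor
    set w := (if sg then F.T.t else 1) * F.y ^ (k : ℕ) with hw
    have hsA : (if sg then F.T.t else 1) ∈ c.one.A := by cases sg <;> simp [F.T.t₁]
    have hwA : w ∈ c.one.A := mul_mem hsA (pow_mem hyA _)
    have hwρ : c.one.P.ρ w = c.one.P.ρ x := by
      rw [hw, c.one.P.ρ_mul _ hsA _ (pow_mem hyA _), c.one.P.ρ_pow hyA, hM]
      cases sg <;> simp [F.T.ρt, c.one.P.ρ_one]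
    have hq : w⁻¹ * x ∈ c.one.Q := (c.one.P.ρ_ker _ (mul_mem (inv_mem hwA) hx)).1 (by
      rw [c.one.P.ρ_mul _ (inv_mem hwA) x hx, ← hwρ, c.one.P.ρ_inv' hwA])
    have hts : Commute F.T.t (if sg then F.T.t else 1) := by cases sg <;> simp [Commute.refl]
    have hqt : F.T.t * (w⁻¹ * x) = w⁻¹ * x * F.T.t :=
      ((hts.mul_right ((show Commute F.T.t F.y from F.ty).pow_right _)).inv_right.mul_right
        (show Commute F.T.t x from hxt.symm)).eq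
    have hqD := F.T.cent_Q₁ hq hqt
    intro e he
    obtain ⟨l, hl⟩ := c.one.exists_pow_δ hqD
    have hcs : Commute (if sg then F.T.t else 1) e := by
      cases sg
      · simp
      · exact F.E_t he
    have hc : Commute x e := by
      rw [show x = w * (w⁻¹ * x) by rw [mul_inv_cancel_left], hl, hw]
      exact (hcs.mul_left ((show Commute F.y e from
        F.W₃_comm F.y_W₃ (F.E_le_W₃ he)).pow_left _)).mul_left
        ((show Commute c.one.δ e from F.W₃_comm F.δ₁_W₃ (F.E_le_W₃ he)).pow_left _)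
    rw [hc.eq, mul_inv_cancel_right]
  rcases det_cases _ (c.one.P.ρ_det _ hnA1) with e | e
  · exact Or.inl (main n hnA1 hn (hE _ F.y_E) e)
  · refine Or.inr fun x hx => ?_
    have h := main (F.T.s * n) (mul_mem F.T.s₁ hnA1)
      ((show Commute F.T.s F.T.t from F.T.ts.symm).mul_left (show Commute n F.T.t from hn)).eq
      (by
        rw [show F.T.s * n * F.y * (F.T.s * n)⁻¹ = F.T.s * (n * F.y * n⁻¹) * F.T.s⁻¹ by group,
          F.E_s (hE _ F.y_E)]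
        exact inv_mem (hE _ F.y_E))
      (by rw [c.one.P.ρ_mul _ F.T.s₁ n hnA1, det_mul, e,
            show (c.one.P.ρ F.T.s).det = -1 from F.T.swap.det_t₂]; decide) x hx
    rw [show F.T.s * n * x * (F.T.s * n)⁻¹ = F.T.s * (n * x * n⁻¹) * F.T.s⁻¹ by group,
      F.E_s (hE _ hx)] at h
    exact inv_eq_iff_eq_inv.1 h

/-- No fusion in `E` under the centraliser of `t`. -/
theorem fuse {x e e' : G} (hx : x * F.T.t = F.T.t * x) (he : e ∈ F.E) (he' : e' ∈ F.E) (he1 : e ≠ 1)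
    (h : x * e * x⁻¹ = e') : e' = e ∨ e' = e⁻¹ := by
  set R : Subgroup G := Subgroup.centralizer ({F.T.t} : Set G) ⊓ Subgroup.centralizer ({e} : Set G)
  have hER : F.E ≤ R := fun w hw =>
    ⟨Subgroup.mem_centralizer_singleton_iff.2 (F.E_t hw).symm,
      Subgroup.mem_centralizer_singleton_iff.2 (F.W₃_comm (F.E_le_W₃ hw) (F.E_le_W₃ he))⟩
  have hE3 : IsPGroup 3 (F.E.subgroupOf R) := fun w => ⟨1, Subtype.ext (Subtype.ext (by
    rw [pow_one]; exact F.E_cube (Subgroup.mem_subgroupOf.1 w.2)))⟩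
  obtain ⟨P, hP⟩ := exists_sylow_eq hE3 fun w hw hw3 => by
    have hwt : (w : G) * F.T.t = F.T.t * w := Subgroup.mem_centralizer_singleton_iff.1 w.2.1
    have hwe : (w : G) * e = e * w := Subgroup.mem_centralizer_singleton_iff.1 w.2.2
    have hmap : ∀ z ∈ F.E, (w : G) * z * (w : G)⁻¹ ∈ F.E := fun z hz =>
      Subgroup.mem_subgroupOf.1 ((Subgroup.mem_normalizer_iff.1 hw ⟨z, hER hz⟩).1
        (Subgroup.mem_subgroupOf.2 hz))
    rcases F.norm_E hwt hmap with hc | hc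
    · have h729 : (w : G) ^ 729 = 1 := by
        obtain ⟨k, hk⟩ := hw3
        have hk' : (w : G) ^ (3 ^ k) = 1 := by
          rw [← Subgroup.coe_pow, hk, Subgroup.coe_one]
        have hA : (w : G) ∈ c.one.A := c.one.mem_A_of_comm fun d hd => by
          obtain ⟨i, rfl⟩ := c.one.exists_pow_δ hd
          exact ((show Commute (w : G) c.one.δ from
            mul_inv_eq_iff_eq_mul.1 (hc _ F.δ_E)).pow_right _).eq
        have hcard : (w : G) ^ 11664 = 1 := by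
          have := pow_card_eq_one' (x := (⟨w, hA⟩ : c.one.A))
          rw [c.one.card_A] at this
          exact congrArg Subtype.val this
        have hg := pow_gcd_eq_one.2 ⟨hk', hcard⟩
        obtain ⟨j, hj, hj'⟩ := (Nat.dvd_prime_pow Nat.prime_three).1
          (Nat.gcd_dvd_left (3 ^ k) 11664)
        have hdiv : 3 ^ j ∣ 3 ^ 6 * 16 := by
          rw [← hj']
          exact Nat.gcd_dvd_right _ _
        have hd' : 3 ^ j ∣ 3 ^ 6 := (Nat.Coprime.pow_left j (by norm_num)).dvd_of_dvd_mul_right hdiv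
        rw [hj'] at hg
        obtain ⟨m, hm⟩ := hd'
        rw [show 729 = 3 ^ 6 from rfl, hm, pow_mul, hg, one_pow]
      exact Subgroup.mem_subgroupOf.2 (F.mem_E_of_fixed (F.three_cent_E h729
        (mul_inv_eq_iff_eq_mul.1 (hc _ F.δ_E)) (mul_inv_eq_iff_eq_mul.1 (hc _ F.y_E))) hwt.symm)
    · have h1 := hc e he
      rw [hwe, mul_inv_cancel_right] at h1
      exact absurd (eq_one_of_sq_cube (by nth_rw 1 [h1]; exact inv_mul_cancel _) (F.E_cube he)) he1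
  have hin : ∀ z ∈ F.E, x⁻¹ * z * x ∈ R := fun z hz => by
    refine ⟨Subgroup.mem_centralizer_singleton_iff.2 ?_, Subgroup.mem_centralizer_singleton_iff.2 ?_⟩
    · exact (((show Commute x F.T.t from hx).inv_left.mul_left
        (show Commute z F.T.t from (F.E_t hz).symm)).mul_left (show Commute x F.T.t from hx)).eq
    · rw [show e = x⁻¹ * e' * x by rw [← h]; group,
        show x⁻¹ * z * x * (x⁻¹ * e' * x) = x⁻¹ * (z * e') * x by group,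
        F.W₃_comm (F.E_le_W₃ hz) (F.E_le_W₃ he')]
      group
  set J : Subgroup R := (F.E.map (MulAut.conj x⁻¹).toMonoidHom).subgroupOf R
  have hJ : IsPGroup 3 J := fun w => ⟨1, Subtype.ext (Subtype.ext (by
    obtain ⟨z, hz, hzw⟩ := Subgroup.mem_subgroupOf.1 w.2
    rw [pow_one]
    show ((w : R) : G) ^ 3 = 1
    rw [← hzw, ← map_pow, F.E_cube hz, map_one]))⟩
  obtain ⟨Q, hQ⟩ := hJ.exists_le_sylow
  obtain ⟨q, hq⟩ := MulAction.exists_smul_eq R Q P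
  have key : ∀ z ∈ F.E, (q : G) * x⁻¹ * z * ((q : G) * x⁻¹)⁻¹ ∈ F.E := fun z hz => by
    have h1 : (⟨x⁻¹ * z * x, hin z hz⟩ : R) ∈ (Q : Subgroup R) :=
      hQ (Subgroup.mem_subgroupOf.2 ⟨z, hz, by simp⟩)
    have h2 : q * ⟨x⁻¹ * z * x, hin z hz⟩ * q⁻¹ ∈ (P : Subgroup R) := by
      rw [← hq]
      exact ⟨_, h1, by simp [MulAut.conj_apply]⟩
    rw [hP, Subgroup.mem_subgroupOf] at h2
    convert h2 using 1
    push_cast
    group
  have hqt : (q : G) * x⁻¹ * F.T.t = F.T.t * ((q : G) * x⁻¹) :=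
    ((show Commute (q : G) F.T.t from Subgroup.mem_centralizer_singleton_iff.1 q.2.1).mul_left
      (show Commute x F.T.t from hx).inv_left).eq
  have hqe : (q : G) * x⁻¹ * e' * ((q : G) * x⁻¹)⁻¹ = e := by
    rw [← h, show (q : G) * x⁻¹ * (x * e * x⁻¹) * ((q : G) * x⁻¹)⁻¹ = (q : G) * e * (q : G)⁻¹ by group,
      Subgroup.mem_centralizer_singleton_iff.1 q.2.2, mul_inv_cancel_right]
  rcases F.norm_E hqt key with hc | hc
  · rw [hc e' he'] at hqe; exact Or.inl hqe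
  · rw [hc e' he'] at hqe; exact Or.inr (inv_eq_iff_eq_inv.1 hqe)

/-- Conjugates of `δ₁` in `E`. -/
theorem conj_δ₁ {x : G} (h : x * c.one.δ * x⁻¹ ∈ F.E) :
    x * c.one.δ * x⁻¹ = c.one.δ ∨ x * c.one.δ * x⁻¹ = c.one.δ⁻¹ := by
  set u := x⁻¹ * F.T.t * x with hu
  have hc : u * c.one.δ = c.one.δ * u := by
    have h1 := F.E_t h
    calc u * c.one.δ = x⁻¹ * (F.T.t * (x * c.one.δ * x⁻¹)) * x := by rw [hu]; group
      _ = x⁻¹ * ((x * c.one.δ * x⁻¹) * F.T.t) * x := by rw [h1]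
      _ = c.one.δ * u := by rw [hu]; group
  have huu : u * u = 1 := by
    rw [hu, show x⁻¹ * F.T.t * x * (x⁻¹ * F.T.t * x) = x⁻¹ * (F.T.t * F.T.t) * x by group, F.T.tt,
      mul_one, inv_mul_cancel]
  have hu1 : u ≠ 1 := fun e => by
    rw [hu, show x⁻¹ * F.T.t * x = x⁻¹ * F.T.t * x⁻¹⁻¹ by group] at e
    have := F.T.ρt
    rw [conj_eq_one_iff.1 e, c.one.P.ρ_one] at this
    exact absurd this (by decide)
  obtain ⟨k, hk, hke⟩ := F.T.conj_invol huu hu1 hc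
  have hkδ : k * c.one.δ * k⁻¹ = c.one.δ := by
    rw [← c.one.Z_comm (c.one.D_le c.one.δ_mem) hk, mul_inv_cancel_right]
  have he : x * k * c.one.δ * (x * k)⁻¹ = x * c.one.δ * x⁻¹ := by
    rw [show x * k * c.one.δ * (x * k)⁻¹ = x * (k * c.one.δ * k⁻¹) * x⁻¹ by group, hkδ]
  refine F.fuse (x := x * k) ?_ F.δ_E h c.one.δ_ne he
  calc x * k * F.T.t = x * (k * F.T.t * k⁻¹) * k := by group
    _ = F.T.t * (x * k) := by rw [hke, hu]; group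

/-- Conjugates of `δ₂` in `E`. -/
theorem conj_δ₂ {x : G} (h : x * c.two.δ * x⁻¹ ∈ F.E) :
    x * c.two.δ * x⁻¹ = F.y ∨ x * c.two.δ * x⁻¹ = F.y⁻¹ := by
  set u := x⁻¹ * F.T.t * x with hu
  have hc : u * c.two.δ = c.two.δ * u := by
    have h1 := F.E_t h
    calc u * c.two.δ = x⁻¹ * (F.T.t * (x * c.two.δ * x⁻¹)) * x := by rw [hu]; group
      _ = x⁻¹ * ((x * c.two.δ * x⁻¹) * F.T.t) * x := by rw [h1]
      _ = c.two.δ * u := by rw [hu]; group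
  have huu : u * u = 1 := by
    rw [hu, show x⁻¹ * F.T.t * x * (x⁻¹ * F.T.t * x) = x⁻¹ * (F.T.t * F.T.t) * x by group, F.T.tt,
      mul_one, inv_mul_cancel]
  have hu1 : u ≠ 1 := fun e => by
    rw [hu, show x⁻¹ * F.T.t * x = x⁻¹ * F.T.t * x⁻¹⁻¹ by group] at e
    have := F.T.ρt
    rw [conj_eq_one_iff.1 e, c.one.P.ρ_one] at this
    exact absurd this (by decide)
  obtain ⟨k, hk, hke⟩ := F.T.swap.conj_invol huu hu1 hc
  change k * F.T.s * k⁻¹ = u at hke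
  change k ∈ c.two.Q at hk
  have hkδ : k * c.two.δ * k⁻¹ = c.two.δ := by
    rw [← c.two.Z_comm (c.two.D_le c.two.δ_mem) hk, mul_inv_cancel_right]
  have he : x * k * F.h⁻¹ * F.y * (x * k * F.h⁻¹)⁻¹ = x * c.two.δ * x⁻¹ := by
    rw [← F.hy, show x * k * F.h⁻¹ * (F.h * c.two.δ * F.h⁻¹) * (x * k * F.h⁻¹)⁻¹ =
      x * (k * c.two.δ * k⁻¹) * x⁻¹ by group, hkδ]
  refine F.fuse (x := x * k * F.h⁻¹) ?_ F.y_E h F.y_ne he
  calc x * k * F.h⁻¹ * F.T.t = x * (k * F.T.s * k⁻¹) * k * F.h⁻¹ := by rw [← F.hs]; group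
    _ = F.T.t * (x * k * F.h⁻¹) := by rw [hke, hu]; group

end Frame

end Setup

end CfsgLib.G2Amalgam
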