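import Cfsg.Agent.G2Amalgam.Local

/-!
# The amalgam of type `G₂(3)`: fusion of involutions

All involutions of the centraliser of `t` are conjugate to `t` in the whole group.
-/

set_option autoImplicit false
set_option linter.unusedSectionVars false
set_option linter.style.haveILetI false
set_option maxRecDepth 100000

namespace CfsgLib.G2Amalgam

open Matrix

attribute [local instance] fact_three'

theorem four_group {X : Type*} [Group X] [Finite X] {V : Subgroup X} (hV : Nat.card V = 4)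
    (hsq : ∀ v ∈ V, v * v = 1) {u w : X} (hu : u ∈ V) (hw : w ∈ V) (hu1 : u ≠ 1) (hw1 : w ≠ 1)
    (huw : u ≠ w) {v : X} (hv : v ∈ V) : v = 1 ∨ v = u ∨ v = w ∨ v = u * w := by
  classical
  have huw1 : u * w ≠ 1 := fun h => huw (by
    have := hsq u hu
    exact mul_left_cancel (this.trans h.symm))
  by_contra hcon
  push_neg at hcon
  have h5 : ({1, u, w, u * w, v} : Finset X).card = 5 := by
    rw [Finset.card_insert_of_notMem, Finset.card_insert_of_notMem, Finset.card_insert_of_notMem,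
      Finset.card_pair hcon.2.2.2.symm]
    · simp only [Finset.mem_insert, Finset.mem_singleton, not_or]
      exact ⟨fun h => hu1 (mul_eq_right.1 h.symm), hcon.2.2.1.symm⟩
    · simp only [Finset.mem_insert, Finset.mem_singleton, not_or]
      exact ⟨huw, fun h => hw1 (mul_eq_left.1 h.symm), hcon.2.1.symm⟩
    · simp only [Finset.mem_insert, Finset.mem_singleton, not_or]
      exact ⟨hu1.symm, hw1.symm, huw1.symm, hcon.1.symm⟩
  haveI := Fintype.ofFinite X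
  have hle : ({1, u, w, u * w, v} : Finset X).card ≤ Nat.card V := by
    rw [Nat.card_eq_fintype_card, Fintype.card_subtype]
    refine Finset.card_le_card fun x hx => Finset.mem_filter.2 ⟨Finset.mem_univ _, ?_⟩
    simp only [Finset.mem_insert, Finset.mem_singleton] at hx
    rcases hx with rfl | rfl | rfl | rfl | rfl
    · exact one_mem V
    · exact hu
    · exact hw
    · exact mul_mem hu hw
    · exact hv
  omega

variable {G : Type*} [Group G]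

namespace Setup

variable [Finite G] {c : Setup G}

namespace Frame

variable (F : c.Frame)

theorem part_sq_of_ne {v : G} (hv : v ∈ F.T.part) (h1 : v ≠ 1) (h2 : v ≠ F.T.t) : v * v = F.T.t :=
  (F.T.sq_cases hv.1 hv.2.1 hv.2.2).resolve_left fun h =>
    (F.T.part_invol hv h).elim h1 h2

theorem part_meet {v : G} (h1 : v ∈ F.T.part) (h2 : v ∈ F.partY) : v = 1 ∨ v = F.T.t :=
  F.part_fixed (F.mem_partY.1 h2).2.1 h1.2.1 h1.2.2 h1.1

theorem inv_of_sq {v : G} (hvv : v * v = F.T.t) : v⁻¹ = v * F.T.t :=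
  inv_eq_of_mul_eq_one_right (by rw [← mul_assoc, hvv, F.T.tt])

variable {F}

/-- A choice of axes. -/
structure Sel (F : c.Frame) where
  a : G
  b : G
  j₁ : G
  j₂ : G
  a_mem : a ∈ F.T.part
  b_mem : b ∈ F.partY
  aa : a * a = F.T.t
  bb : b * b = F.T.t
  sa : F.T.s * a * F.T.s⁻¹ = a⁻¹
  sb : F.T.s * b * F.T.s⁻¹ = b⁻¹
  j₁_mem : j₁ ∈ F.T.part
  j₂_mem : j₂ ∈ F.partY
  j₁j₁ : j₁ * j₁ = F.T.t
  j₂j₂ : j₂ * j₂ = F.T.t
  ja : j₁ * a * j₁⁻¹ = a⁻¹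
  jb : j₂ * b * j₂⁻¹ = b⁻¹

theorem exists_Sel (F : c.Frame) : Nonempty (Sel F) := by
  obtain ⟨a, ha, haa, hsa⟩ := F.T.flip_inverted F.T.ts.symm F.T.ss F.s_δ
  obtain ⟨b, hb, hbb, hsb⟩ := F.partY_inverted
  obtain ⟨j, hj, hjj, hja⟩ := F.T.exists_anti ha haa
  obtain ⟨k, hk, hkk, hkb⟩ := F.partY_anti hb hbb
  exact ⟨⟨a, b, j, k, ha, hb, haa, hbb, hsa, hsb, hj, hk, hjj, hkk, hja, hkb⟩⟩

variable (hc : F.Core)

include hc

theorem comm_L {x z : G} (hx : x ∈ F.L₁) (hz : z ∈ F.L₂) : x * z = z * x :=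
  (Subgroup.mem_centralizer_iff.1 (L_comm hc hx) z hz).symm

theorem comm_pY {x z : G} (hx : x ∈ F.T.part) (hz : z ∈ F.partY) : Commute x z := comm_parts hc hx hz

/-- The rotation fixing the class of a product fixes both factors. -/
theorem rot_fix {e : G} (he : e ∈ F.E) {a b : G} (ha : a ∈ F.T.part) (hb : b ∈ F.partY)
    (haa : a * a = F.T.t) (hbb : b * b = F.T.t)
    (h : e * (a * b) * e⁻¹ = a * b ∨ e * (a * b) * e⁻¹ = a * b * F.T.t) : e = 1 := by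
  obtain ⟨i, j, rfl⟩ := he
  set e := c.one.δ ^ i * F.y ^ j with hedef
  have he : e ∈ F.E := ⟨i, j, rfl⟩
  have het : e * F.T.t = F.T.t * e := (F.E_t he).symm
  have ha' : e * a * e⁻¹ ∈ F.T.part := F.part_conj (F.E_le_A₁ he) het ha
  have hb' : e * b * e⁻¹ ∈ F.partY := F.partY_conj het (Or.inl (by
    rw [F.W₃_comm (F.E_le_W₃ he) F.y_W₃, mul_inv_cancel_right])) hb
  have key : a⁻¹ * (e * a * e⁻¹) = 1 ∨ a⁻¹ * (e * a * e⁻¹) = F.T.t := by
    refine F.part_meet (mul_mem (inv_mem ha) ha') ?_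
    rcases h with h | h
    · rw [show a⁻¹ * (e * a * e⁻¹) = a⁻¹ * (e * (a * b) * e⁻¹) * (e * b * e⁻¹)⁻¹ by group, h,
        inv_mul_cancel_left]
      exact mul_mem hb (inv_mem hb')
    · rw [show a⁻¹ * (e * a * e⁻¹) = a⁻¹ * (e * (a * b) * e⁻¹) * (e * b * e⁻¹)⁻¹ by group, h,
        mul_assoc a b, inv_mul_cancel_left]
      exact mul_mem (mul_mem hb F.t_partY) (inv_mem hb')
  have key' : b⁻¹ * (e * b * e⁻¹) = 1 ∨ b⁻¹ * (e * b * e⁻¹) = F.T.t := by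
    have h2 : a * b = b * a := comm_parts hc ha hb
    refine F.part_meet ?_ (mul_mem (inv_mem hb) hb')
    rcases h with h | h
    · rw [show b⁻¹ * (e * b * e⁻¹) = b⁻¹ * ((e * a * e⁻¹)⁻¹ * (e * (a * b) * e⁻¹)) by group, h, h2]
      rw [show b⁻¹ * ((e * a * e⁻¹)⁻¹ * (b * a)) = (b⁻¹ * (e * a * e⁻¹)⁻¹ * b) * a by group,
        ← (comm_pY hc (inv_mem ha') (inv_mem hb)).eq, inv_mul_cancel_right]
      exact mul_mem (inv_mem ha') ha
    · rw [show b⁻¹ * (e * b * e⁻¹) = b⁻¹ * ((e * a * e⁻¹)⁻¹ * (e * (a * b) * e⁻¹)) by group, h, h2]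
      rw [show b⁻¹ * ((e * a * e⁻¹)⁻¹ * (b * a * F.T.t)) =
        (b⁻¹ * (e * a * e⁻¹)⁻¹ * b) * (a * F.T.t) by group,
        ← (comm_pY hc (inv_mem ha') (inv_mem hb)).eq, inv_mul_cancel_right]
      exact mul_mem (inv_mem ha') (mul_mem ha F.T.t_part)
  -- the images commute
  have hac : ∀ z : G, z = 1 ∨ z = F.T.t → (hz : z ∈ F.H) → ((⟨z, hz⟩ : F.H) : F.X) = 1 := by
    rintro z (rfl | rfl) hz
    · rfl
    · exact (QuotientGroup.eq_one_iff _).2 (Subgroup.mem_zpowers F.tH)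
  have heX : ((⟨e, F.E_H he⟩ : F.H) : F.X) = F.dX ^ i * F.yX ^ j := (F.coe_pow₂ i j).symm
  have hdy : Commute F.dX F.yX := F.xframe.comm
  have h3d : F.dX ^ 3 = 1 := EX_cube hc (dX_EX hc)
  have h3y : F.yX ^ 3 = 1 := EX_cube hc (yX_EX hc)
  have hcomm : ∀ (w : G) (hw : w ∈ F.H), w⁻¹ * (e * w * e⁻¹) = 1 ∨ w⁻¹ * (e * w * e⁻¹) = F.T.t →
      Commute (F.dX ^ i * F.yX ^ j) ((⟨w, hw⟩ : F.H) : F.X) := by
    intro w hw hk
    have h1 := hac _ hk (mul_mem (inv_mem hw) (mul_mem (mul_mem (F.E_H he) hw) (inv_mem (F.E_H he))))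
    rw [← heX]
    change (((⟨w, hw⟩ : F.H)⁻¹ * (⟨e, F.E_H he⟩ * ⟨w, hw⟩ * (⟨e, F.E_H he⟩)⁻¹) : F.H) : F.X) = 1 at h1
    rw [QuotientGroup.mk_mul, QuotientGroup.mk_mul, QuotientGroup.mk_mul, QuotientGroup.mk_inv,
      QuotientGroup.mk_inv, inv_mul_eq_one, eq_mul_inv_iff_mul_eq] at h1
    exact h1.symm
  have hAimg : ((⟨a, F.part_H ha⟩ : F.H) : F.X) ∈ F.img F.T.part := F.mem_img.2 ⟨_, ha, rfl⟩
  have hBimg : ((⟨b, F.partY_H hb⟩ : F.H) : F.X) ∈ F.img F.partY := F.mem_img.2 ⟨_, hb, rfl⟩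
  have hne : ∀ (w : G) (hw : w ∈ F.H), w * w = F.T.t → ((⟨w, hw⟩ : F.H) : F.X) ≠ 1 := by
    intro w hw hww h1
    rcases F.mem_tH ((QuotientGroup.eq_one_iff _).1 h1) with e' | e' <;> change w = _ at e' <;>
      subst e'
    · exact F.t_ne (by rw [← hww, one_mul])
    · exact F.t_ne (by rw [← hww, F.T.tt])
  have hyj : F.yX ^ j = 1 := by
    have hdv : Commute F.dX ((⟨a, F.part_H ha⟩ : F.H) : F.X) :=
      ((F.xframe.cent_d _).2 ⟨_, hAimg, 0, 0, by simp⟩).symm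
    have h := (hdv.pow_left i).inv_left.mul_left (hcomm a (F.part_H ha) key)
    rw [inv_mul_cancel_left] at h
    by_contra hne'
    refine hne a (F.part_H ha) haa (F.xframe.fpf_VD _ hAimg ?_)
    rw [pow_eq_pow_mod j h3y] at h hne'
    rcases (show j % 3 = 0 ∨ j % 3 = 1 ∨ j % 3 = 2 by omega) with e0 | e0 | e0 <;> rw [e0] at h hne'
    · exact absurd (pow_zero _) hne'
    · rw [pow_one] at h; exact h.eq.symm
    · have := h.pow_left 2
      rw [← pow_mul, show 2 * 2 = 3 + 1 from rfl, pow_succ, h3y, one_mul] at this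
      exact this.eq.symm
  have hdi : F.dX ^ i = 1 := by
    have hyv : Commute F.yX ((⟨b, F.partY_H hb⟩ : F.H) : F.X) :=
      ((F.xframe.cent_y _).2 ⟨_, hBimg, 0, 0, by simp⟩).symm
    have h := (hcomm b (F.partY_H hb) key').mul_left (hyv.pow_left j).inv_left
    rw [mul_inv_cancel_right] at h
    by_contra hne'
    refine hne b (F.partY_H hb) hbb (F.xframe.fpf_VY _ hBimg ?_)
    rw [pow_eq_pow_mod i h3d] at h hne'
    rcases (show i % 3 = 0 ∨ i % 3 = 1 ∨ i % 3 = 2 by omega) with e0 | e0 | e0 <;> rw [e0] at h hne'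
    · exact absurd (pow_zero _) hne'
    · rw [pow_one] at h; exact h.eq.symm
    · have := h.pow_left 2
      rw [← pow_mul, show 2 * 2 = 3 + 1 from rfl, pow_succ, h3d, one_mul] at this
      exact this.eq.symm
  rcases F.mem_tH ((QuotientGroup.eq_one_iff _).1 (show ((⟨e, F.E_H he⟩ : F.H) : F.X) = 1 by
    rw [heX, hdi, hyj, one_mul])) with e' | e'
  · exact e'
  · change e = F.T.t at e'
    have h3 := F.E_cube he
    rw [e', pow_succ, pow_two, F.T.tt, one_mul] at h3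
    exact absurd h3 F.t_ne

theorem s_plus {x : G} (hx : x ∈ F.plus) : F.T.s * x * F.T.s⁻¹ ∈ F.plus := by
  obtain ⟨a, ha, b, hb, e, he, rfl⟩ := decomp hc hx
  rw [show F.T.s * (a * b * e) * F.T.s⁻¹ = (F.T.s * a * F.T.s⁻¹) * (F.T.s * b * F.T.s⁻¹) *
    (F.T.s * e * F.T.s⁻¹) by group, F.E_s he]
  exact mul_mem (mul_mem (F.part_plus (F.part_conj F.T.s₁ F.T.ts.symm ha))
    (F.partY_plus (F.partY_conj F.T.ts.symm (Or.inr F.sy) hb))) (inv_mem (F.E_plus he))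

/-- The inverted factors. -/
theorem split_inverted {a b : G} (ha : a ∈ F.T.part) (hb : b ∈ F.partY)
    (h : a * b * F.T.s * (a * b * F.T.s) = 1) :
    F.T.s * a * F.T.s⁻¹ = a⁻¹ ∧ F.T.s * b * F.T.s⁻¹ = b⁻¹ := by
  set a' := F.T.s * a * F.T.s⁻¹ with ha'
  set b' := F.T.s * b * F.T.s⁻¹ with hb'
  have haP : a' ∈ F.T.part := F.part_conj F.T.s₁ F.T.ts.symm ha
  have hbP : b' ∈ F.partY := F.partY_conj F.T.ts.symm (Or.inr F.sy) hb
  have hprod : (a * a') * (b * b') = 1 := by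
    rw [← h, (comm_pY hc haP hb).mul_mul_mul_comm a b', ha', hb', F.T.si]
    calc a * b * (F.T.s * a * F.T.s * (F.T.s * b * F.T.s))
        = a * b * F.T.s * a * (F.T.s * F.T.s) * b * F.T.s := by group
      _ = _ := by rw [F.T.ss, mul_one]; group
  have hz := F.part_meet (mul_mem ha haP) (by
    rw [eq_inv_of_mul_eq_one_left hprod]; exact inv_mem (mul_mem hb hbP))
  have case : ∀ (v : G), (v * v = 1 → v = 1 ∨ v = F.T.t) → (v * v = 1 ∨ v * v = F.T.t) →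
      (v * v = F.T.t → F.T.s * v * F.T.s⁻¹ ≠ v) →
      v * (F.T.s * v * F.T.s⁻¹) = 1 ∨ v * (F.T.s * v * F.T.s⁻¹) = F.T.t →
      F.T.s * v * F.T.s⁻¹ = v⁻¹ := by
    intro v h1 h2 h3 h4
    rcases h4 with h4 | h4
    · exact eq_inv_of_mul_eq_one_right h4
    · exfalso
      rcases h2 with h2 | h2
      · have hfix : F.T.s * v * F.T.s⁻¹ = v := by
          rcases h1 h2 with e | e <;> rw [e]
          · simp
          · rw [← F.T.ts, mul_inv_cancel_right]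
        rw [hfix, h2] at h4
        exact F.t_ne h4.symm
      · exact h3 h2 (mul_left_cancel (h4.trans h2.symm))
  refine ⟨case a (fun h => F.T.part_invol ha h) (F.T.sq_cases ha.1 ha.2.1 ha.2.2)
    (fun h => F.T.flip_no_fix F.T.ts.symm F.T.ss F.s_δ ha h) hz,
    case b (fun h => F.partY_invol hb h) (F.partY_sq hb) (fun h => F.partY_no_fix hb h) ?_⟩
  rw [eq_inv_of_mul_eq_one_right hprod]
  rcases hz with e | e <;> rw [e]
  · exact Or.inl inv_one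
  · exact Or.inr F.T.ti

/-- Outer involutions are conjugate to `s`. -/
theorem outer_conj {x : G} (hxH : x ∈ F.H) (hxx : x * x = 1) (hx : x ∉ F.plus) :
    ∃ k ∈ F.H, k * F.T.s * k⁻¹ = x := by
  obtain ⟨a, ha, b, hb, e, he, hxs⟩ := decomp hc ((mem_H_cases hc hxH).resolve_left hx)
  have hf : e * e ∈ F.E := mul_mem he he
  set f := e * e with hfdef
  have hff : f * f = e := by
    rw [hfdef, show e * e * (e * e) = e ^ 3 * e by simp [pow_succ, mul_assoc], F.E_cube he, one_mul]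
  have hxe : x = a * b * e * F.T.s := by rw [← hxs, mul_assoc, F.T.ss, mul_one]
  have hsf : F.T.s * f⁻¹ * F.T.s⁻¹ = f := by rw [F.E_s (inv_mem hf), inv_inv]
  have hft : f⁻¹ * F.T.t = F.T.t * f⁻¹ := (F.E_t (inv_mem hf)).symm
  set a' := f⁻¹ * a * f⁻¹⁻¹ with ha'
  set b' := f⁻¹ * b * f⁻¹⁻¹ with hb'
  have haP : a' ∈ F.T.part := F.part_conj (F.E_le_A₁ (inv_mem hf)) hft ha
  have hbP : b' ∈ F.partY := F.partY_conj hft (Or.inl (by
    rw [F.W₃_comm (F.E_le_W₃ (inv_mem hf)) F.y_W₃, mul_inv_cancel_right])) hb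
  have hconj : f * (a' * b' * F.T.s) * f⁻¹ = x := by
    have h1 : F.T.s * f⁻¹ = f * F.T.s := mul_inv_eq_iff_eq_mul.1 hsf
    rw [ha', hb', hxe, inv_inv]
    calc f * (f⁻¹ * a * f * (f⁻¹ * b * f) * F.T.s) * f⁻¹ = a * b * f * (F.T.s * f⁻¹) := by group
      _ = a * b * (f * f) * F.T.s := by rw [h1]; group
      _ = a * b * e * F.T.s := by rw [hff]
  have hinvol : a' * b' * F.T.s * (a' * b' * F.T.s) = 1 := by
    have : f * (a' * b' * F.T.s * (a' * b' * F.T.s)) * f⁻¹ = 1 := by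
      rw [show f * (a' * b' * F.T.s * (a' * b' * F.T.s)) * f⁻¹ =
        f * (a' * b' * F.T.s) * f⁻¹ * (f * (a' * b' * F.T.s) * f⁻¹) by group, hconj, hxx]
    exact conj_eq_one_iff.1 this
  obtain ⟨h1, h2⟩ := split_inverted hc haP hbP hinvol
  obtain ⟨k₁, hk₁, hk₁e⟩ := F.T.flip_witness F.T.ts.symm F.T.ss F.s_δ haP h1
  obtain ⟨k₂, hk₂, hk₂e⟩ := F.partY_witness hbP h2
  refine ⟨f * k₂ * k₁, mul_mem (mul_mem (F.E_H hf) (F.partY_H hk₂)) (F.part_H hk₁), ?_⟩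
  calc f * k₂ * k₁ * F.T.s * (f * k₂ * k₁)⁻¹ = f * (k₂ * (k₁ * F.T.s * k₁⁻¹) * k₂⁻¹) * f⁻¹ := by group
    _ = f * (k₂ * a' * F.T.s * k₂⁻¹) * f⁻¹ := by rw [hk₁e]; group
    _ = f * (a' * (k₂ * F.T.s * k₂⁻¹)) * f⁻¹ := by rw [← (comm_pY hc haP hk₂).eq]; group
    _ = x := by rw [hk₂e, ← mul_assoc a', hconj]

variable (S : Sel F)

theorem a_conj {v : G} (hv : v ∈ F.T.part) (hvv : v * v = F.T.t) :
    ∃ g ∈ F.L₁, g * S.a * g⁻¹ = v := by
  have hne : ∀ {w : G} (hw : w ∈ F.T.part), w * w = F.T.t →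
      ((⟨w, F.part_H hw⟩ : F.H) : F.X) ≠ 1 := by
    intro w hw hww h1
    rcases F.mem_tH ((QuotientGroup.eq_one_iff _).1 h1) with e | e <;> change w = _ at e <;> subst e
    · exact F.t_ne (by rw [← hww, one_mul])
    · exact F.t_ne (by rw [← hww, F.T.tt])
  obtain ⟨i, hi⟩ := orbit_cover (V := F.img F.T.part) (r := F.yX) F.xframe.card_VD
    (EX_cube hc (yX_EX hc)) (fun u hu => F.xframe.norm_VD F.yX (by
      show F.yX * F.dX * F.yX⁻¹ ∈ Subgroup.zpowers F.dX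
      rw [← (show Commute F.dX F.yX from F.xframe.comm).eq, mul_inv_cancel_right]
      exact Subgroup.mem_zpowers _) u hu)
    (fun u hu => F.xframe.fpf_VD u hu) (F.mem_img.2 ⟨⟨S.a, F.part_H S.a_mem⟩, S.a_mem, rfl⟩)
    (hne S.a_mem S.aa) (F.mem_img.2 ⟨⟨v, F.part_H hv⟩, hv, rfl⟩) (hne hv hvv)
  have hi' : ((⟨v, F.part_H hv⟩ : F.H) : F.X) =
      (((⟨F.y, F.y_H⟩ : F.H) ^ i.val * ⟨S.a, F.part_H S.a_mem⟩ * ((⟨F.y, F.y_H⟩ : F.H) ^ i.val)⁻¹ :
        F.H) : F.X) := hi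
  have hy : F.y ^ i.val ∈ F.L₁ := pow_mem (Subgroup.mem_sup_right (Subgroup.mem_zpowers _)) _
  rcases F.eq_cases hi'.symm with e | e <;> push_cast at e
  · exact ⟨F.y ^ i.val, hy, e.symm⟩
  · refine ⟨F.y ^ i.val * S.j₁, mul_mem hy (Subgroup.mem_sup_left S.j₁_mem), ?_⟩
    rw [show F.y ^ i.val * S.j₁ * S.a * (F.y ^ i.val * S.j₁)⁻¹ =
      F.y ^ i.val * (S.j₁ * S.a * S.j₁⁻¹) * (F.y ^ i.val)⁻¹ by group, S.ja, F.inv_of_sq S.aa, e,
      show F.y ^ i.val * S.a * (F.y ^ i.val)⁻¹ * F.T.t = F.y ^ i.val * S.a *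
        ((F.y ^ i.val)⁻¹ * F.T.t) by group,
      ((show Commute F.y F.T.t from F.ty.symm).pow_left i.val).inv_left.eq]
    group

theorem b_conj {v : G} (hv : v ∈ F.partY) (hvv : v * v = F.T.t) :
    ∃ g ∈ F.L₂, g * S.b * g⁻¹ = v := by
  have hne : ∀ {w : G} (hw : w ∈ F.partY), w * w = F.T.t →
      ((⟨w, F.partY_H hw⟩ : F.H) : F.X) ≠ 1 := by
    intro w hw hww h1
    rcases F.mem_tH ((QuotientGroup.eq_one_iff _).1 h1) with e | e <;> change w = _ at e <;> subst e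
    · exact F.t_ne (by rw [← hww, one_mul])
    · exact F.t_ne (by rw [← hww, F.T.tt])
  obtain ⟨i, hi⟩ := orbit_cover (V := F.img F.partY) (r := F.dX) F.xframe.card_VY
    (EX_cube hc (dX_EX hc)) (fun u hu => F.xframe.norm_VY F.dX (by
      show F.dX * F.yX * F.dX⁻¹ ∈ Subgroup.zpowers F.yX
      rw [(show Commute F.dX F.yX from F.xframe.comm).eq, mul_inv_cancel_right]
      exact Subgroup.mem_zpowers _) u hu)
    (fun u hu => F.xframe.fpf_VY u hu) (F.mem_img.2 ⟨⟨S.b, F.partY_H S.b_mem⟩, S.b_mem, rfl⟩)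
    (hne S.b_mem S.bb) (F.mem_img.2 ⟨⟨v, F.partY_H hv⟩, hv, rfl⟩) (hne hv hvv)
  have hi' : ((⟨v, F.partY_H hv⟩ : F.H) : F.X) =
      (((⟨c.one.δ, F.δ_H⟩ : F.H) ^ i.val * ⟨S.b, F.partY_H S.b_mem⟩ *
        ((⟨c.one.δ, F.δ_H⟩ : F.H) ^ i.val)⁻¹ : F.H) : F.X) := hi
  have hy : c.one.δ ^ i.val ∈ F.L₂ := pow_mem (Subgroup.mem_sup_right (Subgroup.mem_zpowers _)) _
  rcases F.eq_cases hi'.symm with e | e <;> push_cast at e
  · exact ⟨c.one.δ ^ i.val, hy, e.symm⟩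
  · refine ⟨c.one.δ ^ i.val * S.j₂, mul_mem hy (Subgroup.mem_sup_left S.j₂_mem), ?_⟩
    rw [show c.one.δ ^ i.val * S.j₂ * S.b * (c.one.δ ^ i.val * S.j₂)⁻¹ =
      c.one.δ ^ i.val * (S.j₂ * S.b * S.j₂⁻¹) * (c.one.δ ^ i.val)⁻¹ by group, S.jb,
      F.inv_of_sq S.bb, e,
      show c.one.δ ^ i.val * S.b * (c.one.δ ^ i.val)⁻¹ * F.T.t = c.one.δ ^ i.val * S.b *
        ((c.one.δ ^ i.val)⁻¹ * F.T.t) by group,
      ((show Commute c.one.δ F.T.t from (F.T.comm_D₁ c.one.δ_mem).symm).pow_left i.val).inv_left.eq]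
    group

/-- The inner involutions. -/
theorem plus_invol {x : G} (hx : x ∈ F.plus) (hxx : x * x = 1) (hx1 : x ≠ 1) (hxt : x ≠ F.T.t) :
    ∃ a ∈ F.T.part, ∃ b ∈ F.partY, a * a = F.T.t ∧ b * b = F.T.t ∧ x = a * b := by
  obtain ⟨a, ha, b, hb, e, he, rfl⟩ := decomp hc hx
  haveI := MX_normal hc
  set aq : F.X := ((⟨a, F.part_H ha⟩ : F.H) : F.X)
  set bq : F.X := ((⟨b, F.partY_H hb⟩ : F.H) : F.X)
  set eq' : F.X := ((⟨e, F.E_H he⟩ : F.H) : F.X)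
  have hm : aq * bq ∈ F.MX := mul_mem (Subgroup.mem_sup_left (F.mem_img.2 ⟨_, ha, rfl⟩))
    (Subgroup.mem_sup_right (F.mem_img.2 ⟨_, hb, rfl⟩))
  have heE : eq' ∈ F.EX := F.mem_img.2 ⟨_, he, rfl⟩
  have hsq : aq * bq * eq' * (aq * bq * eq') = 1 := by
    show ((((⟨a, F.part_H ha⟩ : F.H) * ⟨b, F.partY_H hb⟩ * ⟨e, F.E_H he⟩) *
      ((⟨a, F.part_H ha⟩ : F.H) * ⟨b, F.partY_H hb⟩ * ⟨e, F.E_H he⟩) : F.H) : F.X) = 1
    rw [show ((⟨a, F.part_H ha⟩ : F.H) * ⟨b, F.partY_H hb⟩ * ⟨e, F.E_H he⟩) *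
      ((⟨a, F.part_H ha⟩ : F.H) * ⟨b, F.partY_H hb⟩ * ⟨e, F.E_H he⟩) = 1 from Subtype.ext hxx]
    rfl
  have hee : eq' * eq' = 1 := by
    refine MX_EX hc ?_ (mul_mem heE heE)
    have h1 : eq' * eq' = (eq' * (aq * bq) * eq'⁻¹)⁻¹ * ((aq * bq)⁻¹ * (aq * bq * eq' * (aq * bq * eq')))
        := by
      rw [hsq, mul_one]
      calc eq' * eq' = (eq' * (aq * bq) * eq'⁻¹)⁻¹ *
            ((aq * bq)⁻¹ * (aq * bq * eq' * (aq * bq * eq'))) := by group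
        _ = _ := by rw [hsq, mul_one]
    rw [h1, hsq, mul_one]
    exact mul_mem (inv_mem (Subgroup.Normal.conj_mem inferInstance _ hm _)) (inv_mem hm)
  have he1 : e = 1 := by
    have h1 : eq' = 1 := eq_one_of_sq_cube hee (EX_cube hc heE)
    rcases F.mem_tH ((QuotientGroup.eq_one_iff _).1 h1) with e' | e'
    · exact e'
    · change e = F.T.t at e'
      have h3 := F.E_cube he
      rw [e', pow_succ, pow_two, F.T.tt, one_mul] at h3
      exact absurd h3 F.t_ne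
  subst he1
  rw [mul_one] at hxx hx1 hxt ⊢
  rw [(comm_pY hc ha hb).symm.mul_mul_mul_comm a b] at hxx
  have hcase : ∀ {v w : G}, v * w = 1 → w = 1 ∨ w = F.T.t → v = 1 ∨ v = F.T.t := by
    rintro v w h (rfl | rfl)
    · left; rwa [mul_one] at h
    · right; rw [eq_inv_of_mul_eq_one_left h, F.T.ti]
  refine ⟨a, ha, b, hb, ?_, ?_, rfl⟩
  · refine (F.T.sq_cases ha.1 ha.2.1 ha.2.2).resolve_left fun h => ?_
    rw [h, one_mul] at hxx
    rcases F.T.part_invol ha h with e1 | e1 <;> rcases F.partY_invol hb hxx with e2 | e2 <;>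
      simp [e1, e2, F.T.tt] at hx1 hxt
  · refine (F.partY_sq hb).resolve_left fun h => ?_
    rw [h, mul_one] at hxx
    rcases F.T.part_invol ha hxx with e1 | e1 <;> rcases F.partY_invol hb h with e2 | e2 <;>
      simp [e1, e2, F.T.tt] at hx1 hxt

/-- Inner involutions are conjugate to `a b`. -/
theorem inner_conj {x : G} (hx : x ∈ F.plus) (hxx : x * x = 1) (hx1 : x ≠ 1) (hxt : x ≠ F.T.t) :
    ∃ k ∈ F.H, k * (S.a * S.b) * k⁻¹ = x := by
  obtain ⟨a, ha, b, hb, haa, hbb, rfl⟩ := plus_invol hc hx hxx hx1 hxt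
  obtain ⟨g₁, hg₁, e₁⟩ := a_conj hc S ha haa
  obtain ⟨g₂, hg₂, e₂⟩ := b_conj hc S hb hbb
  refine ⟨g₁ * g₂, mul_mem (F.plus_le (F.L₁_plus hg₁)) (F.plus_le (F.L₂_plus hg₂)), ?_⟩
  calc g₁ * g₂ * (S.a * S.b) * (g₁ * g₂)⁻¹ = g₁ * (g₂ * S.a) * S.b * g₂⁻¹ * g₁⁻¹ := by group
    _ = g₁ * S.a * (g₂ * S.b * g₂⁻¹) * g₁⁻¹ := by
      rw [← comm_L hc (Subgroup.mem_sup_left S.a_mem) hg₂]; group
    _ = g₁ * S.a * (b * g₁⁻¹) := by rw [e₂]; group
    _ = a * b := by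
      rw [← comm_L hc (inv_mem hg₁) (Subgroup.mem_sup_left hb), ← mul_assoc, e₁]

theorem e₀_invol : S.a * S.b * (S.a * S.b) = 1 := by
  rw [(comm_pY hc S.a_mem S.b_mem).symm.mul_mul_mul_comm, S.aa, S.bb, F.T.tt]

theorem e₀_s : Commute F.T.s (S.a * S.b) := by
  show F.T.s * (S.a * S.b) = S.a * S.b * F.T.s
  rw [← mul_inv_eq_iff_eq_mul, show F.T.s * (S.a * S.b) * F.T.s⁻¹ =
    (F.T.s * S.a * F.T.s⁻¹) * (F.T.s * S.b * F.T.s⁻¹) by group, S.sa, S.sb, F.inv_of_sq S.aa,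
    F.inv_of_sq S.bb, show S.a * F.T.t * (S.b * F.T.t) = S.a * (F.T.t * S.b) * F.T.t by group,
    ← (F.mem_partY.1 S.b_mem).1, show S.a * (S.b * F.T.t) * F.T.t = S.a * S.b * (F.T.t * F.T.t) by
      group, F.T.tt, mul_one]

theorem e₀_t : Commute (S.a * S.b) F.T.t :=
  (show Commute S.a F.T.t from S.a_mem.1).mul_left (F.mem_partY.1 S.b_mem).1

theorem e₀_plus : S.a * S.b ∈ F.plus := mul_mem (F.part_plus S.a_mem) (F.partY_plus S.b_mem)

theorem e₀_ne : S.a * S.b ≠ 1 ∧ S.a * S.b ≠ F.T.t := by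
  have hno : ¬ (S.a = 1 ∨ S.a = F.T.t) := by
    rintro (e | e) <;> have := S.aa <;> rw [e] at this
    · exact F.t_ne (by rw [← this, one_mul])
    · exact F.t_ne (by rw [← this, F.T.tt])
  constructor <;> intro h <;> refine hno (F.part_meet S.a_mem ?_)
  · rw [eq_inv_of_mul_eq_one_left h]; exact inv_mem S.b_mem
  · rw [eq_mul_inv_of_mul_eq h]; exact mul_mem F.t_partY (inv_mem S.b_mem)

theorem j_e₀ : S.j₁ * (S.a * S.b) * S.j₁⁻¹ = S.a * S.b * F.T.t := by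
  rw [show S.j₁ * (S.a * S.b) * S.j₁⁻¹ = (S.j₁ * S.a * S.j₁⁻¹) * (S.j₁ * S.b * S.j₁⁻¹) by group, S.ja,
    (comm_pY hc S.j₁_mem S.b_mem).eq, mul_inv_cancel_right, F.inv_of_sq S.aa, mul_assoc S.a,
    ← (F.mem_partY.1 S.b_mem).1, ← mul_assoc]

/-- `a b` is conjugate to `t`. -/
theorem exists_e_t : ∃ g : G, g * (S.a * S.b) * g⁻¹ = F.T.t := by
  set x := F.h * F.T.t * F.h⁻¹ with hx
  have hmove : ∀ u : G, Commute u F.T.s → F.h * u * F.h⁻¹ ∈ F.H := fun u hu => F.mem_H.2 (by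
    rw [← F.hs, show F.h * u * F.h⁻¹ * (F.h * F.T.s * F.h⁻¹) = F.h * (u * F.T.s) * F.h⁻¹ by group,
      hu.eq]
    group)
  have hxH : x ∈ F.H := hmove _ F.T.ts
  have hxx : x * x = 1 := by
    rw [hx, show F.h * F.T.t * F.h⁻¹ * (F.h * F.T.t * F.h⁻¹) = F.h * (F.T.t * F.T.t) * F.h⁻¹ by group,
      F.T.tt, mul_one, mul_inv_cancel]
  by_cases hp : x ∈ F.plus
  · obtain ⟨k, -, hk⟩ := inner_conj hc S hp hxx (fun h => F.t_ne (conj_eq_one_iff.1 h)) (fun h => by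
      rw [hx] at h
      refine F.s_ne_t (mul_left_cancel (a := F.h) (mul_right_cancel (b := F.h⁻¹) ?_))
      rw [h, F.hs])
    refine ⟨F.h⁻¹ * k, ?_⟩
    rw [show F.h⁻¹ * k * (S.a * S.b) * (F.h⁻¹ * k)⁻¹ = F.h⁻¹ * (k * (S.a * S.b) * k⁻¹) * F.h by group,
      hk, hx]
    group
  · have he := (e₀_s hc S).symm
    have het : Commute (S.a * S.b * F.T.t) F.T.s := he.mul_left F.T.ts
    have key : ∀ u : G, Commute u F.T.s → u * u = 1 → F.h * u * F.h⁻¹ ∉ F.plus →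
        ∃ g : G, g * u * g⁻¹ = F.T.t := by
      intro u hu huu hnp
      obtain ⟨k, -, hk⟩ := outer_conj hc (hmove u hu) (by
        rw [show F.h * u * F.h⁻¹ * (F.h * u * F.h⁻¹) = F.h * (u * u) * F.h⁻¹ by group, huu, mul_one,
          mul_inv_cancel]) hnp
      refine ⟨F.h * k⁻¹ * F.h, ?_⟩
      rw [show F.h * k⁻¹ * F.h * u * (F.h * k⁻¹ * F.h)⁻¹ =
        F.h * (k⁻¹ * (F.h * u * F.h⁻¹) * k) * F.h⁻¹ by group, ← hk,
        show k⁻¹ * (k * F.T.s * k⁻¹) * k = F.T.s by group, F.hs]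
    by_cases hu : F.h * (S.a * S.b) * F.h⁻¹ ∈ F.plus
    · have hnp : F.h * (S.a * S.b * F.T.t) * F.h⁻¹ ∉ F.plus := fun h => hp (by
        rw [show x = (F.h * (S.a * S.b) * F.h⁻¹)⁻¹ * (F.h * (S.a * S.b * F.T.t) * F.h⁻¹) by
          rw [hx]; group]
        exact mul_mem (inv_mem hu) h)
      obtain ⟨g, hg⟩ := key _ het (by
        rw [(e₀_t hc S).symm.mul_mul_mul_comm, e₀_invol hc S, F.T.tt, one_mul]) hnp
      refine ⟨g * S.j₁, ?_⟩
      rw [show g * S.j₁ * (S.a * S.b) * (g * S.j₁)⁻¹ = g * (S.j₁ * (S.a * S.b) * S.j₁⁻¹) * g⁻¹ by group,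
        j_e₀ hc S, hg]
    · exact key _ he (e₀_invol hc S) hu

/-- A rotation of the four group `⟨t, a b⟩`. -/
theorem exists_rot : ∃ r : G, r * F.T.t * r⁻¹ = S.a * S.b * F.T.t ∧ r * (S.a * S.b) * r⁻¹ = F.T.t := by
  obtain ⟨g, hg⟩ := exists_e_t hc S
  have hat : Commute S.a (S.a * S.b) := (Commute.refl S.a).mul_right (comm_pY hc S.a_mem S.b_mem)
  have hwH : g * S.a * g⁻¹ ∈ F.H := F.mem_H.2 (by
    rw [← hg, show g * S.a * g⁻¹ * (g * (S.a * S.b) * g⁻¹) = g * (S.a * (S.a * S.b)) * g⁻¹ by group,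
      hat.eq]
    group)
  have hz : g * F.T.t * g⁻¹ = g * S.a * g⁻¹ * (g * S.a * g⁻¹) := by
    rw [show g * S.a * g⁻¹ * (g * S.a * g⁻¹) = g * (S.a * S.a) * g⁻¹ by group, S.aa]
  have hzp : g * F.T.t * g⁻¹ ∈ F.plus := by
    have hidx : (F.plus.subgroupOf F.H).index = 2 := by
      have := relIndex hc
      rwa [plus_eq hc, Subgroup.relIndex] at this
    rw [hz]
    exact Subgroup.mem_subgroupOf.1 (Subgroup.mul_self_mem_of_index_two hidx ⟨_, hwH⟩)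
  obtain ⟨k, hkH, hk⟩ := inner_conj hc S hzp (by
    rw [show g * F.T.t * g⁻¹ * (g * F.T.t * g⁻¹) = g * (F.T.t * F.T.t) * g⁻¹ by group, F.T.tt,
      mul_one, mul_inv_cancel]) (fun h => F.t_ne (conj_eq_one_iff.1 h)) (fun h => (e₀_ne hc S).2 (by
    exact (mul_left_cancel (mul_right_cancel (h.trans hg.symm))).symm))
  have hkt : k⁻¹ * F.T.t * k = F.T.t := by
    rw [mul_assoc, ← F.mem_H.1 hkH, inv_mul_cancel_left]
  refine ⟨S.j₁ * k⁻¹ * g, ?_, ?_⟩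
  · rw [show S.j₁ * k⁻¹ * g * F.T.t * (S.j₁ * k⁻¹ * g)⁻¹ =
      S.j₁ * (k⁻¹ * (g * F.T.t * g⁻¹) * k) * S.j₁⁻¹ by group, ← hk,
      show k⁻¹ * (k * (S.a * S.b) * k⁻¹) * k = S.a * S.b by group, j_e₀ hc S]
  · rw [show S.j₁ * k⁻¹ * g * (S.a * S.b) * (S.j₁ * k⁻¹ * g)⁻¹ =
      S.j₁ * (k⁻¹ * (g * (S.a * S.b) * g⁻¹) * k) * S.j₁⁻¹ by group, hg, hkt, S.j₁_mem.1,
      mul_inv_cancel_right]

end Frame

end Setup

end CfsgLib.G2Amalgam
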