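import Mathlib.GroupTheory.Sylow
import Mathlib.GroupTheory.OrderOfElement

/-!
# The centraliser of an involution modulo the involution: hypotheses
-/

set_option autoImplicit false

namespace CfsgLib.G2Amalgam

/-- A group with an elementary subgroup `⟨d, y⟩` of order nine inverted by `s`, self-centralising at
the diagonal elements, and with four groups in the centralisers of `d` and `y`. -/
structure XFrame (X : Type*) [Group X] where
  d : X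
  y : X
  s : X
  VD : Subgroup X
  VY : Subgroup X
  d_ord : orderOf d = 3
  y_ord : orderOf y = 3
  s_ord : orderOf s = 2
  comm : d * y = y * d
  y_notMem : y ∉ Subgroup.zpowers d
  s_inv_d : s * d * s = d⁻¹
  s_inv_y : s * y * s = y⁻¹
  card_VD : Nat.card VD = 4
  card_VY : Nat.card VY = 4
  sq_VD : ∀ v ∈ VD, v * v = 1
  sq_VY : ∀ v ∈ VY, v * v = 1
  cent_d : ∀ x, x * d = d * x ↔ ∃ v ∈ VD, ∃ i j : ℕ, x = v * d ^ i * y ^ j
  cent_y : ∀ x, x * y = y * x ↔ ∃ v ∈ VY, ∃ i j : ℕ, x = v * d ^ i * y ^ j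
  cent_diag : ∀ e, e = d * y ∨ e = d * y⁻¹ → ∀ x, x * e = e * x → ∃ i j : ℕ, x = d ^ i * y ^ j
  norm_VD : ∀ x, x * d * x⁻¹ ∈ Subgroup.zpowers d → ∀ v ∈ VD, x * v * x⁻¹ ∈ VD
  norm_VY : ∀ x, x * y * x⁻¹ ∈ Subgroup.zpowers y → ∀ v ∈ VY, x * v * x⁻¹ ∈ VY
  fpf_VD : ∀ v ∈ VD, v * y = y * v → v = 1
  fpf_VY : ∀ v ∈ VY, v * d = d * v → v = 1
  nonfused : ∀ i j k l : ℕ, d ^ i * y ^ j ≠ 1 → IsConj (d ^ i * y ^ j) (d ^ k * y ^ l) →
    d ^ k * y ^ l = d ^ i * y ^ j ∨ d ^ k * y ^ l = (d ^ i * y ^ j)⁻¹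
  not_conj_VD : ∀ v ∈ VD, ¬ IsConj s v
  not_conj_VY : ∀ v ∈ VY, ¬ IsConj s v

end CfsgLib.G2Amalgam
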