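import Cfsg.Agent.G2Amalgam.Vee
import Cfsg.Agent.G2Amalgam.XFrame

/-!
# The amalgam of type `G₂(3)`: the centraliser of the involution modulo the involution

The centralisers of `δ₁` and `y` in the centraliser of `t` are `E` times a quaternion group.
-/

set_option autoImplicit false
set_option linter.unusedSectionVars false
set_option linter.style.haveILetI false
set_option maxRecDepth 100000

namespace CfsgLib.G2Amalgam

open Matrix

attribute [local instance] fact_three'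

variable {G : Type*} [Group G]

theorem quat_closed : ∀ M N : Mat, M.det = 1 → N.det = 1 → M ^ 4 = 1 → N ^ 4 = 1 →
    (M * N * (M * N) = 1 ∨ M * N * (M * N) = -1) ∧ (M * M = 1 ∨ M * M = -1) := by
  have key : ∀ M : Mat, M.det = 1 → M ^ 4 = 1 → M ∈ ([1, -1, !![0, 1; 2, 0], !![0, 2; 1, 0],
      !![1, 1; 1, 2], !![2, 2; 2, 1], !![2, 1; 1, 1], !![1, 2; 2, 2]] : List Mat) := by
    decide +kernel
  intro M N hM hN hM4 hN4
  have h : ∀ P ∈ ([1, -1, !![0, 1; 2, 0], !![0, 2; 1, 0],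
      !![1, 1; 1, 2], !![2, 2; 2, 1], !![2, 1; 1, 1], !![1, 2; 2, 2]] : List Mat),
      ∀ R ∈ ([1, -1, !![0, 1; 2, 0], !![0, 2; 1, 0],
      !![1, 1; 1, 2], !![2, 2; 2, 1], !![2, 1; 1, 1], !![1, 2; 2, 2]] : List Mat),
      (P * R * (P * R) = 1 ∨ P * R * (P * R) = -1) ∧ (P * P = 1 ∨ P * P = -1) := by
    decide +kernel
  exact h M (key M hM hM4) N (key N hN hN4)

theorem card_quat : Nat.card {M : Mat // M.det = 1 ∧ M ^ 4 = 1} = 8 := by
  rw [Nat.card_eq_fintype_card]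
  decide +kernel

namespace Setup

variable [Finite G] {c : Setup G}

namespace Torus

variable (T : c.Torus)

theorem ρ_center {z : G} (hz : z ∈ c.one.A) : c.one.P.ρ z * (-1) = (-1) * c.one.P.ρ z := by
  rw [mul_neg_one, neg_one_mul]

/-- Lifts of determinant one commuting with `t`. -/
theorem exists_lift {M : Mat} (hM : M.det = 1) : ∃ x ∈ c.one.A,
    x * T.t = T.t * x ∧ x * c.one.δ = c.one.δ * x ∧ c.one.P.ρ x = M := by
  obtain ⟨a, ha, rfl⟩ := c.one.P.ρ_surj M (by rw [hM]; decide)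
  have hat : a * T.t * a⁻¹ ∈ c.one.A := mul_mem (mul_mem ha T.t₁) (inv_mem ha)
  obtain ⟨k, hk, hkt⟩ := c.one.exists_conj T.t₁ hat T.tt
    (by rw [show a * T.t * a⁻¹ * (a * T.t * a⁻¹) = a * (T.t * T.t) * a⁻¹ by group, T.tt, mul_one,
      mul_inv_cancel])
    (by rw [c.one.P.ρ_mul _ (mul_mem ha T.t₁) _ (inv_mem ha), c.one.P.ρ_mul a ha _ T.t₁, T.ρt,
      mul_neg_one, neg_mul, c.one.P.ρ_inv ha])
  have hρ : c.one.P.ρ (k⁻¹ * a) = c.one.P.ρ a :=
    c.one.P.ρ_Q_mul ha (inv_mem (c.one.Q_le hk)) (inv_mem hk)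
  refine ⟨k⁻¹ * a, mul_mem (inv_mem (c.one.Q_le hk)) ha, ?_, ?_, hρ⟩
  · calc k⁻¹ * a * T.t = k⁻¹ * (a * T.t * a⁻¹) * a := by group
      _ = T.t * (k⁻¹ * a) := by rw [← hkt]; group
  · exact c.one.comm_D (mul_mem (inv_mem (c.one.Q_le hk)) ha) c.one.δ_mem (by rw [hρ, hM])

include T in
theorem mem_A_of {x : G} (hxδ : x * c.one.δ = c.one.δ * x) : x ∈ c.one.A :=
  c.one.mem_A_of_comm fun d hd => by
    obtain ⟨i, rfl⟩ := c.one.exists_pow_δ hd
    exact ((show Commute x c.one.δ from hxδ).pow_right _).eq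

theorem ρ_pm {x : G} (hxt : x * T.t = T.t * x) (hxδ : x * c.one.δ = c.one.δ * x)
    (h : c.one.P.ρ x = 1 ∨ c.one.P.ρ x = -1) : x ∈ c.one.D ∨ x * T.t ∈ c.one.D := by
  have hx := T.mem_A_of hxδ
  rcases h with h | h
  · exact Or.inl (T.cent_Q₁ ((c.one.P.ρ_ker _ hx).1 h) hxt.symm)
  · refine Or.inr (T.cent_Q₁ ((c.one.P.ρ_ker _ (mul_mem hx T.t₁)).1 ?_) ?_)
    · rw [c.one.P.ρ_mul _ hx _ T.t₁, h, T.ρt]; decide
    · rw [← mul_assoc, ← hxt]

theorem t_pow_four : T.t ^ 4 = 1 := by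
  rw [show T.t ^ 4 = (T.t * T.t) * (T.t * T.t) by simp [pow_succ, mul_assoc], T.tt, one_mul]

theorem D_four {x : G} (hx : x ∈ c.one.D) (h : x ^ 4 = 1) : x = 1 := by
  rwa [pow_succ, c.one.D_pow hx, one_mul] at h

/-- An element of order dividing four above `±1`. -/
theorem pm_cases {x : G} (hxt : x * T.t = T.t * x) (hxδ : x * c.one.δ = c.one.δ * x)
    (h : c.one.P.ρ x = 1 ∨ c.one.P.ρ x = -1) (h4 : x ^ 4 = 1) : x = 1 ∨ x = T.t := by
  rcases T.ρ_pm hxt hxδ h with e | e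
  · exact Or.inl (D_four e h4)
  · have := D_four e (by rw [(show Commute x T.t from hxt).mul_pow, h4, T.t_pow_four, one_mul])
    exact Or.inr (by rw [eq_inv_of_mul_eq_one_left this, T.ti])

include T in
theorem ρ_four {x : G} (hxδ : x * c.one.δ = c.one.δ * x) (h4 : x ^ 4 = 1) :
    (c.one.P.ρ x).det = 1 ∧ c.one.P.ρ x ^ 4 = 1 := by
  have hx := T.mem_A_of hxδ
  exact ⟨c.one.det_of_comm hx c.one.δ_mem c.one.δ_ne hxδ,
    by rw [← c.one.P.ρ_pow hx, h4, c.one.P.ρ_one]⟩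

theorem sq_cases {x : G} (hxt : x * T.t = T.t * x) (hxδ : x * c.one.δ = c.one.δ * x)
    (h4 : x ^ 4 = 1) : x * x = 1 ∨ x * x = T.t := by
  obtain ⟨hd, hρ⟩ := T.ρ_four hxδ h4
  refine T.pm_cases (((show Commute x T.t from hxt).mul_left hxt).eq)
    (((show Commute x c.one.δ from hxδ).mul_left hxδ).eq) ?_ ?_
  · rw [c.one.P.ρ_mul x (T.mem_A_of hxδ) x (T.mem_A_of hxδ)]
    exact (quat_closed _ _ hd hd hρ hρ).2
  · rw [← pow_two, ← pow_mul, mul_comm, pow_mul, h4, one_pow]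

theorem part_mul {a b : G} (ha : a * T.t = T.t * a ∧ a * c.one.δ = c.one.δ * a ∧ a ^ 4 = 1)
    (hb : b * T.t = T.t * b ∧ b * c.one.δ = c.one.δ * b ∧ b ^ 4 = 1) :
    a * b * T.t = T.t * (a * b) ∧ a * b * c.one.δ = c.one.δ * (a * b) ∧ (a * b) ^ 4 = 1 := by
  obtain ⟨ha1, ha2, ha4⟩ := ha
  obtain ⟨hb1, hb2, hb4⟩ := hb
  have h1 : Commute (a * b) T.t := (show Commute a T.t from ha1).mul_left hb1
  have h2 : Commute (a * b) c.one.δ := (show Commute a c.one.δ from ha2).mul_left hb2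
  refine ⟨h1.eq, h2.eq, ?_⟩
  have haA := T.mem_A_of ha2
  have hbA := T.mem_A_of hb2
  obtain ⟨hda, hra⟩ := T.ρ_four ha2 ha4
  obtain ⟨hdb, hrb⟩ := T.ρ_four hb2 hb4
  have hρ : c.one.P.ρ (a * b * (a * b)) = 1 ∨ c.one.P.ρ (a * b * (a * b)) = -1 := by
    rw [c.one.P.ρ_mul _ (mul_mem haA hbA) _ (mul_mem haA hbA), c.one.P.ρ_mul a haA b hbA]
    exact (quat_closed _ _ hda hdb hra hrb).1
  have key : ∀ {z : G}, z = 1 ∨ z = T.t → z * a = a * z ∧ z * b = b * z ∧ z ∈ c.one.A ∧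
      (c.one.P.ρ z = 1 ∨ c.one.P.ρ z = -1) ∧ z * z = 1 := by
    rintro z (rfl | rfl)
    · exact ⟨by simp, by simp, one_mem _, Or.inl c.one.P.ρ_one, one_mul _⟩
    · exact ⟨ha1.symm, hb1.symm, T.t₁, Or.inr T.ρt, T.tt⟩
  obtain ⟨za, zab, hzaA, hzaρ, hzz⟩ := key (T.sq_cases ha1 ha2 ha4)
  obtain ⟨zba, zb, hzbA, hzbρ, hwz⟩ := key (T.sq_cases hb1 hb2 hb4)
  -- the commutator
  set k := b * a * b⁻¹ * a⁻¹ with hk
  have hkA : k ∈ c.one.A := mul_mem (mul_mem (mul_mem hbA haA) (inv_mem hbA)) (inv_mem haA)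
  have hkt : Commute k T.t :=
    (((show Commute b T.t from hb1).mul_left ha1).mul_left (show Commute b T.t from hb1).inv_left).mul_left
      (show Commute a T.t from ha1).inv_left
  have hkδ : Commute k c.one.δ :=
    (((show Commute b c.one.δ from hb2).mul_left ha2).mul_left
      (show Commute b c.one.δ from hb2).inv_left).mul_left (show Commute a c.one.δ from ha2).inv_left
  have hab : (a * b) * (a * b) = a * k * a * (b * b) := by
    calc (a * b) * (a * b) = a * (b * a * b⁻¹ * a⁻¹) * a * (b * b) := by group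
      _ = _ := by rw [hk]
  have hkρ : c.one.P.ρ k = 1 ∨ c.one.P.ρ k = -1 := by
    have e : k = a⁻¹ * ((a * b) * (a * b)) * (b * b)⁻¹ * a⁻¹ := by rw [hk]; group
    have hiA : (b * b)⁻¹ ∈ c.one.A := inv_mem hzbA
    rw [e, c.one.P.ρ_mul _ (mul_mem (mul_mem (inv_mem haA) (mul_mem (mul_mem haA hbA) (mul_mem haA hbA)))
        hiA) _ (inv_mem haA),
      c.one.P.ρ_mul _ (mul_mem (inv_mem haA) (mul_mem (mul_mem haA hbA) (mul_mem haA hbA))) _ hiA,
      c.one.P.ρ_mul _ (inv_mem haA) _ (mul_mem (mul_mem haA hbA) (mul_mem haA hbA))]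
    have hbi : (b * b)⁻¹ = b * b := inv_eq_of_mul_eq_one_right hwz
    have hai : c.one.P.ρ a⁻¹ * c.one.P.ρ a⁻¹ = 1 ∨ c.one.P.ρ a⁻¹ * c.one.P.ρ a⁻¹ = -1 := by
      rw [← c.one.P.ρ_mul _ (inv_mem haA) _ (inv_mem haA), ← _root_.mul_inv_rev,
        inv_eq_of_mul_eq_one_right hzz]
      exact hzaρ
    rw [hbi]
    rcases hρ with e1 | e1 <;> rcases hzbρ with e2 | e2 <;> rw [e1, e2] <;> rcases hai with e3 | e3 <;>
      simp [e3]
  have hk4 : k ^ 4 = 1 := by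
    have hc : ∀ z, z * a = a * z → Commute z a := fun z h => h
    have hka : Commute k a := by
      rcases T.ρ_pm hkt.eq hkδ.eq hkρ with e | e
      · obtain ⟨i, hi⟩ := c.one.exists_pow_δ e
        rw [hi]
        exact ((show Commute c.one.δ a from ha2.symm).pow_left _)
      · obtain ⟨i, hi⟩ := c.one.exists_pow_δ e
        rw [eq_mul_inv_of_mul_eq hi]
        exact ((show Commute c.one.δ a from ha2.symm).pow_left _).mul_left
          (show Commute T.t a from ha1.symm).inv_left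
    have h : (k * a) ^ 4 = 1 := by
      rw [hk, show b * a * b⁻¹ * a⁻¹ * a = b * a * b⁻¹ by group, conj_pow, ha4, mul_one, mul_inv_cancel]
    rwa [hka.mul_pow, ha4, mul_one] at h
  obtain ⟨zka, -, -, -, hkk⟩ := key (T.pm_cases hkt.eq hkδ.eq hkρ hk4)
  have h2' : (a * b) * (a * b) = k * ((a * a) * (b * b)) := by
    rw [hab, ← zka]; group
  rw [show 4 = 2 * 2 from rfl, pow_mul, pow_two (a * b), h2', pow_two]
  rcases T.pm_cases hkt.eq hkδ.eq hkρ hk4 with e1 | e1 <;>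
    rcases T.sq_cases ha1 ha2 ha4 with e2 | e2 <;>
      rcases T.sq_cases hb1 hb2 hb4 with e3 | e3 <;> simp [e1, e2, e3, T.tt]

/-- The two-part of the centraliser of `⟨t, δ₁⟩`. -/
def part : Subgroup G where
  carrier := {x | x * T.t = T.t * x ∧ x * c.one.δ = c.one.δ * x ∧ x ^ 4 = 1}
  one_mem' := ⟨by simp, by simp, one_pow 4⟩
  mul_mem' := T.part_mul
  inv_mem' := fun {a} h => ⟨(show Commute a T.t from h.1).inv_left.eq,
    (show Commute a c.one.δ from h.2.1).inv_left.eq, by rw [inv_pow, h.2.2, inv_one]⟩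

theorem mem_part {x : G} :
    x ∈ T.part ↔ x * T.t = T.t * x ∧ x * c.one.δ = c.one.δ * x ∧ x ^ 4 = 1 := Iff.rfl

theorem t_part : T.t ∈ T.part := ⟨rfl, T.comm_D₁ c.one.δ_mem, T.t_pow_four⟩

theorem exists_part {x : G} (hxt : x * T.t = T.t * x) (hxδ : x * c.one.δ = c.one.δ * x)
    (h : c.one.P.ρ x ^ 4 = 1) : ∃ i : ℕ, x * c.one.δ ^ i ∈ T.part := by
  have hx := T.mem_A_of hxδ
  obtain ⟨a, ha⟩ := c.one.exists_pow_δ (T.cent_Q₁ (q := x ^ 4)
    ((c.one.P.ρ_ker _ (pow_mem hx 4)).1 (by rw [c.one.P.ρ_pow hx, h]))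
    ((show Commute T.t x from hxt.symm).pow_right 4).eq)
  refine ⟨2 * a.val, ((show Commute x T.t from hxt).mul_left
    ((show Commute c.one.δ T.t from (T.comm_D₁ c.one.δ_mem).symm).pow_left _)).eq,
    ((show Commute x c.one.δ from hxδ).mul_left ((Commute.refl _).pow_left _)).eq, ?_⟩
  rw [((show Commute x c.one.δ from hxδ).pow_right _).mul_pow, ha, ← pow_mul, ← pow_add,
    show a.val + 2 * a.val * 4 = 3 * (3 * a.val) by ring, pow_mul, c.one.D_pow c.one.δ_mem, one_pow]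

theorem card_part : Nat.card T.part = 8 := by
  rw [← card_quat]
  refine Nat.card_congr (Equiv.ofBijective (fun x : T.part =>
    (⟨c.one.P.ρ (x : G), T.ρ_four x.2.2.1 x.2.2.2⟩ : {M : Mat // M.det = 1 ∧ M ^ 4 = 1})) ⟨?_, ?_⟩)
  · rintro ⟨x, hx⟩ ⟨z, hz⟩ h
    have e : c.one.P.ρ x = c.one.P.ρ z := congrArg Subtype.val h
    have hxA := T.mem_A_of hx.2.1
    have hm : x⁻¹ * z ∈ T.part := mul_mem (inv_mem hx) hz
    have h1 : x⁻¹ * z ∈ c.one.D := T.cent_Q₁ ((c.one.P.ρ_ker _ (mul_mem (inv_mem hxA) (T.mem_A_of hz.2.1))).1 (by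
      rw [c.one.P.ρ_mul _ (inv_mem hxA) _ (T.mem_A_of hz.2.1), ← e, c.one.P.ρ_inv' hxA])) hm.1.symm
    exact Subtype.ext (inv_mul_eq_one.1 (D_four h1 hm.2.2))
  · rintro ⟨M, hM, hM4⟩
    obtain ⟨x, hx, hxt, hxδ, hxρ⟩ := T.exists_lift hM
    obtain ⟨i, hi⟩ := T.exists_part hxt hxδ (by rw [hxρ, hM4])
    refine ⟨⟨_, hi⟩, Subtype.ext ?_⟩
    show c.one.P.ρ (x * c.one.δ ^ i) = M
    rw [c.one.P.ρ_mul_Q hx (c.one.D_le_A (pow_mem c.one.δ_mem i)) (c.one.D_le_Q (pow_mem c.one.δ_mem i)),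
      hxρ]

/-- The centraliser of `⟨t, δ₁⟩` is the product of the two-part, `D₁` and a cyclic group. -/
theorem split {N : G} (hNt : N * T.t = T.t * N) (hNδ : N * c.one.δ = c.one.δ * N) (hN3 : N ^ 3 = 1)
    (hNQ : N ∉ c.one.Q) {x : G} (hxt : x * T.t = T.t * x) (hxδ : x * c.one.δ = c.one.δ * x) :
    ∃ v ∈ T.part, ∃ i j : ℕ, x = v * c.one.δ ^ i * N ^ j := by
  have hx := T.mem_A_of hxδ
  have hNA := T.mem_A_of hNδ
  have hN : c.one.P.ρ N * c.one.P.ρ N * c.one.P.ρ N = 1 := by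
    rw [← c.one.P.ρ_mul N hNA N hNA, ← c.one.P.ρ_mul _ (mul_mem hNA hNA) N hNA, ← pow_two,
      ← pow_succ, hN3, c.one.P.ρ_one]
  obtain ⟨j, hj⟩ := quat_split _ _ hN (fun e => hNQ ((c.one.P.ρ_ker _ hNA).1 e))
    (c.one.det_of_comm hx c.one.δ_mem c.one.δ_ne hxδ)
  have hρ : c.one.P.ρ (x * N ^ (j : ℕ)) ^ 4 = 1 := by
    rw [c.one.P.ρ_mul x hx _ (pow_mem hNA _), c.one.P.ρ_pow hNA, show 4 = 2 * 2 from rfl, pow_mul,
      pow_two, pow_two]
    exact hj
  obtain ⟨i, hi⟩ := T.exists_part (x := x * N ^ (j : ℕ))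
    ((show Commute x T.t from hxt).mul_left ((show Commute N T.t from hNt).pow_left _)).eq
    ((show Commute x c.one.δ from hxδ).mul_left ((show Commute N c.one.δ from hNδ).pow_left _)).eq hρ
  refine ⟨_, hi, 2 * i, 2 * (j : ℕ), ?_⟩
  rw [mul_assoc (x * N ^ (j : ℕ)), ← pow_add, show i + 2 * i = 3 * i by ring, pow_mul,
    c.one.D_pow c.one.δ_mem, one_pow, mul_one, mul_assoc, ← pow_add,
    show (j : ℕ) + 2 * j = 3 * j by ring, pow_mul, hN3, one_pow, mul_one]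

theorem part_invol {u : G} (hu : u ∈ T.part) (h : u * u = 1) : u = 1 ∨ u = T.t :=
  T.pm_cases hu.1 hu.2.1 (invol_det_one _ (c.one.P.ρ_sq_one (T.mem_A_of hu.2.1) h)
    (T.ρ_four hu.2.1 hu.2.2).1) hu.2.2

end Torus

namespace Frame

variable (F : c.Frame)

/-- The two-part of the centraliser of `⟨t, y⟩`. -/
def partY : Subgroup G := F.T.swap.part.map (MulAut.conj F.h).toMonoidHom

theorem mem_partY {x : G} :
    x ∈ F.partY ↔ x * F.T.t = F.T.t * x ∧ x * F.y = F.y * x ∧ x ^ 4 = 1 := by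
  have hs := F.hs
  have hy := F.hy
  constructor
  · rintro ⟨v, ⟨h1, h2, h4⟩, rfl⟩
    change v * F.T.s = F.T.s * v at h1
    change v * c.two.δ = c.two.δ * v at h2
    refine ⟨?_, ?_, ?_⟩
    · rw [← hs, ← MulAut.conj_apply, MulEquiv.coe_toMonoidHom, ← map_mul, ← map_mul, h1]
    · rw [← hy, ← MulAut.conj_apply, MulEquiv.coe_toMonoidHom, ← map_mul, ← map_mul, h2]
    · rw [← map_pow, h4, map_one]
  · rintro ⟨h1, h2, h4⟩
    refine ⟨F.h⁻¹ * x * F.h, ⟨?_, ?_, ?_⟩, by simp [mul_assoc]⟩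
    · show F.h⁻¹ * x * F.h * F.T.s = F.T.s * (F.h⁻¹ * x * F.h)
      calc F.h⁻¹ * x * F.h * F.T.s = F.h⁻¹ * (x * (F.h * F.T.s * F.h⁻¹)) * F.h := by group
        _ = F.h⁻¹ * ((F.h * F.T.s * F.h⁻¹) * x) * F.h := by rw [hs, h1]
        _ = _ := by group
    · show F.h⁻¹ * x * F.h * c.two.δ = c.two.δ * (F.h⁻¹ * x * F.h)
      calc F.h⁻¹ * x * F.h * c.two.δ = F.h⁻¹ * (x * (F.h * c.two.δ * F.h⁻¹)) * F.h := by group
        _ = F.h⁻¹ * ((F.h * c.two.δ * F.h⁻¹) * x) * F.h := by rw [hy, h2]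
        _ = _ := by group
    · rw [show F.h⁻¹ * x * F.h = F.h⁻¹ * x * F.h⁻¹⁻¹ by group, conj_pow, h4, mul_one, mul_inv_cancel]

theorem card_partY : Nat.card F.partY = 8 := by
  rw [partY, Subgroup.card_map_of_injective (MulAut.conj F.h).injective]
  exact F.T.swap.card_part

theorem t_partY : F.T.t ∈ F.partY :=
  F.mem_partY.2 ⟨rfl, F.ty, F.T.t_pow_four⟩

theorem partY_sq {x : G} (hx : x ∈ F.partY) : x * x = 1 ∨ x * x = F.T.t := by
  obtain ⟨v, hv, rfl⟩ := hx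
  rcases F.T.swap.sq_cases hv.1 hv.2.1 hv.2.2 with h | h
  · left; rw [← map_mul, h, map_one]
  · right
    rw [← map_mul, h, ← F.hs]
    rfl

theorem partY_invol {x : G} (hx : x ∈ F.partY) (h : x * x = 1) : x = 1 ∨ x = F.T.t := by
  obtain ⟨v, hv, rfl⟩ := hx
  rcases F.T.swap.part_invol hv ((MulAut.conj F.h).injective (by rw [map_one, map_mul]; exact h))
    with e | e
  · left; rw [e, map_one]
  · right
    rw [e, ← F.hs]
    rfl

theorem hδ_notQ : F.h⁻¹ * c.one.δ * F.h ∉ c.two.Q := fun h => by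
  have hs : F.T.s * (F.h⁻¹ * c.one.δ * F.h) = F.h⁻¹ * c.one.δ * F.h * F.T.s := by
    calc F.T.s * (F.h⁻¹ * c.one.δ * F.h) = F.h⁻¹ * ((F.h * F.T.s * F.h⁻¹) * c.one.δ) * F.h := by group
      _ = F.h⁻¹ * (c.one.δ * F.T.t) * F.h := by rw [F.hs, F.T.comm_D₁ c.one.δ_mem]
      _ = F.h⁻¹ * c.one.δ * F.h * (F.h⁻¹ * F.T.t * F.h) := by group
      _ = _ := by rw [← F.hs]; group
  refine c.D_not_conj F.h⁻¹ c.one.δ_mem c.one.δ_ne ?_
  rw [inv_inv]
  exact F.T.swap.cent_Q₁ h hs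

theorem split₁ {x : G} (hxt : x * F.T.t = F.T.t * x) (hxδ : x * c.one.δ = c.one.δ * x) :
    ∃ v ∈ F.T.part, ∃ i j : ℕ, x = v * c.one.δ ^ i * F.y ^ j :=
  F.T.split F.ty.symm (F.W₃_comm F.y_W₃ F.δ₁_W₃) F.y3 F.y_notMem_Q₁ hxt hxδ

theorem split₂ {x : G} (hxt : x * F.T.t = F.T.t * x) (hxy : x * F.y = F.y * x) :
    ∃ v ∈ F.partY, ∃ i j : ℕ, x = v * c.one.δ ^ i * F.y ^ j := by
  have hs : F.h⁻¹ * F.T.t * F.h = F.T.s := by rw [← F.hs]; group
  have hy : F.h⁻¹ * F.y * F.h = c.two.δ := by rw [← F.hy]; group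
  have key : ∀ a b : G, a * b = b * a →
      F.h⁻¹ * a * F.h * (F.h⁻¹ * b * F.h) = F.h⁻¹ * b * F.h * (F.h⁻¹ * a * F.h) := fun a b h => by
    calc F.h⁻¹ * a * F.h * (F.h⁻¹ * b * F.h) = F.h⁻¹ * (a * b) * F.h := by group
      _ = F.h⁻¹ * (b * a) * F.h := by rw [h]
      _ = _ := by group
  obtain ⟨v, hv, i, j, he⟩ := F.T.swap.split (N := F.h⁻¹ * c.one.δ * F.h) (x := F.h⁻¹ * x * F.h)
    (show _ * F.T.s = F.T.s * _ by rw [← hs]; exact key _ _ (F.T.comm_D₁ c.one.δ_mem).symm)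
    (show _ * c.two.δ = c.two.δ * _ by rw [← hy]; exact key _ _ (F.W₃_comm F.δ₁_W₃ F.y_W₃))
    (by rw [show F.h⁻¹ * c.one.δ * F.h = F.h⁻¹ * c.one.δ * F.h⁻¹⁻¹ by group, conj_pow,
      c.one.D_pow c.one.δ_mem, mul_one, mul_inv_cancel])
    F.hδ_notQ
    (show _ * F.T.s = F.T.s * _ by rw [← hs]; exact key _ _ hxt)
    (show _ * c.two.δ = c.two.δ * _ by rw [← hy]; exact key _ _ hxy)
  change F.h⁻¹ * x * F.h = v * c.two.δ ^ i * _ at he
  refine ⟨F.h * v * F.h⁻¹, ⟨v, hv, rfl⟩, j, i, ?_⟩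
  rw [mul_assoc _ (c.one.δ ^ j), ((show Commute c.one.δ F.y from
    F.W₃_comm F.δ₁_W₃ F.y_W₃).pow_pow j i).eq, ← F.hy, conj_pow]
  calc x = F.h * (F.h⁻¹ * x * F.h) * F.h⁻¹ := by group
    _ = F.h * (v * c.two.δ ^ i * (F.h⁻¹ * c.one.δ * F.h⁻¹⁻¹) ^ j) * F.h⁻¹ := by rw [he, inv_inv]
    _ = _ := by rw [conj_pow]; group

/-- The centraliser of `t`. -/
abbrev H : Subgroup G := Subgroup.centralizer ({F.T.t} : Set G)

theorem mem_H {x : G} : x ∈ F.H ↔ x * F.T.t = F.T.t * x := Subgroup.mem_centralizer_singleton_iff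

/-- The involution in its centraliser. -/
def tH : F.H := ⟨F.T.t, F.mem_H.2 rfl⟩

instance tH_normal : (Subgroup.zpowers F.tH).Normal := ⟨fun n hn g => by
  have hc : Commute g n := by
    obtain ⟨k, rfl⟩ := Subgroup.mem_zpowers_iff.1 hn
    exact (show Commute g F.tH from Subtype.ext (F.mem_H.1 g.2)).zpow_right k
  rwa [hc.eq, mul_inv_cancel_right]⟩

/-- The centraliser of `t` modulo `t`. -/
abbrev X := F.H ⧸ Subgroup.zpowers F.tH

theorem mem_tH {z : F.H} (hz : z ∈ Subgroup.zpowers F.tH) : (z : G) = 1 ∨ (z : G) = F.T.t := by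
  obtain ⟨k, rfl⟩ := Subgroup.mem_zpowers_iff.1 hz
  rcases Int.even_or_odd k with ⟨l, rfl⟩ | ⟨l, rfl⟩
  · left
    rw [Subgroup.coe_zpow, show (F.tH : G) = F.T.t from rfl, ← two_mul, zpow_mul, zpow_two, F.T.tt,
      one_zpow]
  · right
    rw [Subgroup.coe_zpow, show (F.tH : G) = F.T.t from rfl, zpow_add, zpow_mul, zpow_two, F.T.tt,
      one_zpow, one_mul, zpow_one]

theorem eq_cases {a b : F.H} (h : (a : F.X) = (b : F.X)) :
    (b : G) = a ∨ (b : G) = a * F.T.t := by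
  rcases F.mem_tH (QuotientGroup.eq.1 h) with e | e
  · left; push_cast at e; exact (inv_mul_eq_one.1 e).symm
  · right; push_cast at e; exact eq_mul_of_inv_mul_eq e

theorem cube_lift {a b : F.H} (ha : (a : G) ^ 3 = 1) (hb : (b : G) ^ 3 = 1)
    (h : (a : F.X) = (b : F.X)) : (b : G) = a := by
  rcases F.eq_cases h with e | e
  · exact e
  · exfalso
    rw [e, (show Commute (a : G) F.T.t from F.mem_H.1 a.2).mul_pow, ha, one_mul, pow_succ, pow_two,
      F.T.tt, one_mul] at hb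
    have := F.T.ρt
    rw [hb, c.one.P.ρ_one] at this
    exact absurd this (by decide)

theorem δ_H : c.one.δ ∈ F.H := F.mem_H.2 (F.T.comm_D₁ c.one.δ_mem).symm
theorem y_H : F.y ∈ F.H := F.mem_H.2 F.ty.symm
theorem s_H : F.T.s ∈ F.H := F.mem_H.2 F.T.ts.symm
theorem part_H : F.T.part ≤ F.H := fun _ hx => F.mem_H.2 hx.1
theorem partY_H : F.partY ≤ F.H := fun _ hx => F.mem_H.2 (F.mem_partY.1 hx).1

noncomputable def dX : F.X := ((⟨c.one.δ, F.δ_H⟩ : F.H) : F.X)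
noncomputable def yX : F.X := ((⟨F.y, F.y_H⟩ : F.H) : F.X)
noncomputable def sX : F.X := ((⟨F.T.s, F.s_H⟩ : F.H) : F.X)

/-- The image of a subgroup. -/
noncomputable def img (P : Subgroup G) : Subgroup F.X :=
  (P.subgroupOf F.H).map (QuotientGroup.mk' _)

theorem mem_img {P : Subgroup G} {q : F.X} :
    q ∈ F.img P ↔ ∃ v : F.H, (v : G) ∈ P ∧ (v : F.X) = q := by
  simp [img, Subgroup.mem_map, Subgroup.mem_subgroupOf]

theorem img_lift {P : Subgroup G} (ht : F.T.t ∈ P) {v : F.H} (h : (v : F.X) ∈ F.img P) :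
    (v : G) ∈ P := by
  obtain ⟨w, hw, hwv⟩ := F.mem_img.1 h
  rcases F.eq_cases hwv with e | e <;> rw [e]
  · exact hw
  · exact mul_mem hw ht

theorem card_img {P : Subgroup G} (hP : P ≤ F.H) (ht : F.T.t ∈ P) (h8 : Nat.card P = 8) :
    Nat.card (F.img P) = 4 := by
  let f : P →* F.X := (QuotientGroup.mk' _).comp (Subgroup.inclusion hP)
  have hr : f.range = F.img P := by
    ext q
    rw [F.mem_img]
    constructor
    · rintro ⟨v, rfl⟩; exact ⟨_, v.2, rfl⟩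
    · rintro ⟨v, hv, rfl⟩; exact ⟨⟨v, hv⟩, rfl⟩
  have hk : Nat.card f.ker = 2 := by
    have ht2 : orderOf (⟨F.T.t, ht⟩ : P) = 2 := orderOf_eq_prime (Subtype.ext (by
      rw [Subgroup.coe_pow, pow_two]; exact F.T.tt)) fun e => by
      have := F.T.ρt
      rw [show F.T.t = 1 from congrArg Subtype.val e, c.one.P.ρ_one] at this
      exact absurd this (by decide)
    rw [← ht2, ← Nat.card_zpowers]
    congr 2
    refine le_antisymm (fun v hv => ?_) (Subgroup.zpowers_le.2 ?_)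
    · rcases F.mem_tH ((QuotientGroup.eq_one_iff _).1 (MonoidHom.mem_ker.1 hv)) with e | e
      · rw [show v = 1 from Subtype.ext e]; exact one_mem _
      · rw [show v = ⟨F.T.t, ht⟩ from Subtype.ext e]; exact Subgroup.mem_zpowers _
    · exact (QuotientGroup.eq_one_iff _).2 (Subgroup.mem_zpowers F.tH)
  have := Subgroup.card_mul_index f.ker
  rw [hk, Subgroup.index_ker, h8, hr] at this
  omega

theorem E_pow {i j : ℕ} : c.one.δ ^ i * F.y ^ j ∈ F.E := ⟨i, j, rfl⟩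

theorem coe_pow₂ (i j : ℕ) : F.dX ^ i * F.yX ^ j =
    ((⟨c.one.δ ^ i * F.y ^ j, mul_mem (pow_mem F.δ_H i) (pow_mem F.y_H j)⟩ : F.H) : F.X) := rfl

theorem part_fixed {v : G} (h1 : v * F.y = F.y * v) (h2 : v * c.one.δ = c.one.δ * v)
    (h4 : v ^ 4 = 1) (ht : v * F.T.t = F.T.t * v) : v = 1 ∨ v = F.T.t := by
  have key : ∀ w : G, w ∈ F.W₃ → w ^ 4 = 1 → w = 1 := fun w hw h => by
    refine F.W₃_sq hw (F.W₃_sq (mul_mem hw hw) ?_)
    rw [← h]; simp [pow_succ, mul_assoc]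
  rcases F.cent_E h2 h1 with e | e
  · exact Or.inl (key v e h4)
  · have := key _ e (by
      rw [(show Commute F.T.t v from ht.symm).mul_pow, F.T.t_pow_four, h4, one_mul])
    exact Or.inr (by rw [eq_inv_of_mul_eq_one_right this, F.T.ti])

theorem s_ne_t : F.T.s ≠ F.T.t := fun h => by
  have h1 := F.T.det_t₁
  rw [← h, show (c.one.P.ρ F.T.s).det = -1 from F.T.swap.det_t₂] at h1
  exact absurd h1 (by decide)

theorem s_ne_one : F.T.s ≠ 1 := fun h => by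
  have := F.T.ρs
  rw [h, c.two.P.ρ_one] at this
  exact absurd this (by decide)

theorem cent_diag_X {e : G} (he : F.Diag e) (heH : e ∈ F.H) {q : F.X}
    (h : q * ((⟨e, heH⟩ : F.H) : F.X) = ((⟨e, heH⟩ : F.H) : F.X) * q) :
    ∃ i j : ℕ, q = F.dX ^ i * F.yX ^ j := by
  induction q using QuotientGroup.induction_on with
  | H x =>
    have hc : (x : G) * e * (x : G)⁻¹ = e := by
      refine F.cube_lift (a := ⟨e, heH⟩) (b := x * ⟨e, heH⟩ * x⁻¹) (F.E_cube he.1) ?_ ?_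
      · push_cast; rw [conj_pow, F.E_cube he.1, mul_one, mul_inv_cancel]
      · rw [QuotientGroup.mk_mul, QuotientGroup.mk_mul, h, QuotientGroup.mk_inv, mul_inv_cancel_right]
    rcases F.cent_diag he (F.mem_H.1 x.2) (mul_inv_eq_iff_eq_mul.1 hc) with hE | hE
    · obtain ⟨i, j, e⟩ := hE
      exact ⟨i, j, by rw [F.coe_pow₂]; congr 1; exact Subtype.ext e⟩
    · obtain ⟨i, j, e⟩ := hE
      refine ⟨i, j, ?_⟩
      rw [F.coe_pow₂, QuotientGroup.eq]
      convert Subgroup.mem_zpowers F.tH using 1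
      exact Subtype.ext (by push_cast; rw [← e, inv_mul_cancel_left]; rfl)

theorem cent_X {e : G} {P : Subgroup G} (heH : e ∈ F.H) (he3 : e ^ 3 = 1) (hPH : P ≤ F.H)
    (hPc : ∀ v ∈ P, v * e = e * v) (hce : ∀ i j : ℕ, Commute (c.one.δ ^ i * F.y ^ j) e)
    (hsplit : ∀ x, x * F.T.t = F.T.t * x → x * e = e * x →
      ∃ v ∈ P, ∃ i j : ℕ, x = v * c.one.δ ^ i * F.y ^ j) (q : F.X) :
    q * ((⟨e, heH⟩ : F.H) : F.X) = ((⟨e, heH⟩ : F.H) : F.X) * q ↔
      ∃ v ∈ F.img P, ∃ i j : ℕ, q = v * F.dX ^ i * F.yX ^ j := by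
  constructor
  · intro h
    induction q using QuotientGroup.induction_on with
    | H x =>
      have hc : (x : G) * e * (x : G)⁻¹ = e := by
        refine F.cube_lift (a := ⟨e, heH⟩) (b := x * ⟨e, heH⟩ * x⁻¹) he3 ?_ ?_
        · push_cast; rw [conj_pow, he3, mul_one, mul_inv_cancel]
        · rw [QuotientGroup.mk_mul, QuotientGroup.mk_mul, h, QuotientGroup.mk_inv, mul_inv_cancel_right]
      obtain ⟨v, hv, i, j, e'⟩ := hsplit _ (F.mem_H.1 x.2) (mul_inv_eq_iff_eq_mul.1 hc)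
      refine ⟨((⟨v, hPH hv⟩ : F.H) : F.X), F.mem_img.2 ⟨⟨v, hPH hv⟩, hv, rfl⟩, i, j, ?_⟩
      rw [mul_assoc, F.coe_pow₂, ← QuotientGroup.mk_mul]
      congr 1
      exact Subtype.ext (by rw [e', mul_assoc]; rfl)
  · rintro ⟨v, hv, i, j, rfl⟩
    obtain ⟨w, hw, rfl⟩ := F.mem_img.1 hv
    rw [mul_assoc (QuotientGroup.mk w), F.coe_pow₂, ← QuotientGroup.mk_mul, ← QuotientGroup.mk_mul,
      ← QuotientGroup.mk_mul]
    congr 1
    refine Subtype.ext ?_
    exact ((show Commute (w : G) e from hPc _ hw).mul_left (hce i j)).eq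

theorem norm_X {e : G} {P : Subgroup G} (heH : e ∈ F.H) (he3 : e ^ 3 = 1)
    (hP : ∀ v, v ∈ P ↔ v * F.T.t = F.T.t * v ∧ v * e = e * v ∧ v ^ 4 = 1) {q : F.X}
    (h : q * ((⟨e, heH⟩ : F.H) : F.X) * q⁻¹ ∈ Subgroup.zpowers ((⟨e, heH⟩ : F.H) : F.X))
    {v : F.X} (hv : v ∈ F.img P) : q * v * q⁻¹ ∈ F.img P := by
  induction q using QuotientGroup.induction_on with
  | H x =>
    obtain ⟨w, hw, rfl⟩ := F.mem_img.1 hv
    obtain ⟨hwt, hwe, hw4⟩ := (hP _).1 hw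
    refine F.mem_img.2 ⟨x * w * x⁻¹, (hP _).2 ⟨?_, ?_, ?_⟩, rfl⟩
    · exact F.mem_H.1 (x * w * x⁻¹).2
    · obtain ⟨k, hk⟩ := Subgroup.mem_zpowers_iff.1 h
      rw [← QuotientGroup.mk_zpow, ← QuotientGroup.mk_inv, ← QuotientGroup.mk_mul,
        ← QuotientGroup.mk_mul] at hk
      have hk' : (x : G) * e * (x : G)⁻¹ = e ^ k := by
        refine F.cube_lift (a := (⟨e, heH⟩ : F.H) ^ k) (b := x * ⟨e, heH⟩ * x⁻¹) ?_ ?_ hk
        · push_cast
          rw [← zpow_natCast, ← zpow_mul, mul_comm, zpow_mul, zpow_natCast, he3, one_zpow]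
        · push_cast; rw [conj_pow, he3, mul_one, mul_inv_cancel]
      have hcomm : Commute (w : G) e := hwe
      have h1 : Commute ((x : G) * w * (x : G)⁻¹) (e ^ k) := by
        rw [← hk']
        show (x : G) * w * (x : G)⁻¹ * ((x : G) * e * (x : G)⁻¹) =
          (x : G) * e * (x : G)⁻¹ * ((x : G) * w * (x : G)⁻¹)
        calc (x : G) * w * (x : G)⁻¹ * ((x : G) * e * (x : G)⁻¹) = (x : G) * (w * e) * (x : G)⁻¹ := by
              group
          _ = (x : G) * (e * w) * (x : G)⁻¹ := by rw [hcomm.eq]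
          _ = _ := by group
      push_cast
      -- `e` is a power of `e ^ k`
      have h2 : e = (e ^ k) ^ k ∨ e = 1 := by
        have hm : k % 3 = 0 ∨ k % 3 = 1 ∨ k % 3 = 2 := by omega
        have hz : ∀ n : ℤ, e ^ n = e ^ (n % 3) := fun n => by
          conv_lhs => rw [show n = n % 3 + 3 * (n / 3) by omega, zpow_add, zpow_mul,
            show (3 : ℤ) = ((3 : ℕ) : ℤ) from rfl, zpow_natCast, he3, one_zpow, mul_one]
          rfl
        rcases hm with e0 | e0 | e0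
        · right
          rw [hz k, e0, zpow_zero] at hk'
          exact conj_eq_one_iff.1 hk'
        all_goals
          left
          rw [← zpow_mul, hz, Int.mul_emod, e0]
          exact (zpow_one e).symm
      rcases h2 with h2 | h2
      · rw [h2]; exact (h1.zpow_right k).eq
      · simp [h2]
    · push_cast
      rw [conj_pow, hw4, mul_one, mul_inv_cancel]

/-- The configuration in the centraliser of `t` modulo `t`. -/
noncomputable def xframe : XFrame F.X where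
  d := F.dX
  y := F.yX
  s := F.sX
  VD := F.img F.T.part
  VY := F.img F.partY
  d_ord := by
    refine orderOf_eq_prime ?_ fun h => c.one.δ_ne ?_
    · show (((⟨c.one.δ, F.δ_H⟩ : F.H) ^ 3 : F.H) : F.X) = 1
      rw [show ((⟨c.one.δ, F.δ_H⟩ : F.H) ^ 3) = 1 from Subtype.ext (c.one.D_pow c.one.δ_mem)]
      rfl
    · exact (F.cube_lift (a := 1) (by simp) (c.one.D_pow c.one.δ_mem) h.symm)
  y_ord := by
    refine orderOf_eq_prime ?_ fun h => F.y_ne ?_
    · show (((⟨F.y, F.y_H⟩ : F.H) ^ 3 : F.H) : F.X) = 1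
      rw [show ((⟨F.y, F.y_H⟩ : F.H) ^ 3) = 1 from Subtype.ext F.y3]
      rfl
    · exact (F.cube_lift (a := 1) (by simp) F.y3 h.symm)
  s_ord := by
    refine orderOf_eq_prime ?_ fun h => ?_
    · show (((⟨F.T.s, F.s_H⟩ : F.H) ^ 2 : F.H) : F.X) = 1
      rw [show ((⟨F.T.s, F.s_H⟩ : F.H) ^ 2) = 1 from Subtype.ext (by
        rw [Subgroup.coe_pow, pow_two]; exact F.T.ss)]
      rfl
    · rcases F.eq_cases (a := 1) h.symm with e | e
      · exact F.s_ne_one e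
      · exact F.s_ne_t (e.trans (one_mul _))
  comm := by
    show (((⟨c.one.δ, F.δ_H⟩ : F.H) * ⟨F.y, F.y_H⟩ : F.H) : F.X) = _
    rw [show (⟨c.one.δ, F.δ_H⟩ : F.H) * ⟨F.y, F.y_H⟩ = ⟨F.y, F.y_H⟩ * ⟨c.one.δ, F.δ_H⟩ from
      Subtype.ext (F.W₃_comm F.δ₁_W₃ F.y_W₃)]
    rfl
  y_notMem := fun h => by
    obtain ⟨k, hk⟩ := Subgroup.mem_zpowers_iff.1 h
    rw [dX, ← QuotientGroup.mk_zpow] at hk
    refine F.yZ ?_
    have e := F.cube_lift (a := (⟨c.one.δ, F.δ_H⟩ : F.H) ^ k) (by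
      push_cast
      rw [← zpow_natCast, ← zpow_mul, mul_comm, zpow_mul, zpow_natCast, c.one.D_pow c.one.δ_mem,
        one_zpow]) F.y3 hk
    change F.y = _ at e
    rw [e, Subgroup.coe_zpow]
    exact zpow_mem (c.D₁_le_Z c.one.δ_mem) k
  s_inv_d := by
    show (((⟨F.T.s, F.s_H⟩ : F.H) * ⟨c.one.δ, F.δ_H⟩ * ⟨F.T.s, F.s_H⟩ : F.H) : F.X) =
      (((⟨c.one.δ, F.δ_H⟩ : F.H)⁻¹ : F.H) : F.X)
    congr 1
    refine Subtype.ext ?_
    show F.T.s * c.one.δ * F.T.s = c.one.δ⁻¹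
    have := F.E_s F.δ_E
    rwa [F.T.si] at this
  s_inv_y := by
    show (((⟨F.T.s, F.s_H⟩ : F.H) * ⟨F.y, F.y_H⟩ * ⟨F.T.s, F.s_H⟩ : F.H) : F.X) =
      (((⟨F.y, F.y_H⟩ : F.H)⁻¹ : F.H) : F.X)
    congr 1
    refine Subtype.ext ?_
    show F.T.s * F.y * F.T.s = F.y⁻¹
    have := F.E_s F.y_E
    rwa [F.T.si] at this
  card_VD := F.card_img F.part_H F.T.t_part F.T.card_part
  card_VY := F.card_img F.partY_H F.t_partY F.card_partY
  sq_VD := fun v hv => by
    obtain ⟨w, hw, rfl⟩ := F.mem_img.1 hv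
    rw [← QuotientGroup.mk_mul, QuotientGroup.eq_one_iff]
    rcases F.T.sq_cases hw.1 hw.2.1 hw.2.2 with e | e
    · rw [show w * w = 1 from Subtype.ext e]; exact one_mem _
    · rw [show w * w = F.tH from Subtype.ext e]; exact Subgroup.mem_zpowers _
  sq_VY := fun v hv => by
    obtain ⟨w, hw, rfl⟩ := F.mem_img.1 hv
    rw [← QuotientGroup.mk_mul, QuotientGroup.eq_one_iff]
    rcases F.partY_sq hw with e | e
    · rw [show w * w = 1 from Subtype.ext e]; exact one_mem _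
    · rw [show w * w = F.tH from Subtype.ext e]; exact Subgroup.mem_zpowers _
  cent_d := F.cent_X F.δ_H (c.one.D_pow c.one.δ_mem) F.part_H (fun _ hv => hv.2.1)
    (fun i j => ((Commute.refl _).pow_left i).mul_left
      ((show Commute F.y c.one.δ from F.W₃_comm F.y_W₃ F.δ₁_W₃).pow_left j))
    fun _ h1 h2 => F.split₁ h1 h2
  cent_y := F.cent_X F.y_H F.y3 F.partY_H (fun _ hv => (F.mem_partY.1 hv).2.1)
    (fun i j => ((show Commute c.one.δ F.y from F.W₃_comm F.δ₁_W₃ F.y_W₃).pow_left i).mul_left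
      ((Commute.refl _).pow_left j))
    fun _ h1 h2 => F.split₂ h1 h2
  cent_diag := fun e he q hq => by
    have hy2 : ∀ {z : G}, z ∈ F.E → c.one.δ⁻¹ * z ∈ c.two.Z → z ∈ c.two.Z := fun {z} _ h => by
      have := mul_mem (c.D₁_le_Z c.one.δ_mem) h
      rwa [mul_inv_cancel_left] at this
    have hysq : F.y * F.y ∉ c.two.Z := fun h => F.yZ (by
      have h3 := mul_mem h h
      rwa [← mul_assoc, show F.y * F.y * F.y = 1 by rw [← pow_two, ← pow_succ]; exact F.y3, one_mul]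
        at h3)
    rcases he with rfl | rfl
    · refine F.cent_diag_X (e := c.one.δ * F.y) ⟨mul_mem F.δ_E F.y_E, fun h => F.yZ ?_, ?_, ?_⟩
        (mul_mem F.δ_H F.y_H) hq
      · have := mul_mem (inv_mem (c.D₁_le_Z c.one.δ_mem)) h
        rwa [inv_mul_cancel_left] at this
      · intro h
        exact c.one.δ_ne (mul_eq_right.1 h)
      · intro h
        refine hysq ?_
        have := inv_mem (c.D₁_le_Z c.one.δ_mem)
        rwa [eq_mul_inv_of_mul_eq h, _root_.mul_inv_rev, inv_inv] at this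
    · refine F.cent_diag_X (e := c.one.δ * F.y⁻¹) ⟨mul_mem F.δ_E (inv_mem F.y_E), fun h => F.yZ ?_,
        ?_, ?_⟩ (mul_mem F.δ_H (inv_mem F.y_H)) hq
      · have := mul_mem (inv_mem (c.D₁_le_Z c.one.δ_mem)) h
        rw [inv_mul_cancel_left] at this
        exact inv_mem_iff.1 this
      · intro h
        refine hysq ?_
        have := c.D₁_le_Z c.one.δ_mem
        rwa [mul_inv_eq_iff_eq_mul.1 h] at this
      · intro h
        exact c.one.δ_ne (mul_eq_right.1 h)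
  norm_VD := fun q h _ hv => F.norm_X F.δ_H (c.one.D_pow c.one.δ_mem) (fun _ => F.T.mem_part) h hv
  norm_VY := fun q h _ hv => F.norm_X F.y_H F.y3 (fun _ => F.mem_partY) h hv
  fpf_VD := fun v hv h => by
    obtain ⟨w, hw, rfl⟩ := F.mem_img.1 hv
    have hc : (w : G) * F.y * (w : G)⁻¹ = F.y := by
      refine F.cube_lift (a := ⟨F.y, F.y_H⟩) (b := w * ⟨F.y, F.y_H⟩ * w⁻¹) F.y3 ?_ ?_
      · push_cast; rw [conj_pow, F.y3, mul_one, mul_inv_cancel]
      · rw [QuotientGroup.mk_mul, QuotientGroup.mk_mul,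
          show (w : F.X) * ((⟨F.y, F.y_H⟩ : F.H) : F.X) = ((⟨F.y, F.y_H⟩ : F.H) : F.X) * (w : F.X) from h,
          QuotientGroup.mk_inv, mul_inv_cancel_right]
    rw [QuotientGroup.eq_one_iff]
    rcases F.part_fixed (mul_inv_eq_iff_eq_mul.1 hc) hw.2.1 hw.2.2 hw.1 with e | e
    · rw [show w = 1 from Subtype.ext e]; exact one_mem _
    · rw [show w = F.tH from Subtype.ext e]; exact Subgroup.mem_zpowers _
  fpf_VY := fun v hv h => by
    obtain ⟨w, hw, rfl⟩ := F.mem_img.1 hv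
    have hc : (w : G) * c.one.δ * (w : G)⁻¹ = c.one.δ := by
      refine F.cube_lift (a := ⟨c.one.δ, F.δ_H⟩) (b := w * ⟨c.one.δ, F.δ_H⟩ * w⁻¹)
        (c.one.D_pow c.one.δ_mem) ?_ ?_
      · push_cast; rw [conj_pow, c.one.D_pow c.one.δ_mem, mul_one, mul_inv_cancel]
      · rw [QuotientGroup.mk_mul, QuotientGroup.mk_mul,
          show (w : F.X) * ((⟨c.one.δ, F.δ_H⟩ : F.H) : F.X) = ((⟨c.one.δ, F.δ_H⟩ : F.H) : F.X) * (w : F.X)
            from h,
          QuotientGroup.mk_inv, mul_inv_cancel_right]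
    obtain ⟨h1, h2, h4⟩ := F.mem_partY.1 hw
    rw [QuotientGroup.eq_one_iff]
    rcases F.part_fixed h2 (mul_inv_eq_iff_eq_mul.1 hc) h4 h1 with e | e
    · rw [show w = 1 from Subtype.ext e]; exact one_mem _
    · rw [show w = F.tH from Subtype.ext e]; exact Subgroup.mem_zpowers _
  nonfused := fun i j k l hne hconj => by
    obtain ⟨q, hq⟩ := isConj_iff.1 hconj
    revert hq
    induction q using QuotientGroup.induction_on with
    | H x =>
      intro hq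
      rw [F.coe_pow₂, F.coe_pow₂, ← QuotientGroup.mk_inv, ← QuotientGroup.mk_mul,
        ← QuotientGroup.mk_mul] at hq
      have hE : ∀ a b : ℕ, c.one.δ ^ a * F.y ^ b ∈ F.E := fun a b => F.E_pow
      have hc : (x : G) * (c.one.δ ^ i * F.y ^ j) * (x : G)⁻¹ = c.one.δ ^ k * F.y ^ l := by
        refine (F.cube_lift (a := x * ⟨_, mul_mem (pow_mem F.δ_H i) (pow_mem F.y_H j)⟩ * x⁻¹)
          (b := ⟨_, mul_mem (pow_mem F.δ_H k) (pow_mem F.y_H l)⟩) ?_ (F.E_cube (hE k l)) hq).symm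
        push_cast
        rw [conj_pow, F.E_cube (hE i j), mul_one, mul_inv_cancel]
      rcases F.fuse (F.mem_H.1 x.2) (hE i j) (hE k l) (fun e => hne (by
        rw [F.coe_pow₂, show (⟨c.one.δ ^ i * F.y ^ j, _⟩ : F.H) = 1 from Subtype.ext e]; rfl)) hc
        with e | e
      · left; rw [F.coe_pow₂, F.coe_pow₂]; congr 1; exact Subtype.ext e
      · right; rw [F.coe_pow₂, F.coe_pow₂, ← QuotientGroup.mk_inv]; congr 1; exact Subtype.ext e
  not_conj_VD := fun v hv hconj => by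
    obtain ⟨q, hq⟩ := isConj_iff.1 hconj
    revert hq
    induction q using QuotientGroup.induction_on with
    | H x =>
      intro hq
      have hu := F.img_lift F.T.t_part (v := x * ⟨F.T.s, F.s_H⟩ * x⁻¹)
        (by rw [show ((x * ⟨F.T.s, F.s_H⟩ * x⁻¹ : F.H) : F.X) = v from hq]; exact hv)
      push_cast at hu
      have hxt := F.mem_H.1 x.2
      rcases F.T.part_invol hu (by
        rw [show (x : G) * F.T.s * (x : G)⁻¹ * ((x : G) * F.T.s * (x : G)⁻¹) =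
          (x : G) * (F.T.s * F.T.s) * (x : G)⁻¹ by group, F.T.ss, mul_one, mul_inv_cancel]) with e | e
      · exact F.s_ne_one (conj_eq_one_iff.1 e)
      · refine F.s_ne_t (mul_left_cancel (a := (x : G)) ?_)
        rw [mul_inv_eq_iff_eq_mul.1 e, hxt]
  not_conj_VY := fun v hv hconj => by
    obtain ⟨q, hq⟩ := isConj_iff.1 hconj
    revert hq
    induction q using QuotientGroup.induction_on with
    | H x =>
      intro hq
      have hu := F.img_lift F.t_partY (v := x * ⟨F.T.s, F.s_H⟩ * x⁻¹)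
        (by rw [show ((x * ⟨F.T.s, F.s_H⟩ * x⁻¹ : F.H) : F.X) = v from hq]; exact hv)
      push_cast at hu
      have hxt := F.mem_H.1 x.2
      rcases F.partY_invol hu (by
        rw [show (x : G) * F.T.s * (x : G)⁻¹ * ((x : G) * F.T.s * (x : G)⁻¹) =
          (x : G) * (F.T.s * F.T.s) * (x : G)⁻¹ by group, F.T.ss, mul_one, mul_inv_cancel]) with e | e
      · exact F.s_ne_one (conj_eq_one_iff.1 e)
      · refine F.s_ne_t (mul_left_cancel (a := (x : G)) ?_)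
        rw [mul_inv_eq_iff_eq_mul.1 e, hxt]

end Frame

end Setup

end CfsgLib.G2Amalgam
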