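import Cfsg.Agent.G2Amalgam.Max
import Cfsg.Agent.Solvable.Fitting
import Cfsg.Prelude.Def_CaseTheorems
import Cfsg.Prelude.Def_Transfer
import Cfsg.Agent.G2Rec.FrameSL
import Mathlib.LinearAlgebra.Matrix.ToLinearEquiv

/-!
# The amalgam of type `G₂(3)`: the linear group of the elementary group of order eight

The normaliser `N` of the elementary group `E` of order eight of a moving axis induces all of
`SL(3, 2)` on `E`, and `E` is its own centraliser in `N`.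
-/

set_option autoImplicit false
set_option linter.unusedSectionVars false
set_option linter.style.haveILetI false
set_option maxRecDepth 100000

namespace CfsgLib.G2Amalgam

open Matrix

attribute [local instance] fact_three'

variable {G : Type*} [Group G]

/-- The truth value of an element of the field with two elements. -/
def bit2 (z : ZMod 2) : Bool := decide (z = 1)

theorem bit2_add : ∀ a b : ZMod 2, bit2 (a + b) = (bit2 a ^^ bit2 b) := by decide

theorem bit2_eq_false : ∀ a : ZMod 2, bit2 a = false → a = 0 := by decide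

namespace Setup

variable [Finite G] {c : Setup G}

namespace Frame

variable {F : c.Frame}

namespace Sel

variable {S : Sel F}

namespace Axis

variable (A : Axis S)

/-- Coordinates on the elementary group. -/
def φ (x : Fin 3 → ZMod 2) : G :=
  pb F.T.t (bit2 (x 0)) * pb S.e (bit2 (x 1)) * pb A.i (bit2 (x 2))

theorem φ_zero : A.φ 0 = 1 := by simp [φ, bit2, pb]

theorem φ_t : A.φ (Pi.single 0 1) = F.T.t := by simp [φ, bit2, pb]
theorem φ_e : A.φ (Pi.single 1 1) = S.e := by simp [φ, bit2, pb]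
theorem φ_i : A.φ (Pi.single 2 1) = A.i := by simp [φ, bit2, pb]

variable (hc : F.Core)

include hc

theorem φ_mem (x : Fin 3 → ZMod 2) : A.φ x ∈ S.El A.i :=
  (S.mem_El hc (A.good hc)).2 ⟨_, _, _, rfl⟩

theorem φ_add (x z : Fin 3 → ZMod 2) : A.φ (x + z) = A.φ x * A.φ z := by
  have hcz : ∀ γ α β : Bool, Commute (pb A.i γ) (pb F.T.t α * pb S.e β) := by
    intro γ α β
    cases γ
    · exact Commute.one_left _
    · exact S.T₀_comm hc ((S.mem_T₀ hc).2 ⟨α, β, rfl⟩) (A.good hc).2.1 (A.good hc).2.2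
  simp only [φ, Pi.add_apply, bit2_add]
  rw [← pb_mul F.T.tt, ← pb_mul (S.ee hc), ← pb_mul (A.good hc).1,
    ← (pb_comm (S.e_t hc) (bit2 (x 1)) (bit2 (z 0))).mul_mul_mul_comm (pb F.T.t (bit2 (x 0)))
      (pb S.e (bit2 (z 1))),
    ← (hcz (bit2 (x 2)) (bit2 (z 0)) (bit2 (z 1))).mul_mul_mul_comm
      (pb F.T.t (bit2 (x 0)) * pb S.e (bit2 (x 1))) (pb A.i (bit2 (z 2)))]

theorem φ_eq_one {x : Fin 3 → ZMod 2} (h : A.φ x = 1) : x = 0 := by
  obtain ⟨h0, h1, h2⟩ := S.eight_inj hc (A.good hc) (A.notT₀ hc) h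
  funext k
  fin_cases k
  · exact bit2_eq_false _ h0
  · exact bit2_eq_false _ h1
  · exact bit2_eq_false _ h2

theorem φ_inj : Function.Injective A.φ := by
  intro x z h
  have h1 : A.φ (x + z) = 1 := by
    rw [A.φ_add hc, h, ← A.φ_add hc, CharTwo.add_self_eq_zero, A.φ_zero]
  have h2 := A.φ_eq_one hc h1
  funext k
  have h3 := congrFun h2 k
  exact CharTwo.add_eq_zero.1 h3

theorem φ_surj {u : G} (hu : u ∈ S.El A.i) : ∃ x, A.φ x = u := by
  obtain ⟨α, β, γ, rfl⟩ := (S.mem_El hc (A.good hc)).1 hu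
  have h : ∀ b : Bool, bit2 (if b then 1 else 0) = b := by decide
  exact ⟨![if α then 1 else 0, if β then 1 else 0, if γ then 1 else 0], by simp [φ, h]⟩

theorem El_le_N : S.El A.i ≤ A.N := Subgroup.le_normalizer

theorem conj_mem {n : G} (hn : n ∈ A.N) (x : Fin 3 → ZMod 2) : n * A.φ x * n⁻¹ ∈ S.El A.i :=
  (Subgroup.mem_normalizer_iff.1 hn _).1 (A.φ_mem hc x)

omit hc

/-- The matrix of conjugation. -/
noncomputable def mat (n : G) : Matrix (Fin 3) (Fin 3) (ZMod 2) :=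
  Matrix.of fun j k => Function.invFun A.φ (n * A.φ (Pi.single k 1) * n⁻¹) j

include hc

theorem key {n : G} (hn : n ∈ A.N) (x : Fin 3 → ZMod 2) :
    A.φ (A.mat n *ᵥ x) = n * A.φ x * n⁻¹ := by
  have hs : ∀ (k : Fin 3) (z : ZMod 2),
      A.φ (A.mat n *ᵥ Pi.single k z) = n * A.φ (Pi.single k z) * n⁻¹ := by
    intro k z
    rcases (by decide : ∀ z : ZMod 2, z = 0 ∨ z = 1) z with rfl | rfl
    · rw [Pi.single_zero, mulVec_zero, A.φ_zero, mul_one, mul_inv_cancel]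
    · rw [mulVec_single_one]
      exact Function.invFun_eq (A.φ_surj hc (A.conj_mem hc hn _))
  rw [← Finset.univ_sum_single x, Fin.sum_univ_three]
  simp only [mulVec_add, A.φ_add hc, hs]
  group

theorem mat_ext {M : Matrix (Fin 3) (Fin 3) (ZMod 2)} {n : G} (hn : n ∈ A.N)
    (h : ∀ k, n * A.φ (Pi.single k 1) * n⁻¹ = A.φ (M *ᵥ Pi.single k 1)) : A.mat n = M := by
  ext j k
  have h1 := A.φ_inj hc ((A.key hc hn (Pi.single k 1)).trans (h k))
  simpa [mulVec_single_one] using congrFun h1 j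

theorem mat_one : A.mat 1 = 1 :=
  A.mat_ext hc (one_mem _) fun k => by rw [one_mulVec, one_mul, inv_one, mul_one]

theorem mat_mul {m n : G} (hm : m ∈ A.N) (hn : n ∈ A.N) :
    A.mat (m * n) = A.mat m * A.mat n :=
  A.mat_ext hc (mul_mem hm hn) fun k => by
    rw [← mulVec_mulVec, A.key hc hm, A.key hc hn]; group

theorem det_mat {n : G} (hn : n ∈ A.N) : (A.mat n).det = 1 := by
  refine (by decide : ∀ z : ZMod 2, z ≠ 0 → z = 1) _ fun h0 => ?_
  obtain ⟨v, hv, hv0⟩ := Matrix.exists_mulVec_eq_zero_iff.2 h0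
  refine hv (A.φ_eq_one hc ((conj_eq_one_iff (a := n)).1 ?_))
  rw [← A.key hc hn, hv0, A.φ_zero]

/-- The representation. -/
noncomputable def rep : ↥A.N →* Matrix.SpecialLinearGroup (Fin 3) (ZMod 2) where
  toFun n := ⟨A.mat n.1, A.det_mat hc n.2⟩
  map_one' := Subtype.ext (A.mat_one hc)
  map_mul' m n := Subtype.ext (A.mat_mul hc m.2 n.2)

theorem rep_ker : (A.rep hc).ker = (S.El A.i).subgroupOf A.N := by
  ext ⟨n, hn⟩
  rw [MonoidHom.mem_ker, Subgroup.mem_subgroupOf]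
  constructor
  · intro h
    have h1 : A.mat n = 1 := congrArg Subtype.val h
    have hfix : ∀ x, Commute n (A.φ x) := fun x => by
      have h2 := A.key hc hn x
      rw [h1, one_mulVec] at h2
      exact mul_inv_eq_iff_eq_mul.1 h2.symm
    exact A.cent hc (A.φ_t ▸ hfix _) (A.φ_e ▸ hfix _) (A.φ_i ▸ hfix _)
  · intro h
    refine Subtype.ext (A.mat_ext hc hn fun k => ?_)
    change n ∈ S.El A.i at h
    obtain ⟨y, rfl⟩ := A.φ_surj hc h
    show _ = A.φ (((1 : Matrix.SpecialLinearGroup (Fin 3) (ZMod 2)) :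
      Matrix (Fin 3) (Fin 3) (ZMod 2)) *ᵥ _)
    rw [Matrix.SpecialLinearGroup.coe_one, one_mulVec, ← A.φ_add hc, add_comm, A.φ_add hc,
      mul_inv_cancel_right]

theorem rep_surjective (hm : A.Moving) : Function.Surjective (A.rep hc) := by
  intro M
  have hinj : Function.Injective (M.1 *ᵥ ·) := Matrix.mulVec_injective_iff_isUnit.2
    ((Matrix.isUnit_iff_isUnit_det _).2 (by rw [M.2]; exact isUnit_one))
  set u : Fin 3 → G := fun k => A.φ (M.1 *ᵥ Pi.single k 1) with hu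
  have hne : ∀ v w : Fin 3 → ZMod 2, v ≠ w → A.φ (M.1 *ᵥ v) ≠ A.φ (M.1 *ᵥ w) :=
    fun v w h e => h (hinj (A.φ_inj hc e))
  obtain ⟨n₁, hn₁, h₁⟩ := A.seven hc hm (A.φ_mem hc (M.1 *ᵥ Pi.single 0 1)) (by
    rw [← A.φ_zero, ← mulVec_zero M.1]; exact hne _ _ (by decide))
  have hu1 : n₁⁻¹ * u 1 * n₁ ∈ S.El A.i := by
    have := (Subgroup.mem_normalizer_iff.1 (inv_mem hn₁) _).1
      (A.φ_mem hc (M.1 *ᵥ Pi.single 1 1))
    rwa [inv_inv] at this
  obtain ⟨n₂, hn₂, h₂t, h₂⟩ := A.move_e hc hu1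
    (fun h => by
      have h' : u 1 = 1 := by
        calc u 1 = n₁ * (n₁⁻¹ * u 1 * n₁) * n₁⁻¹ := by group
          _ = 1 := by rw [h, mul_one, mul_inv_cancel]
      rw [← A.φ_zero, ← mulVec_zero M.1] at h'
      exact hne _ _ (by decide) h')
    (fun h => by
      have h' : u 1 = u 0 := by
        calc u 1 = n₁ * (n₁⁻¹ * u 1 * n₁) * n₁⁻¹ := by group
          _ = u 0 := by rw [h, h₁]
      exact hne _ _ (by decide) h')
  have hk0 : n₁ * n₂ * F.T.t * (n₁ * n₂)⁻¹ = u 0 := by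
    rw [show n₁ * n₂ * F.T.t * (n₁ * n₂)⁻¹ = n₁ * (n₂ * F.T.t * n₂⁻¹) * n₁⁻¹ by group, h₂t, h₁]
  have hk1 : n₁ * n₂ * S.e * (n₁ * n₂)⁻¹ = u 1 := by
    rw [show n₁ * n₂ * S.e * (n₁ * n₂)⁻¹ = n₁ * (n₂ * S.e * n₂⁻¹) * n₁⁻¹ by group, h₂]
    group
  have hu2 : (n₁ * n₂)⁻¹ * u 2 * (n₁ * n₂) ∈ S.El A.i := by
    have := (Subgroup.mem_normalizer_iff.1 (inv_mem (mul_mem hn₁ hn₂)) _).1
      (A.φ_mem hc (M.1 *ᵥ Pi.single 2 1))
    rwa [inv_inv] at this
  obtain ⟨n₃, hn₃, h₃t, h₃e, h₃⟩ := A.move_i hc hu2 (fun h => by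
    obtain ⟨α, β, hαβ⟩ := (S.mem_T₀ hc).1 h
    have h' : u 2 = n₁ * n₂ * (pb F.T.t α * pb S.e β) * (n₁ * n₂)⁻¹ := by
      rw [← hαβ]; group
    have hq : ∀ b : Bool, bit2 (if b then 1 else 0) = b := by decide
    have hw : pb F.T.t α * pb S.e β =
        A.φ ![if α then 1 else 0, if β then 1 else 0, 0] := by
      simp [φ, hq]; simp [bit2, pb]
    rw [hw] at h'
    set w : Fin 3 → ZMod 2 := ![if α then 1 else 0, if β then 1 else 0, 0] with hwd
    have hsum : w = Pi.single 0 (w 0) + Pi.single 1 (w 1) := by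
      funext k
      fin_cases k <;> simp [hwd]
    have hagree : ∀ (k : Fin 3) (z : ZMod 2), (k = 0 ∨ k = 1) →
        n₁ * n₂ * A.φ (Pi.single k z) * (n₁ * n₂)⁻¹ = A.φ (M.1 *ᵥ Pi.single k z) := by
      intro k z hk
      rcases (by decide : ∀ z : ZMod 2, z = 0 ∨ z = 1) z with rfl | rfl
      · rw [Pi.single_zero, mulVec_zero, A.φ_zero, mul_one, mul_inv_cancel]
      · rcases hk with rfl | rfl
        · rw [A.φ_t]; exact hk0
        · rw [A.φ_e]; exact hk1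
    rw [hsum, A.φ_add hc, show ∀ g x z : G, g * (x * z) * g⁻¹ = g * x * g⁻¹ * (g * z * g⁻¹) from
      fun g x z => by group, hagree _ _ (Or.inl rfl), hagree _ _ (Or.inr rfl), ← A.φ_add hc,
      ← mulVec_add, ← hsum] at h'
    refine hne _ w (fun e => ?_) h'
    have := congrFun e 2
    simp [hwd] at this)
  refine ⟨⟨n₁ * n₂ * n₃, mul_mem (mul_mem hn₁ hn₂) hn₃⟩, Subtype.ext (A.mat_ext hc
    (mul_mem (mul_mem hn₁ hn₂) hn₃) fun k => ?_)⟩
  rw [show n₁ * n₂ * n₃ * A.φ (Pi.single k 1) * (n₁ * n₂ * n₃)⁻¹ =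
    n₁ * n₂ * (n₃ * A.φ (Pi.single k 1) * n₃⁻¹) * (n₁ * n₂)⁻¹ by group]
  fin_cases k
  · simp only [Fin.zero_eta]; rw [A.φ_t, h₃t]; exact hk0
  · simp only [Fin.mk_one]; rw [A.φ_e, h₃e]; exact hk1
  · show n₁ * n₂ * (n₃ * A.φ (Pi.single 2 1) * n₃⁻¹) * (n₁ * n₂)⁻¹ = u 2
    rw [A.φ_i, h₃]; group

theorem pCore_eq (hm : A.Moving) : Cfsg.pCore 2 ↥A.N = (A.rep hc).ker := by
  haveI : Fact (Nat.Prime 2) := ⟨Nat.prime_two⟩
  haveI := CfsgLib.G2Rec.isSimple_SL32
  refine le_antisymm ?_ (CfsgLib.Solvable.le_pCore ?_)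
  · have hp : IsPGroup 2 ((Cfsg.pCore 2 ↥A.N).map (A.rep hc)) :=
      (CfsgLib.Solvable.isPGroup_pCore 2).map _
    have hn : ((Cfsg.pCore 2 ↥A.N).map (A.rep hc)).Normal :=
      Subgroup.Normal.map inferInstance _ (A.rep_surjective hc hm)
    rcases hn.eq_bot_or_eq_top with h | h
    · exact (Subgroup.map_eq_bot_iff _).1 h
    · exfalso
      obtain ⟨k, hk⟩ := IsPGroup.iff_card.1 hp
      rw [h, Nat.card_congr Subgroup.topEquiv.toEquiv, CfsgLib.G2Rec.card_SL32] at hk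
      have h7 : (7 : ℕ) ∣ 2 ^ k := ⟨24, by omega⟩
      exact absurd ((Nat.prime_dvd_prime_iff_eq (by norm_num) Nat.prime_two).1
        ((Nat.prime_iff.1 (by norm_num : Nat.Prime 7)).dvd_of_dvd_pow h7)) (by norm_num)
  · refine IsPGroup.of_card (n := 3) ?_
    rw [A.rep_ker hc, Nat.card_congr (Subgroup.subgroupOfEquivOfLe (A.El_le_N hc)).toEquiv,
      A.card_eight hc]
    rfl

theorem quotient (hm : A.Moving) :
    Nonempty ((↥A.N ⧸ Cfsg.pCore 2 ↥A.N) ≃* Matrix.SpecialLinearGroup (Fin 3) (ZMod 2)) :=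
  ⟨(QuotientGroup.quotientMulEquivOfEq (A.pCore_eq hc hm)).trans
    (QuotientGroup.quotientKerEquivOfSurjective _ (A.rep_surjective hc hm))⟩

theorem core_elem (hm : A.Moving) : Cfsg.IsElementaryAbelian 2 (Cfsg.pCore 2 ↥A.N) := by
  rw [A.pCore_eq hc hm, A.rep_ker hc]
  refine ⟨⟨⟨fun a b => ?_⟩⟩, fun a ha => ?_⟩
  · have ha := a.2
    have hb := b.2
    rw [Subgroup.mem_subgroupOf] at ha hb
    obtain ⟨x, hx⟩ := A.φ_surj hc ha
    obtain ⟨z, hz⟩ := A.φ_surj hc hb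
    refine Subtype.ext (Subtype.ext ?_)
    show (a.1.1 : G) * b.1.1 = b.1.1 * a.1.1
    rw [← hx, ← hz, ← A.φ_add hc, ← A.φ_add hc, add_comm]
  · rw [Subgroup.mem_subgroupOf] at ha
    refine Subtype.ext ?_
    push_cast
    rw [pow_two, S.El_sq hc (A.good hc) ha]

theorem core_card (hm : A.Moving) : Nat.card ↥(Cfsg.pCore 2 ↥A.N) = 8 := by
  rw [A.pCore_eq hc hm, A.rep_ker hc,
    Nat.card_congr (Subgroup.subgroupOfEquivOfLe (A.El_le_N hc)).toEquiv, A.card_eight hc]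

theorem t_core (hm : A.Moving) :
    Subgroup.zpowers F.T.t ≤ (Cfsg.pCore 2 ↥A.N).map A.N.subtype := by
  rw [A.pCore_eq hc hm, A.rep_ker hc, Subgroup.subgroupOf_map_subtype,
    inf_eq_left.2 (A.El_le_N hc)]
  exact Subgroup.zpowers_le.2 (A.t_El hc)

end Axis

end Sel

end Frame

end Setup

end CfsgLib.G2Amalgam
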