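import Cfsg.Agent.G2Amalgam.Struct

/-!
# The amalgam of type `G₂(3)`: the two copies of `SL(2,3)` in the centraliser of the involution
-/

set_option autoImplicit false
set_option linter.unusedSectionVars false
set_option linter.style.haveILetI false
set_option maxRecDepth 100000

namespace CfsgLib.G2Amalgam

open Matrix

attribute [local instance] fact_three'

variable {G : Type*} [Group G]

namespace Setup

variable [Finite G] {c : Setup G}

namespace Frame

variable (F : c.Frame)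

/-- The subgroup of index two of the centraliser of `t`. -/
noncomputable def plus : Subgroup G :=
  ((F.MX ⊔ F.EX).comap (QuotientGroup.mk' (Subgroup.zpowers F.tH))).map F.H.subtype

theorem mem_plus {x : G} : x ∈ F.plus ↔ ∃ hx : x ∈ F.H, ((⟨x, hx⟩ : F.H) : F.X) ∈ F.MX ⊔ F.EX := by
  constructor
  · rintro ⟨z, hz, rfl⟩; exact ⟨z.2, hz⟩
  · rintro ⟨hx, h⟩; exact ⟨⟨x, hx⟩, h, rfl⟩

theorem plus_le : F.plus ≤ F.H := Subgroup.map_subtype_le _

theorem E_H : F.E ≤ F.H := fun _ he => F.mem_H.2 (F.E_t he).symm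

theorem E_le_A₁ : F.E ≤ c.one.A := by
  rintro _ ⟨i, j, rfl⟩
  exact mul_mem (pow_mem (c.one.D_le_A c.one.δ_mem) i) (pow_mem F.y₁ j)

theorem part_plus : F.T.part ≤ F.plus := fun x hx =>
  F.mem_plus.2 ⟨F.part_H hx, Subgroup.mem_sup_left (Subgroup.mem_sup_left (F.mem_img.2 ⟨_, hx, rfl⟩))⟩

theorem partY_plus : F.partY ≤ F.plus := fun x hx =>
  F.mem_plus.2 ⟨F.partY_H hx, Subgroup.mem_sup_left (Subgroup.mem_sup_right (F.mem_img.2 ⟨_, hx, rfl⟩))⟩

theorem E_plus : F.E ≤ F.plus := fun x hx =>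
  F.mem_plus.2 ⟨F.E_H hx, Subgroup.mem_sup_right (F.mem_img.2 ⟨_, hx, rfl⟩)⟩

theorem t_plus : F.T.t ∈ F.plus := F.part_plus F.T.t_part

theorem zpy_le : Subgroup.zpowers F.y ≤ F.E := Subgroup.zpowers_le.2 F.y_E

theorem zpd_le : Subgroup.zpowers c.one.δ ≤ F.E := Subgroup.zpowers_le.2 F.δ_E

theorem L₁_mem {x : G} (hx : x ∈ F.L₁) :
    ∃ v ∈ F.T.part, ∃ z ∈ Subgroup.zpowers F.y, x = v * z := by
  have hn : Subgroup.zpowers F.y ≤ Subgroup.normalizer (F.T.part : Set G) :=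
    Subgroup.zpowers_le.2 (Subgroup.mem_normalizer_fintype fun v hv => F.part_conj F.y₁ F.ty.symm hv)
  rw [L₁, ← SetLike.mem_coe, Subgroup.coe_mul_of_right_le_normalizer_left _ _ hn] at hx
  obtain ⟨v, hv, z, hz, rfl⟩ := hx
  exact ⟨v, hv, z, hz, rfl⟩

theorem L₂_mem {x : G} (hx : x ∈ F.L₂) :
    ∃ v ∈ F.partY, ∃ z ∈ Subgroup.zpowers c.one.δ, x = v * z := by
  have hn : Subgroup.zpowers c.one.δ ≤ Subgroup.normalizer (F.partY : Set G) :=
    Subgroup.zpowers_le.2 (Subgroup.mem_normalizer_fintype fun v hv =>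
      F.partY_conj (F.T.comm_D₁ c.one.δ_mem).symm
        (Or.inl (by rw [F.W₃_comm F.δ₁_W₃ F.y_W₃, mul_inv_cancel_right])) hv)
  rw [L₂, ← SetLike.mem_coe, Subgroup.coe_mul_of_right_le_normalizer_left _ _ hn] at hx
  obtain ⟨v, hv, z, hz, rfl⟩ := hx
  exact ⟨v, hv, z, hz, rfl⟩

theorem L₁_plus : F.L₁ ≤ F.plus := sup_le F.part_plus (F.zpy_le.trans F.E_plus)

theorem L₂_plus : F.L₂ ≤ F.plus := sup_le F.partY_plus (F.zpd_le.trans F.E_plus)

theorem t_ne : F.T.t ≠ 1 := fun h => by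
  have := F.T.ρt
  rw [h, c.one.P.ρ_one] at this
  exact absurd this (by decide)

theorem zp_eq {z z' : G} (hz : z ∈ F.E) (hz' : z' ∈ F.E) {ε : G} (hε : ε = 1 ∨ ε = F.T.t)
    (h : z = ε * z') : z = z' := by
  rcases hε with rfl | rfl
  · rw [h, one_mul]
  · exfalso
    have h1 := F.E_cube (mul_mem hz (inv_mem hz'))
    rw [h, mul_inv_cancel_right, pow_succ, pow_two, F.T.tt, one_mul] at h1
    exact F.t_ne h1

variable {F} (hc : F.Core)

include hc

theorem decomp {x : G} (hx : x ∈ F.plus) :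
    ∃ a ∈ F.T.part, ∃ b ∈ F.partY, ∃ e ∈ F.E, x = a * b * e := by
  obtain ⟨hxH, h⟩ := F.mem_plus.1 hx
  obtain ⟨m, hm, e, he, hq⟩ := MX_mem_sup hc h
  obtain ⟨f, hf, rfl⟩ := F.mem_img.1 he
  have h1 : (((⟨x, hxH⟩ : F.H) * f⁻¹ : F.H) : F.X) ∈ F.MX := by
    rw [QuotientGroup.mk_mul, QuotientGroup.mk_inv, hq, mul_inv_cancel_right]
    exact hm
  obtain ⟨a, ha, b, hb, e'⟩ := (mem_Mh hc).1 (MX_lift hc h1)
  refine ⟨a, ha, b, hb, (f : G), hf, ?_⟩
  push_cast at e'
  rw [← e', inv_mul_cancel_right]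

theorem mem_H_cases {x : G} (hx : x ∈ F.H) : x ∈ F.plus ∨ x * F.T.s ∈ F.plus := by
  rcases cover_X hc ((⟨x, hx⟩ : F.H) : F.X) with h | h
  · exact Or.inl (F.mem_plus.2 ⟨hx, h⟩)
  · exact Or.inr (F.mem_plus.2 ⟨mul_mem hx F.s_H, h⟩)

theorem s_notMem_plus : F.T.s ∉ F.plus := fun h => by
  obtain ⟨_, h'⟩ := F.mem_plus.1 h
  exact sX_notMem hc h'

theorem L_comm : F.L₁ ≤ Subgroup.centralizer (F.L₂ : Set G) := by
  have hpp : F.T.part ≤ Subgroup.centralizer (F.L₂ : Set G) := by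
    rw [Subgroup.le_centralizer_iff]
    refine sup_le (fun b hb => Subgroup.mem_centralizer_iff.2 fun a ha => comm_parts hc ha hb)
      (Subgroup.zpowers_le.2 (Subgroup.mem_centralizer_iff.2 fun a ha => ha.2.1))
  refine sup_le hpp (Subgroup.zpowers_le.2 ?_)
  have : F.L₂ ≤ Subgroup.centralizer ({F.y} : Set G) := sup_le
    (fun b hb => Subgroup.mem_centralizer_singleton_iff.2 (F.mem_partY.1 hb).2.1)
    (Subgroup.zpowers_le.2 (Subgroup.mem_centralizer_singleton_iff.2 (F.W₃_comm F.δ₁_W₃ F.y_W₃)))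
  exact Subgroup.mem_centralizer_iff.2 fun z hz => Subgroup.mem_centralizer_singleton_iff.1 (this hz)

theorem plus_eq : F.L₁ ⊔ F.L₂ = F.plus := by
  refine le_antisymm (sup_le F.L₁_plus F.L₂_plus) fun x hx => ?_
  obtain ⟨a, ha, b, hb, e, he, rfl⟩ := decomp hc hx
  obtain ⟨i, j, rfl⟩ := he
  exact mul_mem (mul_mem (Subgroup.mem_sup_left (Subgroup.mem_sup_left ha))
    (Subgroup.mem_sup_right (Subgroup.mem_sup_left hb)))
    (mul_mem (Subgroup.mem_sup_right (Subgroup.mem_sup_right (pow_mem (Subgroup.mem_zpowers _) i)))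
      (Subgroup.mem_sup_left (Subgroup.mem_sup_right (pow_mem (Subgroup.mem_zpowers _) j))))

theorem relIndex : (F.L₁ ⊔ F.L₂).relIndex F.H = 2 := by
  rw [plus_eq hc, Subgroup.relIndex]
  refine Subgroup.index_eq_two_iff.2 ⟨⟨F.T.s, F.s_H⟩, fun b => ?_⟩
  simp only [Subgroup.mem_subgroupOf, Subgroup.coe_mul]
  rcases mem_H_cases hc b.2 with hb | hb
  · exact Or.inr ⟨hb, fun h => s_notMem_plus hc (by
      have := mul_mem (inv_mem hb) h
      rwa [inv_mul_cancel_left] at this)⟩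
  · exact Or.inl ⟨hb, fun h => s_notMem_plus hc (by
      have := mul_mem (inv_mem h) hb
      rwa [inv_mul_cancel_left] at this)⟩

theorem H_le_norm : F.H ≤ Subgroup.normalizer (F.L₁ : Set G) ∧
    F.H ≤ Subgroup.normalizer (F.L₂ : Set G) := by
  have hc1 := L_comm hc
  have hc2 : F.L₂ ≤ Subgroup.centralizer (F.L₁ : Set G) := Subgroup.le_centralizer_iff.1 hc1
  have hcn : ∀ L : Subgroup G, Subgroup.centralizer (L : Set G) ≤ Subgroup.normalizer (L : Set G) :=
    fun L x hx => Subgroup.mem_normalizer_fintype fun z hz => by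
      rwa [← Subgroup.mem_centralizer_iff.1 hx z hz, mul_inv_cancel_right]
  have hsd : F.T.s * c.one.δ * F.T.s⁻¹ = c.one.δ⁻¹ := F.s_δ
  have hs1 : F.T.s ∈ Subgroup.normalizer (F.L₁ : Set G) := by
    refine Subgroup.mem_normalizer_fintype fun z hz => ?_
    have hle : F.L₁ ≤ F.L₁.comap (MulAut.conj F.T.s).toMonoidHom := sup_le
      (fun v hv => Subgroup.mem_sup_left (F.part_conj F.T.s₁ F.T.ts.symm hv))
      (Subgroup.zpowers_le.2 (by
        show F.T.s * F.y * F.T.s⁻¹ ∈ F.L₁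
        rw [F.sy]
        exact inv_mem (Subgroup.mem_sup_right (Subgroup.mem_zpowers _))))
    exact hle hz
  have hs2 : F.T.s ∈ Subgroup.normalizer (F.L₂ : Set G) := by
    refine Subgroup.mem_normalizer_fintype fun z hz => ?_
    have hle : F.L₂ ≤ F.L₂.comap (MulAut.conj F.T.s).toMonoidHom := sup_le
      (fun v hv => Subgroup.mem_sup_left (F.partY_conj F.T.ts.symm (Or.inr F.sy) hv))
      (Subgroup.zpowers_le.2 (by
        show F.T.s * c.one.δ * F.T.s⁻¹ ∈ F.L₂
        rw [hsd]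
        exact inv_mem (Subgroup.mem_sup_right (Subgroup.mem_zpowers _))))
    exact hle hz
  have hp1 : F.plus ≤ Subgroup.normalizer (F.L₁ : Set G) :=
    plus_eq hc ▸ sup_le Subgroup.le_normalizer (hc2.trans (hcn _))
  have hp2 : F.plus ≤ Subgroup.normalizer (F.L₂ : Set G) :=
    plus_eq hc ▸ sup_le (hc1.trans (hcn _)) Subgroup.le_normalizer
  constructor <;> intro x hx <;> rcases mem_H_cases hc hx with h | h
  · exact hp1 h
  · have := mul_mem (hp1 h) (inv_mem hs1)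
    rwa [mul_inv_cancel_right] at this
  · exact hp2 h
  · have := mul_mem (hp2 h) (inv_mem hs2)
    rwa [mul_inv_cancel_right] at this

theorem inter : F.L₁ ⊓ F.L₂ = Subgroup.zpowers F.T.t := by
  refine le_antisymm (fun x hx => ?_) (le_inf (Subgroup.zpowers_le.2 (Subgroup.mem_sup_left F.T.t_part))
    (Subgroup.zpowers_le.2 (Subgroup.mem_sup_left F.t_partY)))
  obtain ⟨h1, h2⟩ := Subgroup.mem_inf.1 hx
  obtain ⟨v, hv, z, hz, e1⟩ := F.L₁_mem h1
  obtain ⟨w, hw, z', hz', e2⟩ := F.L₂_mem h2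
  have hxy : x * F.y = F.y * x := (Subgroup.mem_centralizer_iff.1
    (L_comm hc (Subgroup.mem_sup_right (Subgroup.mem_zpowers F.y))) x h2)
  have hxd : x * c.one.δ = c.one.δ * x := (Subgroup.mem_centralizer_iff.1
    (L_comm hc h1) _ (Subgroup.mem_sup_right (Subgroup.mem_zpowers _))).symm
  have hvy : v * F.y = F.y * v := by
    rw [eq_mul_inv_of_mul_eq e1.symm]
    exact ((show Commute x F.y from hxy).mul_left
      (show Commute z F.y from F.W₃_comm (F.E_le_W₃ (F.zpy_le hz)) F.y_W₃).inv_left).eq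
  have hwd : w * c.one.δ = c.one.δ * w := by
    rw [eq_mul_inv_of_mul_eq e2.symm]
    exact ((show Commute x c.one.δ from hxd).mul_left
      (show Commute z' c.one.δ from F.W₃_comm (F.E_le_W₃ (F.zpd_le hz')) F.δ₁_W₃).inv_left).eq
  have hv1 := F.part_fixed hvy hv.2.1 hv.2.2 hv.1
  obtain ⟨hw1', hw2, hw4⟩ := F.mem_partY.1 hw
  have hw1 := F.part_fixed hw2 hwd hw4 hw1'
  have hvw : v⁻¹ * w = 1 ∨ v⁻¹ * w = F.T.t := by
    rcases hv1 with rfl | rfl <;> rcases hw1 with rfl | rfl <;> simp [F.T.ti, F.T.tt]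
  have hzz : z = z' := F.zp_eq (F.zpy_le hz) (F.zpd_le hz') hvw (by
    rw [mul_assoc, ← e2, e1, inv_mul_cancel_left])
  have hz1 : z = 1 := by
    have hzD : z ∈ c.two.Z := c.D₁_le_Z (hzz ▸ Subgroup.zpowers_le.2 c.one.δ_mem hz')
    obtain ⟨k, rfl⟩ := Subgroup.mem_zpowers_iff.1 hz
    have hk : F.y ^ k = F.y ^ (k % 3).toNat := by
      rw [← zpow_natCast, Int.toNat_of_nonneg (by omega)]
      conv_lhs => rw [show k = k % 3 + 3 * (k / 3) by omega, zpow_add, zpow_mul,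
        show (3 : ℤ) = ((3 : ℕ) : ℤ) from rfl, zpow_natCast, F.y3, one_zpow, mul_one]
      rfl
    rw [hk] at hzD ⊢
    rcases (show (k % 3).toNat = 0 ∨ (k % 3).toNat = 1 ∨ (k % 3).toNat = 2 by omega) with e | e | e <;>
      rw [e] at hzD ⊢
    · exact pow_zero _
    · exact absurd (by rwa [pow_one] at hzD) F.yZ
    · refine absurd ?_ F.yZ
      have := mul_mem hzD hzD
      rwa [← pow_add, show 2 + 2 = 3 + 1 from rfl, pow_succ, F.y3, one_mul] at this
  rw [e1, hz1, mul_one]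
  rcases hv1 with rfl | rfl
  · exact one_mem _
  · exact Subgroup.mem_zpowers _

theorem centre₁ : F.L₁ ⊓ F.L₂ = F.L₁ ⊓ Subgroup.centralizer (F.L₁ : Set G) := by
  rw [inter hc]
  refine le_antisymm (Subgroup.zpowers_le.2 ⟨Subgroup.mem_sup_left F.T.t_part,
    Subgroup.mem_centralizer_iff.2 fun z hz => ?_⟩) fun x hx => ?_
  · exact F.mem_H.1 (F.plus_le (F.L₁_plus hz))
  obtain ⟨h1, h2⟩ := Subgroup.mem_inf.1 hx
  obtain ⟨v, hv, z, hz, e1⟩ := F.L₁_mem h1
  have hxy : x * F.y = F.y * x :=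
    (Subgroup.mem_centralizer_iff.1 h2 F.y (Subgroup.mem_sup_right (Subgroup.mem_zpowers _))).symm
  have hvy : v * F.y = F.y * v := by
    rw [eq_mul_inv_of_mul_eq e1.symm]
    exact ((show Commute x F.y from hxy).mul_left
      (show Commute z F.y from F.W₃_comm (F.E_le_W₃ (F.zpy_le hz)) F.y_W₃).inv_left).eq
  obtain ⟨a, ha, haa, -⟩ := F.T.flip_inverted F.T.ts.symm F.T.ss F.s_δ
  have hxa : Commute x a := (Subgroup.mem_centralizer_iff.1 h2 a (Subgroup.mem_sup_left ha)).symm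
  have hva : Commute v a := by
    rcases F.part_fixed hvy hv.2.1 hv.2.2 hv.1 with rfl | rfl
    · exact Commute.one_left a
    · exact ha.1.symm
  have hza : Commute z a := by
    have := hva.inv_left.mul_left hxa
    rwa [e1, inv_mul_cancel_left] at this
  have hz1 : z = 1 := by
    by_contra hne
    have hz3 := F.E_cube (F.zpy_le hz)
    obtain ⟨k, rfl⟩ := Subgroup.mem_zpowers_iff.1 hz
    have hya : Commute F.y a := by
      have hmod : k % 3 = 0 ∨ k % 3 = 1 ∨ k % 3 = 2 := by omega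
      have hy : ∀ n : ℤ, F.y ^ n = F.y ^ (n % 3) := fun n => by
        conv_lhs => rw [show n = n % 3 + 3 * (n / 3) by omega, zpow_add, zpow_mul,
          show (3 : ℤ) = ((3 : ℕ) : ℤ) from rfl, zpow_natCast, F.y3, one_zpow, mul_one]
        rfl
      rw [hy k] at hza hne
      rcases hmod with e | e | e <;> rw [e] at hza hne
      · exact absurd (zpow_zero _) hne
      · rwa [zpow_one] at hza
      · have := hza.pow_left 2
        rwa [← zpow_natCast, ← zpow_mul, show (2 : ℤ) * ((2 : ℕ) : ℤ) = 1 + 3 by norm_num, zpow_add,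
          zpow_one, show (3 : ℤ) = ((3 : ℕ) : ℤ) from rfl, zpow_natCast, F.y3, mul_one] at this
    rcases F.part_fixed hya.eq.symm ha.2.1 ha.2.2 ha.1 with rfl | rfl
    · exact F.t_ne (by rw [← haa, mul_one])
    · exact F.t_ne (by rw [← haa, F.T.tt])
  rw [e1, hz1, mul_one]
  rcases F.part_fixed hvy hv.2.1 hv.2.2 hv.1 with rfl | rfl
  · exact one_mem _
  · exact Subgroup.mem_zpowers _

theorem centre₂ : F.L₁ ⊓ F.L₂ = F.L₂ ⊓ Subgroup.centralizer (F.L₂ : Set G) := by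
  rw [inter hc]
  refine le_antisymm (Subgroup.zpowers_le.2 ⟨Subgroup.mem_sup_left F.t_partY,
    Subgroup.mem_centralizer_iff.2 fun z hz => ?_⟩) fun x hx => ?_
  · exact F.mem_H.1 (F.plus_le (F.L₂_plus hz))
  obtain ⟨h1, h2⟩ := Subgroup.mem_inf.1 hx
  obtain ⟨v, hv, z, hz, e1⟩ := F.L₂_mem h1
  obtain ⟨hvt, hvy, hv4⟩ := F.mem_partY.1 hv
  have hxy : x * c.one.δ = c.one.δ * x :=
    (Subgroup.mem_centralizer_iff.1 h2 _ (Subgroup.mem_sup_right (Subgroup.mem_zpowers _))).symm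
  have hvd : v * c.one.δ = c.one.δ * v := by
    rw [eq_mul_inv_of_mul_eq e1.symm]
    exact ((show Commute x c.one.δ from hxy).mul_left
      (show Commute z c.one.δ from F.W₃_comm (F.E_le_W₃ (F.zpd_le hz)) F.δ₁_W₃).inv_left).eq
  obtain ⟨a, ha, haa, -⟩ := F.partY_inverted
  obtain ⟨hat, hay, ha4⟩ := F.mem_partY.1 ha
  have hxa : Commute x a := (Subgroup.mem_centralizer_iff.1 h2 a (Subgroup.mem_sup_left ha)).symm
  have hva : Commute v a := by
    rcases F.part_fixed hvy hvd hv4 hvt with rfl | rfl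
    · exact Commute.one_left a
    · exact hat.symm
  have hza : Commute z a := by
    have := hva.inv_left.mul_left hxa
    rwa [e1, inv_mul_cancel_left] at this
  have hz1 : z = 1 := by
    by_contra hne
    obtain ⟨k, rfl⟩ := Subgroup.mem_zpowers_iff.1 hz
    have hya : Commute c.one.δ a := by
      have hmod : k % 3 = 0 ∨ k % 3 = 1 ∨ k % 3 = 2 := by omega
      have hy : ∀ n : ℤ, c.one.δ ^ n = c.one.δ ^ (n % 3) := fun n => by
        conv_lhs => rw [show n = n % 3 + 3 * (n / 3) by omega, zpow_add, zpow_mul,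
          show (3 : ℤ) = ((3 : ℕ) : ℤ) from rfl, zpow_natCast, c.one.D_pow c.one.δ_mem, one_zpow,
          mul_one]
        rfl
      rw [hy k] at hza hne
      rcases hmod with e | e | e <;> rw [e] at hza hne
      · exact absurd (zpow_zero _) hne
      · rwa [zpow_one] at hza
      · have := hza.pow_left 2
        rwa [← zpow_natCast, ← zpow_mul, show (2 : ℤ) * ((2 : ℕ) : ℤ) = 1 + 3 by norm_num, zpow_add,
          zpow_one, show (3 : ℤ) = ((3 : ℕ) : ℤ) from rfl, zpow_natCast, c.one.D_pow c.one.δ_mem,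
          mul_one] at this
    rcases F.part_fixed hay hya.eq.symm ha4 hat with rfl | rfl
    · exact F.t_ne (by rw [← haa, mul_one])
    · exact F.t_ne (by rw [← haa, F.T.tt])
  rw [e1, hz1, mul_one]
  rcases F.part_fixed hvy hvd hv4 hvt with rfl | rfl
  · exact one_mem _
  · exact Subgroup.mem_zpowers _

theorem H_eq : F.H = Subgroup.centralizer ((F.L₁ ⊓ F.L₂ : Subgroup G) : Set G) := by
  rw [inter hc]
  refine le_antisymm (fun x hx => Subgroup.mem_centralizer_iff.2 fun z hz => ?_) fun x hx =>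
    F.mem_H.2 (Subgroup.mem_centralizer_iff.1 hx F.T.t (Subgroup.mem_zpowers _)).symm
  obtain ⟨k, rfl⟩ := Subgroup.mem_zpowers_iff.1 hz
  exact ((show Commute F.T.t x from (F.mem_H.1 hx).symm).zpow_left k).eq

theorem normal₁ : (F.L₁.subgroupOf F.H).Normal :=
  (Subgroup.normal_subgroupOf_iff_le_normalizer (F.L₁_plus.trans F.plus_le)).2 (H_le_norm hc).1

theorem normal₂ : (F.L₂.subgroupOf F.H).Normal :=
  (Subgroup.normal_subgroupOf_iff_le_normalizer (F.L₂_plus.trans F.plus_le)).2 (H_le_norm hc).2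

end Frame

end Setup

end CfsgLib.G2Amalgam
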