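import Mathlib.LinearAlgebra.Matrix.GeneralLinearGroup.Card
import Mathlib.LinearAlgebra.Matrix.NonsingularInverse
import Mathlib.LinearAlgebra.Matrix.Notation
import Mathlib.Algebra.Field.ZMod

/-!
# Facts about 2×2 matrices over the field of three elements
-/

set_option autoImplicit false
set_option maxRecDepth 100000

namespace CfsgLib.G2Amalgam

open Matrix

/-- Matrices. -/
abbrev Mat := Matrix (Fin 2) (Fin 2) (ZMod 3)

/-- Vectors. -/
abbrev Vec := Fin 2 → ZMod 3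

/-- The alternating form. -/
def alt (v w : Vec) : ZMod 3 := v 0 * w 1 - v 1 * w 0

theorem alt_mulVec : ∀ (M : Mat) (v w : Vec),
    alt (M *ᵥ v) (M *ᵥ w) = M.det * alt v w := fun M v w => by
  simp [alt, Matrix.mulVec, dotProduct, Matrix.det_fin_two, Fin.sum_univ_two]
  ring

theorem alt_self (v : Vec) : alt v v = 0 := by simp [alt, mul_comm]

theorem alt_eq_zero : ∀ v w : Vec, v ≠ 0 → alt v w = 0 → ∃ i : ZMod 3, w = i • v := by decide +kernel

theorem exists_alt : ∀ v : Vec, v ≠ 0 → ∃ w : Vec, alt v w = 1 := by decide +kernel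

theorem det_cases : ∀ M : Mat, M.det ≠ 0 → M.det = 1 ∨ M.det = -1 := fun M h => by
  revert h
  generalize M.det = d
  revert d
  decide

theorem invol_det_one : ∀ M : Mat, M * M = 1 → M.det = 1 → M = 1 ∨ M = -1 := by decide +kernel

theorem invol_fixed : ∀ M : Mat, M * M = 1 → M.det = -1 →
    (∃ v : Vec, v ≠ 0 ∧ M *ᵥ v = v) ∧ (∃ v : Vec, v ≠ 0 ∧ M *ᵥ v = -v) := by decide +kernel

set_option synthInstance.maxSize 1024 in
theorem invol_lines : ∀ M : Mat, M * M = 1 → M.det = -1 → ∀ v w : Vec, v ≠ 0 → M *ᵥ v = v →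
    M *ᵥ w = w → ∃ i : ZMod 3, w = i • v := by decide +kernel

theorem invol_conj : ∀ M : Mat, M * M = 1 → M.det = -1 →
    ∃ P : Mat, P.det ≠ 0 ∧ P * M = !![1, 0; 0, -1] * P := by decide +kernel

theorem invol_neg_iff : ∀ M : Mat, M * M = 1 → (M = 1 ∨ M = -1 ↔ M.det = 1) := by decide +kernel

theorem fix_cube : ∀ M : Mat, M.det = 1 → ∀ v : Vec, v ≠ 0 → M *ᵥ v = v → M * M * M = 1 := by
  decide +kernel

theorem cube_fixed : ∀ M : Mat, M * M * M = 1 → ∀ v : Vec, v ≠ 0 → M *ᵥ v = -v → False := by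
  decide +kernel

theorem cube_det : ∀ M : Mat, M * M * M = 1 → M.det = 1 := by decide +kernel

theorem cube_exists_fixed : ∀ M : Mat, M * M * M = 1 → ∃ v : Vec, v ≠ 0 ∧ M *ᵥ v = v := by
  decide +kernel

set_option synthInstance.maxSize 1024 in
theorem cube_fixed_line : ∀ M : Mat, M * M * M = 1 → M ≠ 1 → ∀ v w : Vec, v ≠ 0 → M *ᵥ v = v →
    M *ᵥ w = w → ∃ i : ZMod 3, w = i • v := by decide +kernel

theorem trans_vec : ∀ v w : Vec, v ≠ 0 → w ≠ 0 → ∃ P : Mat, P.det = 1 ∧ P *ᵥ v = w := by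
  decide +kernel

/-- The elements of order three. -/
def cubes : List Mat :=
  [!![1, 1; 0, 1], !![1, 2; 0, 1], !![1, 0; 1, 1], !![1, 0; 2, 1],
   !![0, 2; 1, 2], !![2, 1; 2, 0], !![0, 1; 2, 2], !![2, 2; 1, 0]]

theorem mem_cubes : ∀ M : Mat, M * M * M = 1 → M ≠ 1 → M ∈ cubes := by decide +kernel

theorem line_cubes_list : ∀ N ∈ cubes, ∀ M : Mat, M * M * M = 1 → ∀ v : Vec, v ≠ 0 → N *ᵥ v = v →
    M *ᵥ v = v → M = 1 ∨ M = N ∨ M = N * N := by decide +kernel

/-- The elements of order three fixing a vector form one cyclic group. -/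
theorem line_cubes (N M : Mat) (hN : N * N * N = 1) (hN1 : N ≠ 1) (hM : M * M * M = 1) (v : Vec)
    (hv : v ≠ 0) (h1 : N *ᵥ v = v) (h2 : M *ᵥ v = v) : M = 1 ∨ M = N ∨ M = N * N :=
  line_cubes_list N (mem_cubes N hN hN1) M hM v hv h1 h2

theorem borel_list : ∀ N ∈ cubes, ∀ M : Mat, M.det = 1 → (M * N = N * M ∨ M * N = N * N * M) →
    ∃ s : Bool, ∃ j : Fin 3, M = (if s then -1 else 1) * N ^ (j : ℕ) := by decide +kernel

/-- The normaliser in `SL(2,3)` of an element of order three. -/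
theorem borel (N M : Mat) (hN : N * N * N = 1) (hN1 : N ≠ 1) (hM : M.det = 1)
    (h : M * N = N * M ∨ M * N = N * N * M) :
    ∃ s : Bool, ∃ j : Fin 3, M = (if s then -1 else 1) * N ^ (j : ℕ) :=
  borel_list N (mem_cubes N hN hN1) M hM h

theorem quat_split_list : ∀ N ∈ cubes, ∀ M : Mat, M.det = 1 →
    ∃ j : Fin 3, (M * N ^ (j : ℕ)) * (M * N ^ (j : ℕ)) * ((M * N ^ (j : ℕ)) * (M * N ^ (j : ℕ))) = 1 := by
  decide +kernel

theorem quat_split (N M : Mat) (hN : N * N * N = 1) (hN1 : N ≠ 1) (hM : M.det = 1) :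
    ∃ j : Fin 3, (M * N ^ (j : ℕ)) * (M * N ^ (j : ℕ)) * ((M * N ^ (j : ℕ)) * (M * N ^ (j : ℕ))) = 1 :=
  quat_split_list N (mem_cubes N hN hN1) M hM

theorem sq_gen : ∀ M : Mat, M.det = 1 → ∃ P : Mat, P.det ≠ 0 ∧ ∃ R : Mat, R.det ≠ 0 ∧
    M = P * P * (R * R) := by decide +kernel

theorem central_neg : ∀ M : Mat, M.det ≠ 0 → (∀ P : Mat, P.det ≠ 0 → M * P = P * M) →
    M = 1 ∨ M = -1 := by decide +kernel

/-- The general linear group as matrices. -/
theorem card_gl [Fact (Nat.Prime 3)] : Nat.card (GL (Fin 2) (ZMod 3)) = 48 := by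
  exact (Matrix.card_GL_field (𝔽 := ZMod 3) 2).trans (by simp [Fin.prod_univ_two, ZMod.card])

end CfsgLib.G2Amalgam
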