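import Cfsg.Agent.G2Amalgam.Eights

/-!
# The amalgam of type `G₂(3)`: the normaliser of an elementary group of order eight
-/

set_option autoImplicit false
set_option linter.unusedSectionVars false
set_option linter.style.haveILetI false
set_option maxRecDepth 100000

namespace CfsgLib.G2Amalgam

open Matrix

attribute [local instance] fact_three'

variable {G : Type*} [Group G]

namespace Setup

variable [Finite G] {c : Setup G}

namespace Frame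

variable {F : c.Frame}

/-- Two anticommuting elements of order four give every element up to sign. -/
theorem four_lift {P : Subgroup G} (hPH : P ≤ F.H) (ht : F.T.t ∈ P)
    (h4 : Nat.card (F.img P) = 4) (hsq : ∀ q ∈ F.img P, q * q = 1)
    {u w : G} (hu : u ∈ P) (hw : w ∈ P) (huu : u * u = F.T.t) (hww : w * w = F.T.t)
    (huw : w * u * w⁻¹ = u⁻¹) {v : G} (hv : v ∈ P) :
    ∃ ε : Bool, v = pb F.T.t ε ∨ v = pb F.T.t ε * u ∨ v = pb F.T.t ε * w ∨
      v = pb F.T.t ε * (u * w) := by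
  have hne : ∀ {z : G} (hz : z ∈ P), z * z = F.T.t → ((⟨z, hPH hz⟩ : F.H) : F.X) ≠ 1 := by
    intro z hz hzz h1
    rcases F.mem_tH ((QuotientGroup.eq_one_iff _).1 h1) with e | e <;> change z = _ at e <;> subst e
    · exact F.t_ne (by rw [← hzz, one_mul])
    · exact F.t_ne (by rw [← hzz, F.T.tt])
  have hut : Commute u F.T.t := F.mem_H.1 (hPH hu)
  have hne2 : ((⟨u, hPH hu⟩ : F.H) : F.X) ≠ ((⟨w, hPH hw⟩ : F.H) : F.X) := by
    intro h
    have hfix : w * u * w⁻¹ = u := by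
      rcases F.eq_cases h with e | e <;> change w = _ at e <;> rw [e]
      · group
      · show u * F.T.t * u * (u * F.T.t)⁻¹ = u
        rw [show u * F.T.t * u * (u * F.T.t)⁻¹ = u * (F.T.t * u * F.T.t⁻¹) * u⁻¹ by group,
          hut.symm.eq, mul_inv_cancel_right]
        group
    rw [huw, F.inv_of_sq huu] at hfix
    exact F.t_ne (mul_eq_left.1 hfix)
  have key : ∀ (z : G) (hz : z ∈ P),
      ((⟨v, hPH hv⟩ : F.H) : F.X) = ((⟨z, hPH hz⟩ : F.H) : F.X) →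
      ∃ ε : Bool, v = pb F.T.t ε * z := by
    intro z hz h
    rcases F.eq_cases h.symm with e | e <;> change v = _ at e
    · exact ⟨false, e.trans (one_mul z).symm⟩
    · exact ⟨true, e.trans (F.mem_H.1 (hPH hz))⟩
  rcases four_group h4 hsq (F.mem_img.2 ⟨_, hu, rfl⟩) (F.mem_img.2 ⟨_, hw, rfl⟩) (hne hu huu)
    (hne hw hww) hne2 (F.mem_img.2 ⟨⟨v, hPH hv⟩, hv, rfl⟩) with h | h | h | h
  · obtain ⟨ε, e⟩ := key 1 (one_mem _) h
    exact ⟨ε, Or.inl (by rwa [mul_one] at e)⟩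
  · obtain ⟨ε, e⟩ := key _ hu h
    exact ⟨ε, Or.inr (Or.inl e)⟩
  · obtain ⟨ε, e⟩ := key _ hw h
    exact ⟨ε, Or.inr (Or.inr (Or.inl e))⟩
  · obtain ⟨ε, e⟩ := key _ (mul_mem hu hw) h
    exact ⟨ε, Or.inr (Or.inr (Or.inr e))⟩

/-- Conjugation in a quaternion group is trivial up to sign. -/
theorem pm {P : Subgroup G} (hPH : P ≤ F.H) (hsq : ∀ q ∈ F.img P, q * q = 1) {x v : G} (hx : x ∈ P)
    (hv : v ∈ P) : ∃ ε : Bool, x * v * x⁻¹ = pb F.T.t ε * v := by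
  have hxX : ((⟨x, hPH hx⟩ : F.H) : F.X) ∈ F.img P := F.mem_img.2 ⟨_, hx, rfl⟩
  have hvX : ((⟨v, hPH hv⟩ : F.H) : F.X) ∈ F.img P := F.mem_img.2 ⟨_, hv, rfl⟩
  have h : ((⟨v, hPH hv⟩ : F.H) : F.X) =
      (((⟨x, hPH hx⟩ : F.H) * ⟨v, hPH hv⟩ * (⟨x, hPH hx⟩ : F.H)⁻¹ : F.H) : F.X) := by
    rw [QuotientGroup.mk_mul, QuotientGroup.mk_mul, QuotientGroup.mk_inv]
    set p : F.X := ((⟨x, hPH hx⟩ : F.H) : F.X)
    set q : F.X := ((⟨v, hPH hv⟩ : F.H) : F.X)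
    have h1 := hsq _ (mul_mem hxX hvX)
    have hp : p⁻¹ = p := inv_eq_of_mul_eq_one_right (hsq _ hxX)
    have hq : q⁻¹ = q := inv_eq_of_mul_eq_one_right (hsq _ hvX)
    rw [show p * q = q * p by
      rw [← inv_eq_of_mul_eq_one_right h1, _root_.mul_inv_rev, hp, hq], mul_inv_cancel_right]
  rcases F.eq_cases h with e | e <;> push_cast at e
  · exact ⟨false, by rw [e]; exact (one_mul v).symm⟩
  · exact ⟨true, by rw [e]; exact F.mem_H.1 (hPH hv)⟩

theorem pb_prod {x z : G} (hx : Commute x F.T.t) (ε η : Bool) :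
    pb F.T.t ε * x * (pb F.T.t η * z) = pb F.T.t (ε ^^ η) * (x * z) := by
  rw [← pb_mul F.T.tt]
  cases η
  · simp [pb, mul_assoc]
  · simp only [pb, if_true]
    rw [show (if ε = true then F.T.t else 1) * x * (F.T.t * z) =
      (if ε = true then F.T.t else 1) * (x * F.T.t) * z by group, hx.eq]
    group

namespace Sel

variable {S : Sel F}

/-- A second generator. -/
structure Axis (S : Sel F) where
  A : G
  B : G
  A_mem : A ∈ F.T.part
  B_mem : B ∈ F.partY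
  AA : A * A = F.T.t
  BB : B * B = F.T.t
  Aa : A * S.a * A⁻¹ = S.a⁻¹
  Bb : B * S.b * B⁻¹ = S.b⁻¹
  sA : ∃ ε : Bool, F.T.s * A * F.T.s⁻¹ = pb F.T.t ε * (S.a * A)
  sB : ∃ ε : Bool, F.T.s * B * F.T.s⁻¹ = pb F.T.t ε * (S.b * B)

variable (hc : F.Core)

include hc

theorem s_j₁ (S : Sel F) : ∃ ε : Bool, F.T.s * S.j₁ * F.T.s⁻¹ = pb F.T.t ε * (S.a * S.j₁) := by
  have hm := F.part_conj F.T.s₁ F.T.ts.symm S.j₁_mem
  have hts : Commute F.T.s F.T.t := F.T.ts.symm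
  have hpbs : ∀ ε, Commute F.T.s (pb F.T.t ε) := fun ε => by
    cases ε
    · exact Commute.one_right _
    · exact hts
  obtain ⟨ε, w, hw, e⟩ := S.part_cases hc hm
  rcases hw with rfl | rfl | rfl | rfl
  · exfalso
    have h2 : pb F.T.t ε * 1 * (pb F.T.t ε * 1) = F.T.t := by
      rw [← e, show F.T.s * S.j₁ * F.T.s⁻¹ * (F.T.s * S.j₁ * F.T.s⁻¹) =
        F.T.s * (S.j₁ * S.j₁) * F.T.s⁻¹ by group, S.j₁j₁, hts.eq, mul_inv_cancel_right]
    cases ε
    · exact F.t_ne (by simpa [pb] using h2.symm)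
    · exact F.t_ne (by rw [← h2]; simp [pb, F.T.tt])
  · exfalso
    have hj : S.j₁ = pb F.T.t ε * S.a⁻¹ := by
      calc S.j₁ = F.T.s⁻¹ * (F.T.s * S.j₁ * F.T.s⁻¹) * F.T.s := by group
        _ = F.T.s * pb F.T.t ε * S.a * F.T.s⁻¹ := by rw [e, F.T.si]; group
        _ = pb F.T.t ε * (F.T.s * S.a * F.T.s⁻¹) := by rw [(hpbs ε).eq]; group
        _ = _ := by rw [S.sa]
    have hca : Commute S.j₁ S.a := by
      rw [hj]
      refine Commute.mul_left ?_ (Commute.refl S.a).inv_left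
      cases ε
      · exact Commute.one_left _
      · exact S.a_t.symm
    have hja := S.ja
    rw [hca.eq, mul_inv_cancel_right, F.inv_of_sq S.aa] at hja
    exact F.t_ne (mul_eq_left.1 hja.symm)
  · exfalso
    cases ε
    · exact F.T.flip_no_fix F.T.ts.symm F.T.ss F.s_δ S.j₁_mem S.j₁j₁ (e.trans (one_mul _))
    · exact (S.j₁_not_inverted hc).1 (e.trans ((F.inv_of_sq S.j₁j₁).trans S.j₁_t.eq).symm)
  · exact ⟨ε, e⟩

theorem s_j₂ (S : Sel F) : ∃ ε : Bool, F.T.s * S.j₂ * F.T.s⁻¹ = pb F.T.t ε * (S.b * S.j₂) := by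
  have hm := F.partY_conj F.T.ts.symm (Or.inr F.sy) S.j₂_mem
  have hts : Commute F.T.s F.T.t := F.T.ts.symm
  have hpbs : ∀ ε, Commute F.T.s (pb F.T.t ε) := fun ε => by
    cases ε
    · exact Commute.one_right _
    · exact hts
  obtain ⟨ε, w, hw, e⟩ := S.partY_cases hc hm
  rcases hw with rfl | rfl | rfl | rfl
  · exfalso
    have h2 : pb F.T.t ε * 1 * (pb F.T.t ε * 1) = F.T.t := by
      rw [← e, show F.T.s * S.j₂ * F.T.s⁻¹ * (F.T.s * S.j₂ * F.T.s⁻¹) =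
        F.T.s * (S.j₂ * S.j₂) * F.T.s⁻¹ by group, S.j₂j₂, hts.eq, mul_inv_cancel_right]
    cases ε
    · exact F.t_ne (by simpa [pb] using h2.symm)
    · exact F.t_ne (by rw [← h2]; simp [pb, F.T.tt])
  · exfalso
    have hj : S.j₂ = pb F.T.t ε * S.b⁻¹ := by
      calc S.j₂ = F.T.s⁻¹ * (F.T.s * S.j₂ * F.T.s⁻¹) * F.T.s := by group
        _ = F.T.s * pb F.T.t ε * S.b * F.T.s⁻¹ := by rw [e, F.T.si]; group
        _ = pb F.T.t ε * (F.T.s * S.b * F.T.s⁻¹) := by rw [(hpbs ε).eq]; group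
        _ = _ := by rw [S.sb]
    have hcb : Commute S.j₂ S.b := by
      rw [hj]
      refine Commute.mul_left ?_ (Commute.refl S.b).inv_left
      cases ε
      · exact Commute.one_left _
      · exact S.b_t.symm
    have hjb := S.jb
    rw [hcb.eq, mul_inv_cancel_right, F.inv_of_sq S.bb] at hjb
    exact F.t_ne (mul_eq_left.1 hjb.symm)
  · exfalso
    cases ε
    · exact F.partY_no_fix S.j₂_mem S.j₂j₂ (e.trans (one_mul _))
    · exact (S.j₂_not_inverted hc).1 (e.trans ((F.inv_of_sq S.j₂j₂).trans S.j₂_t.eq).symm)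
  · exact ⟨ε, e⟩

theorem exists_axes (S : Sel F) : ∃ P Q : Axis S, P.A * P.B = S.J ∧ Q.A * Q.B = S.K := by
  obtain ⟨ε, hε⟩ := s_j₁ hc S
  obtain ⟨η, hη⟩ := s_j₂ hc S
  refine ⟨⟨S.j₁, S.j₂, S.j₁_mem, S.j₂_mem, S.j₁j₁, S.j₂j₂, S.ja, S.jb, ⟨ε, hε⟩, ⟨η, hη⟩⟩,
    ⟨S.a * S.j₁, S.j₂, mul_mem S.a_mem S.j₁_mem, S.j₂_mem, ?_, S.j₂j₂, ?_, S.jb, ⟨!ε, ?_⟩, ⟨η, hη⟩⟩,
    rfl, rfl⟩
  · calc S.a * S.j₁ * (S.a * S.j₁) = S.a * (S.j₁ * S.a * S.j₁⁻¹) * (S.j₁ * S.j₁) := by group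
      _ = F.T.t := by rw [S.ja, mul_inv_cancel, one_mul, S.j₁j₁]
  · rw [show S.a * S.j₁ * S.a * (S.a * S.j₁)⁻¹ = S.a * (S.j₁ * S.a * S.j₁⁻¹) * S.a⁻¹ by group, S.ja]
    group
  · rw [show F.T.s * (S.a * S.j₁) * F.T.s⁻¹ = (F.T.s * S.a * F.T.s⁻¹) * (F.T.s * S.j₁ * F.T.s⁻¹) by
      group, S.sa, hε, ← mul_assoc S.a S.a, S.aa]
    cases ε
    · show S.a⁻¹ * (1 * (S.a * S.j₁)) = F.T.t * (F.T.t * S.j₁)
      rw [one_mul, inv_mul_cancel_left, ← mul_assoc, F.T.tt, one_mul]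
    · show S.a⁻¹ * (F.T.t * (S.a * S.j₁)) = 1 * (F.T.t * S.j₁)
      rw [one_mul, ← mul_assoc, S.a_t.inv_left.eq, mul_assoc, inv_mul_cancel_left]

namespace Axis

variable (A : Axis S)

omit hc

/-- The further involution. -/
def i : G := A.A * A.B

theorem A_t : Commute A.A F.T.t := A.A_mem.1
theorem B_t : Commute A.B F.T.t := (F.mem_partY.1 A.B_mem).1

/-- The normaliser. -/
def N : Subgroup G := Subgroup.normalizer (S.El A.i : Set G)

include hc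

theorem a_A : S.a * A.A * S.a⁻¹ = F.T.t * A.A := by
  have h : A.A * S.a = S.a⁻¹ * A.A := mul_inv_eq_iff_eq_mul.1 A.Aa
  rw [F.inv_of_sq S.aa] at h
  refine mul_inv_eq_iff_eq_mul.2 ?_
  rw [mul_assoc, h, ← mul_assoc, ← mul_assoc, S.a_t.symm.eq, mul_assoc S.a, F.T.tt, mul_one]

theorem good : S.Good A.i := by
  refine ⟨?_, (A.A_t).mul_left A.B_t, ?_⟩
  · rw [i, (comm_pY hc A.A_mem A.B_mem).symm.mul_mul_mul_comm, A.AA, A.BB, F.T.tt]
  · show A.i * S.e = S.e * A.i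
    refine mul_inv_eq_iff_eq_mul.1 ?_
    rw [i, S.conj_e hc A.A_mem A.B_mem, A.Aa, A.Bb, F.inv_of_sq S.aa, F.inv_of_sq S.bb,
      show S.a * F.T.t * (S.b * F.T.t) = S.a * (F.T.t * S.b) * F.T.t by group, ← S.b_t.eq,
      show S.a * (S.b * F.T.t) * F.T.t = S.a * S.b * (F.T.t * F.T.t) by group, F.T.tt, mul_one]
    rfl

theorem notT₀ : A.i ∉ S.T₀ := fun h => by
  have h1 := (S.a_T₀ hc h).eq
  have h2 : A.i * S.a * A.i⁻¹ = S.a⁻¹ := by
    rw [i, show A.A * A.B * S.a * (A.A * A.B)⁻¹ = A.A * (A.B * S.a * A.B⁻¹) * A.A⁻¹ by group,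
      ← (comm_pY hc S.a_mem A.B_mem).eq, mul_inv_cancel_right, A.Aa]
  rw [← h1, mul_inv_cancel_right, F.inv_of_sq S.aa] at h2
  exact F.t_ne (mul_eq_left.1 h2.symm)

theorem card_eight : Nat.card (S.El A.i) = 8 := S.card_El hc (A.good hc) (A.notT₀ hc)

theorem t_El : F.T.t ∈ S.El A.i := S.T₀_le_El hc (S.t_T₀ hc)
theorem e_El : S.e ∈ S.El A.i := S.T₀_le_El hc (S.e_T₀ hc)
theorem i_El : A.i ∈ S.El A.i := S.self_El hc

theorem mem_N {n : G} (ht : n * F.T.t = F.T.t * n) (he : n * S.e * n⁻¹ ∈ S.El A.i)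
    (hi : n * A.i * n⁻¹ ∈ S.El A.i) : n ∈ A.N := by
  refine Subgroup.mem_normalizer_fintype fun x hx => ?_
  have hle : S.El A.i ≤ (S.El A.i).comap (MulAut.conj n).toMonoidHom :=
    sup_le (sup_le (Subgroup.zpowers_le.2 (by
        show n * F.T.t * n⁻¹ ∈ S.El A.i
        rw [ht, mul_inv_cancel_right]
        exact A.t_El hc))
      (Subgroup.zpowers_le.2 he)) (Subgroup.zpowers_le.2 hi)
  exact hle hx

theorem pb_El (ε : Bool) : pb F.T.t ε ∈ S.El A.i := pb_mem (A.t_El hc) ε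

include A in
theorem a_fix : S.a * S.e * S.a⁻¹ = S.e := by
  rw [(S.a_T₀ hc (S.e_T₀ hc)).eq, mul_inv_cancel_right]

theorem a_i : S.a * A.i * S.a⁻¹ = A.i * F.T.t := by
  rw [i, show S.a * (A.A * A.B) * S.a⁻¹ = (S.a * A.A * S.a⁻¹) * (S.a * A.B * S.a⁻¹) by group,
    (comm_pY hc S.a_mem A.B_mem).eq, mul_inv_cancel_right, A.a_A hc, ← A.A_t.eq, mul_assoc,
    ← A.B_t.eq, ← mul_assoc]

theorem a_N : S.a ∈ A.N :=
  A.mem_N hc S.a_t.eq (by rw [A.a_fix hc]; exact A.e_El hc)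
    (by rw [A.a_i hc]; exact mul_mem (A.i_El hc) (A.t_El hc))

theorem j₁_N : S.j₁ ∈ A.N := by
  refine A.mem_N hc S.j₁_t.eq (by rw [Sel.e, j_e₀ hc S]; exact mul_mem (A.e_El hc) (A.t_El hc)) ?_
  obtain ⟨ε, hε⟩ := pm F.part_H F.xframe.sq_VD S.j₁_mem A.A_mem
  rw [i, show S.j₁ * (A.A * A.B) * S.j₁⁻¹ = (S.j₁ * A.A * S.j₁⁻¹) * (S.j₁ * A.B * S.j₁⁻¹) by group,
    hε, (comm_pY hc S.j₁_mem A.B_mem).eq, mul_inv_cancel_right, mul_assoc]
  exact mul_mem (A.pb_El hc ε) (A.i_El hc)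

theorem prod_AB : S.a * A.A * (S.b * A.B) = S.e * A.i := by
  rw [Sel.e, i, show S.a * A.A * (S.b * A.B) = S.a * (A.A * S.b) * A.B by group,
    (comm_pY hc A.A_mem S.b_mem).eq]
  group

include A in
theorem s_fix : F.T.s * S.e * F.T.s⁻¹ = S.e := by
  rw [Sel.e, (e₀_s hc S).eq, mul_inv_cancel_right]

theorem s_i : ∃ ε : Bool, F.T.s * A.i * F.T.s⁻¹ = pb F.T.t ε * (S.e * A.i) := by
  obtain ⟨ε, hε⟩ := A.sA
  obtain ⟨η, hη⟩ := A.sB
  refine ⟨ε ^^ η, ?_⟩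
  rw [i, show F.T.s * (A.A * A.B) * F.T.s⁻¹ = (F.T.s * A.A * F.T.s⁻¹) * (F.T.s * A.B * F.T.s⁻¹) by group,
    hε, hη, pb_prod (S.a_t.mul_left A.A_t), A.prod_AB hc]
  rfl

theorem s_N : F.T.s ∈ A.N := by
  obtain ⟨ε, hε⟩ := A.s_i hc
  exact A.mem_N hc F.T.ts.symm (by rw [A.s_fix hc]; exact A.e_El hc)
    (by rw [hε]; exact mul_mem (A.pb_El hc ε) (mul_mem (A.e_El hc) (A.i_El hc)))

theorem rotate₁ : ∃ p : ℕ, ∃ ε η : Bool, F.y ^ p * S.a * (F.y ^ p)⁻¹ = pb F.T.t ε * A.A ∧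
    F.y ^ p * A.A * (F.y ^ p)⁻¹ = pb F.T.t η * (S.a * A.A) := by
  set aq : F.X := ((⟨S.a, F.part_H S.a_mem⟩ : F.H) : F.X) with haq
  set Aq : F.X := ((⟨A.A, F.part_H A.A_mem⟩ : F.H) : F.X) with hAq
  have haV : aq ∈ F.img F.T.part := F.mem_img.2 ⟨_, S.a_mem, rfl⟩
  have hAV : Aq ∈ F.img F.T.part := F.mem_img.2 ⟨_, A.A_mem, rfl⟩
  have hne : ∀ {z : G} (hz : z ∈ F.T.part), z * z = F.T.t → ((⟨z, F.part_H hz⟩ : F.H) : F.X) ≠ 1 := by
    intro z hz hzz h1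
    rcases F.mem_tH ((QuotientGroup.eq_one_iff _).1 h1) with e | e <;> change z = _ at e <;> subst e
    · exact F.t_ne (by rw [← hzz, one_mul])
    · exact F.t_ne (by rw [← hzz, F.T.tt])
  have hne2 : aq ≠ Aq := by
    intro h
    have hfix : A.A * S.a * A.A⁻¹ = S.a := by
      rcases F.eq_cases h with e | e <;> change A.A = _ at e <;> rw [e]
      · group
      · show S.a * F.T.t * S.a * (S.a * F.T.t)⁻¹ = S.a
        rw [show S.a * F.T.t * S.a * (S.a * F.T.t)⁻¹ = S.a * (F.T.t * S.a * F.T.t⁻¹) * S.a⁻¹ by group,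
          S.a_t.symm.eq, mul_inv_cancel_right]
        group
    rw [A.Aa, F.inv_of_sq S.aa] at hfix
    exact F.t_ne (mul_eq_left.1 hfix)
  have hnorm : ∀ v ∈ F.img F.T.part, F.yX * v * F.yX⁻¹ ∈ F.img F.T.part := fun v hv =>
    F.xframe.norm_VD F.yX (by
      show F.yX * F.dX * F.yX⁻¹ ∈ Subgroup.zpowers F.dX
      rw [← (show Commute F.dX F.yX from F.xframe.comm).eq, mul_inv_cancel_right]
      exact Subgroup.mem_zpowers _) v hv
  have h3 : F.yX ^ 3 = 1 := EX_cube hc (yX_EX hc)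
  obtain ⟨k, hk⟩ := orbit_cover (V := F.img F.T.part) (r := F.yX) F.xframe.card_VD h3 hnorm
    (fun v hv => F.xframe.fpf_VD v hv) haV (hne S.a_mem S.aa) hAV (hne A.A_mem A.AA)
  set r := F.yX ^ k.val with hr
  have hrfix : ∀ v ∈ F.img F.T.part, r * v * r⁻¹ = v → v = 1 := by
    intro v hv h
    refine F.xframe.fpf_VD v hv ?_
    rcases (show ∀ z : ZMod 3, z = 0 ∨ z.val = 1 ∨ z.val = 2 by decide) k with e | e | e
    · rw [hr, e, ZMod.val_zero, pow_zero, one_mul, inv_one, mul_one] at hk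
      exact absurd hk.symm hne2
    · rw [hr, e, pow_one] at h
      exact (mul_inv_eq_iff_eq_mul.1 h).symm
    · rw [hr, e] at h
      have := (show Commute (F.yX ^ 2) v from mul_inv_eq_iff_eq_mul.1 h).pow_left 2
      rw [← pow_mul, show 2 * 2 = 3 + 1 from rfl, pow_succ, h3, one_mul] at this
      exact this.eq.symm
  have hr3 : r * r * r = 1 := by
    rw [hr, ← pow_add, ← pow_add, show k.val + k.val + k.val = 3 * k.val by ring, pow_mul, h3, one_pow]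
  have hrA : r * Aq * r⁻¹ = aq * Aq := by
    have hmem : r * Aq * r⁻¹ ∈ F.img F.T.part := by
      rcases (show ∀ z : ZMod 3, z.val = 0 ∨ z.val = 1 ∨ z.val = 2 by decide) k with e | e | e <;>
        rw [hr, e]
      · simpa using hAV
      · rw [pow_one]; exact hnorm _ hAV
      · have := hnorm _ (hnorm _ hAV)
        rwa [show F.yX * (F.yX * Aq * F.yX⁻¹) * F.yX⁻¹ = F.yX ^ 2 * Aq * (F.yX ^ 2)⁻¹ by
          rw [pow_two]; group] at this
    rcases four_group F.xframe.card_VD F.xframe.sq_VD haV hAV (hne S.a_mem S.aa) (hne A.A_mem A.AA)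
      hne2 hmem with e | e | e | e
    · exact absurd (conj_eq_one_iff.1 e) (hne A.A_mem A.AA)
    · refine absurd (hrfix aq haV ?_) (hne S.a_mem S.aa)
      calc r * aq * r⁻¹ = r * (r * Aq * r⁻¹) * r⁻¹ := by rw [e]
        _ = r * (r * (r * aq * r⁻¹) * r⁻¹) * r⁻¹ := by rw [← hk]
        _ = (r * r * r) * aq * (r * r * r)⁻¹ := by group
        _ = aq := by rw [hr3, inv_one, one_mul, mul_one]
    · exact absurd (hrfix Aq hAV e) (hne A.A_mem A.AA)
    · exact e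
  have hk' : Aq = (((⟨F.y, F.y_H⟩ : F.H) ^ k.val * ⟨S.a, F.part_H S.a_mem⟩ *
      ((⟨F.y, F.y_H⟩ : F.H) ^ k.val)⁻¹ : F.H) : F.X) := hk
  have hA' : (((⟨S.a, F.part_H S.a_mem⟩ * ⟨A.A, F.part_H A.A_mem⟩) : F.H) : F.X) =
      (((⟨F.y, F.y_H⟩ : F.H) ^ k.val * ⟨A.A, F.part_H A.A_mem⟩ *
      ((⟨F.y, F.y_H⟩ : F.H) ^ k.val)⁻¹ : F.H) : F.X) := hrA.symm
  refine ⟨k.val, ?_⟩
  rcases F.eq_cases hk' with e1 | e1 <;> rcases F.eq_cases hA' with e2 | e2 <;> push_cast at e1 e2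
  · exact ⟨false, false, e1.trans (one_mul _).symm, e2.trans (one_mul _).symm⟩
  · exact ⟨false, true, e1.trans (one_mul _).symm, e2.trans (S.a_t.mul_left A.A_t).eq⟩
  · exact ⟨true, false, e1.trans A.A_t.eq, e2.trans (one_mul _).symm⟩
  · exact ⟨true, true, e1.trans A.A_t.eq, e2.trans (S.a_t.mul_left A.A_t).eq⟩

theorem rotate₂ : ∃ p : ℕ, ∃ ε η : Bool, c.one.δ ^ p * S.b * (c.one.δ ^ p)⁻¹ = pb F.T.t ε * A.B ∧
    c.one.δ ^ p * A.B * (c.one.δ ^ p)⁻¹ = pb F.T.t η * (S.b * A.B) := by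
  set bq : F.X := ((⟨S.b, F.partY_H S.b_mem⟩ : F.H) : F.X) with hbq
  set Bq : F.X := ((⟨A.B, F.partY_H A.B_mem⟩ : F.H) : F.X) with hBq
  have hbV : bq ∈ F.img F.partY := F.mem_img.2 ⟨_, S.b_mem, rfl⟩
  have hBV : Bq ∈ F.img F.partY := F.mem_img.2 ⟨_, A.B_mem, rfl⟩
  have hne : ∀ {z : G} (hz : z ∈ F.partY), z * z = F.T.t →
      ((⟨z, F.partY_H hz⟩ : F.H) : F.X) ≠ 1 := by
    intro z hz hzz h1
    rcases F.mem_tH ((QuotientGroup.eq_one_iff _).1 h1) with e | e <;> change z = _ at e <;> subst e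
    · exact F.t_ne (by rw [← hzz, one_mul])
    · exact F.t_ne (by rw [← hzz, F.T.tt])
  have hne2 : bq ≠ Bq := by
    intro h
    have hfix : A.B * S.b * A.B⁻¹ = S.b := by
      rcases F.eq_cases h with e | e <;> change A.B = _ at e <;> rw [e]
      · group
      · show S.b * F.T.t * S.b * (S.b * F.T.t)⁻¹ = S.b
        rw [show S.b * F.T.t * S.b * (S.b * F.T.t)⁻¹ = S.b * (F.T.t * S.b * F.T.t⁻¹) * S.b⁻¹ by group,
          S.b_t.symm.eq, mul_inv_cancel_right]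
        group
    rw [A.Bb, F.inv_of_sq S.bb] at hfix
    exact F.t_ne (mul_eq_left.1 hfix)
  have hnorm : ∀ v ∈ F.img F.partY, F.dX * v * F.dX⁻¹ ∈ F.img F.partY := fun v hv =>
    F.xframe.norm_VY F.dX (by
      show F.dX * F.yX * F.dX⁻¹ ∈ Subgroup.zpowers F.yX
      rw [(show Commute F.dX F.yX from F.xframe.comm).eq, mul_inv_cancel_right]
      exact Subgroup.mem_zpowers _) v hv
  have h3 : F.dX ^ 3 = 1 := EX_cube hc (dX_EX hc)
  obtain ⟨k, hk⟩ := orbit_cover (V := F.img F.partY) (r := F.dX) F.xframe.card_VY h3 hnorm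
    (fun v hv => F.xframe.fpf_VY v hv) hbV (hne S.b_mem S.bb) hBV (hne A.B_mem A.BB)
  set r := F.dX ^ k.val with hr
  have hrfix : ∀ v ∈ F.img F.partY, r * v * r⁻¹ = v → v = 1 := by
    intro v hv h
    refine F.xframe.fpf_VY v hv ?_
    rcases (show ∀ z : ZMod 3, z = 0 ∨ z.val = 1 ∨ z.val = 2 by decide) k with e | e | e
    · rw [hr, e, ZMod.val_zero, pow_zero, one_mul, inv_one, mul_one] at hk
      exact absurd hk.symm hne2
    · rw [hr, e, pow_one] at h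
      exact (mul_inv_eq_iff_eq_mul.1 h).symm
    · rw [hr, e] at h
      have := (show Commute (F.dX ^ 2) v from mul_inv_eq_iff_eq_mul.1 h).pow_left 2
      rw [← pow_mul, show 2 * 2 = 3 + 1 from rfl, pow_succ, h3, one_mul] at this
      exact this.eq.symm
  have hr3 : r * r * r = 1 := by
    rw [hr, ← pow_add, ← pow_add, show k.val + k.val + k.val = 3 * k.val by ring, pow_mul, h3, one_pow]
  have hrB : r * Bq * r⁻¹ = bq * Bq := by
    have hmem : r * Bq * r⁻¹ ∈ F.img F.partY := by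
      rcases (show ∀ z : ZMod 3, z.val = 0 ∨ z.val = 1 ∨ z.val = 2 by decide) k with e | e | e <;>
        rw [hr, e]
      · simpa using hBV
      · rw [pow_one]; exact hnorm _ hBV
      · have := hnorm _ (hnorm _ hBV)
        rwa [show F.dX * (F.dX * Bq * F.dX⁻¹) * F.dX⁻¹ = F.dX ^ 2 * Bq * (F.dX ^ 2)⁻¹ by
          rw [pow_two]; group] at this
    rcases four_group F.xframe.card_VY F.xframe.sq_VY hbV hBV (hne S.b_mem S.bb) (hne A.B_mem A.BB)
      hne2 hmem with e | e | e | e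
    · exact absurd (conj_eq_one_iff.1 e) (hne A.B_mem A.BB)
    · refine absurd (hrfix bq hbV ?_) (hne S.b_mem S.bb)
      calc r * bq * r⁻¹ = r * (r * Bq * r⁻¹) * r⁻¹ := by rw [e]
        _ = r * (r * (r * bq * r⁻¹) * r⁻¹) * r⁻¹ := by rw [← hk]
        _ = (r * r * r) * bq * (r * r * r)⁻¹ := by group
        _ = bq := by rw [hr3, inv_one, one_mul, mul_one]
    · exact absurd (hrfix Bq hBV e) (hne A.B_mem A.BB)
    · exact e
  have hk' : Bq = (((⟨c.one.δ, F.δ_H⟩ : F.H) ^ k.val * ⟨S.b, F.partY_H S.b_mem⟩ *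
      ((⟨c.one.δ, F.δ_H⟩ : F.H) ^ k.val)⁻¹ : F.H) : F.X) := hk
  have hB' : (((⟨S.b, F.partY_H S.b_mem⟩ * ⟨A.B, F.partY_H A.B_mem⟩) : F.H) : F.X) =
      (((⟨c.one.δ, F.δ_H⟩ : F.H) ^ k.val * ⟨A.B, F.partY_H A.B_mem⟩ *
      ((⟨c.one.δ, F.δ_H⟩ : F.H) ^ k.val)⁻¹ : F.H) : F.X) := hrB.symm
  refine ⟨k.val, ?_⟩
  rcases F.eq_cases hk' with e1 | e1 <;> rcases F.eq_cases hB' with e2 | e2 <;> push_cast at e1 e2
  · exact ⟨false, false, e1.trans (one_mul _).symm, e2.trans (one_mul _).symm⟩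
  · exact ⟨false, true, e1.trans (one_mul _).symm, e2.trans (S.b_t.mul_left A.B_t).eq⟩
  · exact ⟨true, false, e1.trans A.B_t.eq, e2.trans (one_mul _).symm⟩
  · exact ⟨true, true, e1.trans A.B_t.eq, e2.trans (S.b_t.mul_left A.B_t).eq⟩

/-- The element of order three. -/
theorem exists_v : ∃ v ∈ A.N, Commute v F.T.t ∧ ∃ ε η : Bool,
    v * S.e * v⁻¹ = pb F.T.t ε * A.i ∧ v * A.i * v⁻¹ = pb F.T.t η * (S.e * A.i) := by
  obtain ⟨p, ε₁, η₁, hp1, hp2⟩ := A.rotate₁ hc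
  obtain ⟨q, ε₂, η₂, hq1, hq2⟩ := A.rotate₂ hc
  set v := F.y ^ p * c.one.δ ^ q with hv
  have hvt : Commute v F.T.t := ((show Commute F.y F.T.t from F.ty.symm).pow_left p).mul_left
    ((show Commute c.one.δ F.T.t from (F.T.comm_D₁ c.one.δ_mem).symm).pow_left q)
  have hfa : ∀ x ∈ F.T.part, v * x * v⁻¹ = F.y ^ p * x * (F.y ^ p)⁻¹ := fun x hx => by
    have h : Commute (c.one.δ ^ q) x := ((show Commute x c.one.δ from hx.2.1).symm).pow_left q
    rw [hv, show F.y ^ p * c.one.δ ^ q * x * (F.y ^ p * c.one.δ ^ q)⁻¹ =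
      F.y ^ p * (c.one.δ ^ q * x * (c.one.δ ^ q)⁻¹) * (F.y ^ p)⁻¹ by group, h.eq, mul_inv_cancel_right]
  have hfb : ∀ x ∈ F.partY, v * x * v⁻¹ = c.one.δ ^ q * x * (c.one.δ ^ q)⁻¹ := fun x hx => by
    have h : Commute (F.y ^ p) x :=
      ((show Commute x F.y from (F.mem_partY.1 hx).2.1).symm).pow_left p
    have hdy : Commute (F.y ^ p) (c.one.δ ^ q) :=
      (show Commute F.y c.one.δ from F.W₃_comm F.y_W₃ F.δ₁_W₃).pow_pow p q
    rw [hv, hdy.eq, show c.one.δ ^ q * F.y ^ p * x * (c.one.δ ^ q * F.y ^ p)⁻¹ =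
      c.one.δ ^ q * (F.y ^ p * x * (F.y ^ p)⁻¹) * (c.one.δ ^ q)⁻¹ by group, h.eq, mul_inv_cancel_right]
  have he : v * S.e * v⁻¹ = pb F.T.t (ε₁ ^^ ε₂) * A.i := by
    rw [Sel.e, show v * (S.a * S.b) * v⁻¹ = (v * S.a * v⁻¹) * (v * S.b * v⁻¹) by group,
      hfa _ S.a_mem, hfb _ S.b_mem, hp1, hq1, pb_prod A.A_t]
    rfl
  have hi : v * A.i * v⁻¹ = pb F.T.t (η₁ ^^ η₂) * (S.e * A.i) := by
    rw [show v * A.i * v⁻¹ = (v * A.A * v⁻¹) * (v * A.B * v⁻¹) by rw [i]; group,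
      hfa _ A.A_mem, hfb _ A.B_mem, hp2, hq2, pb_prod (S.a_t.mul_left A.A_t), A.prod_AB hc]
  exact ⟨v, A.mem_N hc hvt.eq (by rw [he]; exact mul_mem (A.pb_El hc _) (A.i_El hc))
    (by rw [hi]; exact mul_mem (A.pb_El hc _) (mul_mem (A.e_El hc) (A.i_El hc))),
    hvt, _, _, he, hi⟩

/-- Transitivity outside `⟨t⟩`. -/
theorem move_e {u : G} (hu : u ∈ S.El A.i) (h1 : u ≠ 1) (ht : u ≠ F.T.t) :
    ∃ n ∈ A.N, n * F.T.t * n⁻¹ = F.T.t ∧ n * S.e * n⁻¹ = u := by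
  obtain ⟨α, β, γ, rfl⟩ := (S.mem_El hc (A.good hc)).1 hu
  obtain ⟨v, hvN, hvt, ε, η, hve, hvi⟩ := A.exists_v hc
  have hpbt : ∀ b, Commute (pb F.T.t b) F.T.t := fun b => by
    cases b
    · exact Commute.one_left _
    · exact Commute.refl _
  have hflip : ∀ (w : G) (n : G), n ∈ A.N → Commute n F.T.t → ∀ κ : Bool,
      n * S.e * n⁻¹ = pb F.T.t κ * w →
      ∀ δ' : Bool, ∃ m ∈ A.N, m * F.T.t * m⁻¹ = F.T.t ∧ m * S.e * m⁻¹ = pb F.T.t δ' * w := by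
    intro w n hn hnt κ hne δ'
    by_cases hk : δ' = κ
    · exact ⟨n, hn, by rw [hnt.eq, mul_inv_cancel_right], hk ▸ hne⟩
    · refine ⟨n * S.j₁, mul_mem hn (A.j₁_N hc), ?_, ?_⟩
      · rw [(hnt.mul_left S.j₁_t).eq, mul_inv_cancel_right]
      · rw [show n * S.j₁ * S.e * (n * S.j₁)⁻¹ = n * (S.j₁ * S.e * S.j₁⁻¹) * n⁻¹ by group, Sel.e,
          j_e₀ hc S, show n * (S.a * S.b * F.T.t) * n⁻¹ = n * S.e * n⁻¹ * (n * F.T.t * n⁻¹) by
            rw [Sel.e]; group, hne, hnt.eq, mul_inv_cancel_right]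
        have hwt : Commute w F.T.t := by
          have h := (S.El_comm hc (A.good hc)
            ((Subgroup.mem_normalizer_iff.1 hn _).1 (A.e_El hc))).1
          rw [hne] at h
          have := (hpbt κ).inv_left.mul_left h
          rwa [inv_mul_cancel_left] at this
        rw [mul_assoc, hwt.eq, ← mul_assoc,
          (show pb F.T.t κ * F.T.t = pb F.T.t κ * pb F.T.t true from rfl).trans (pb_mul F.T.tt κ true)]
        revert hk
        cases δ' <;> cases κ <;> simp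
  cases β <;> cases γ
  · exfalso
    cases α <;> simp [pb] at h1 ht
  · obtain ⟨m, hm, h2, h3⟩ := hflip A.i v hvN hvt ε hve α
    exact ⟨m, hm, h2, by rw [h3]; simp [pb]⟩
  · obtain ⟨m, hm, h2, h3⟩ := hflip S.e 1 (one_mem _) (Commute.one_left _) false (by simp [pb]) α
    exact ⟨m, hm, h2, by rw [h3]; simp [pb]⟩
  · obtain ⟨m, hm, h2, h3⟩ := hflip (S.e * A.i) (v * v) (mul_mem hvN hvN) (hvt.mul_left hvt)
      (ε ^^ η) (by
        rw [show v * v * S.e * (v * v)⁻¹ = v * (v * S.e * v⁻¹) * v⁻¹ by group, hve,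
          show v * (pb F.T.t ε * A.i) * v⁻¹ = (v * pb F.T.t ε * v⁻¹) * (v * A.i * v⁻¹) by group, hvi,
          show v * pb F.T.t ε * v⁻¹ = pb F.T.t ε by
            cases ε
            · simp [pb]
            · show v * F.T.t * v⁻¹ = F.T.t
              rw [hvt.eq, mul_inv_cancel_right], ← mul_assoc, pb_mul F.T.tt]) α
    exact ⟨m, hm, h2, by rw [h3]; simp [pb, mul_assoc]⟩

/-- Transitivity outside the four group. -/
theorem move_i {u : G} (hu : u ∈ S.El A.i) (hT : u ∉ S.T₀) :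
    ∃ n ∈ A.N, n * F.T.t * n⁻¹ = F.T.t ∧ n * S.e * n⁻¹ = S.e ∧ n * A.i * n⁻¹ = u := by
  obtain ⟨α, β, γ, rfl⟩ := (S.mem_El hc (A.good hc)).1 hu
  have hat : S.a * F.T.t * S.a⁻¹ = F.T.t := by rw [S.a_t.eq, mul_inv_cancel_right]
  have hst : F.T.s * F.T.t * F.T.s⁻¹ = F.T.t := by rw [← F.T.ts, mul_inv_cancel_right]
  obtain ⟨_, hit, hie⟩ := A.good hc
  cases γ
  · exact absurd (by
      rw [show pb A.i false = 1 from rfl, mul_one]
      exact (S.mem_T₀ hc).2 ⟨α, β, rfl⟩) hT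
  cases β
  · cases α
    · exact ⟨1, one_mem _, by simp, by simp, by simp [pb]⟩
    · refine ⟨S.a, A.a_N hc, hat, A.a_fix hc, ?_⟩
      rw [A.a_i hc, hit.eq]
      simp [pb]
  · obtain ⟨ε, hε⟩ := A.s_i hc
    by_cases hk : α = ε
    · refine ⟨F.T.s, A.s_N hc, hst, A.s_fix hc, ?_⟩
      rw [hε, hk]
      simp [pb, mul_assoc]
    · refine ⟨F.T.s * S.a, mul_mem (A.s_N hc) (A.a_N hc), ?_, ?_, ?_⟩
      · rw [show F.T.s * S.a * F.T.t * (F.T.s * S.a)⁻¹ = F.T.s * (S.a * F.T.t * S.a⁻¹) * F.T.s⁻¹ by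
          group, hat, hst]
      · rw [show F.T.s * S.a * S.e * (F.T.s * S.a)⁻¹ = F.T.s * (S.a * S.e * S.a⁻¹) * F.T.s⁻¹ by
          group, A.a_fix hc, A.s_fix hc]
      · rw [show F.T.s * S.a * A.i * (F.T.s * S.a)⁻¹ = F.T.s * (S.a * A.i * S.a⁻¹) * F.T.s⁻¹ by
          group, A.a_i hc, show F.T.s * (A.i * F.T.t) * F.T.s⁻¹ =
            (F.T.s * A.i * F.T.s⁻¹) * (F.T.s * F.T.t * F.T.s⁻¹) by group, hε, hst, mul_assoc,
          ((S.e_t hc).mul_left hit).eq, ← mul_assoc (pb F.T.t ε),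
          show pb F.T.t ε * F.T.t = pb F.T.t (ε ^^ true) from
            (show pb F.T.t ε * F.T.t = pb F.T.t ε * pb F.T.t true from rfl).trans (pb_mul F.T.tt ε true)]
        revert hk
        cases α <;> cases ε <;> simp [pb, mul_assoc]

/-- The centraliser. -/
theorem cent {z : G} (ht : Commute z F.T.t) (he : Commute z S.e) (hi : Commute z A.i) :
    z ∈ S.El A.i := by
  have hzH : z ∈ F.H := F.mem_H.2 ht.eq
  have hform : ∀ w ∈ F.plus, w * S.e * w⁻¹ = S.e →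
      ∃ a' ∈ F.T.part, ∃ b' ∈ F.partY, w = a' * b' := by
    intro w hw hwe
    obtain ⟨a', ha', b', hb', f, hf, rfl⟩ := decomp hc hw
    have hf1 : f = 1 := by
      refine rot_fix hc hf S.a_mem S.b_mem S.aa S.bb ?_
      show f * S.e * f⁻¹ = S.e ∨ f * S.e * f⁻¹ = S.e * F.T.t
      rw [show f * S.e * f⁻¹ = (a' * b')⁻¹ * ((a' * b' * f) * S.e * (a' * b' * f)⁻¹) * (a' * b')⁻¹⁻¹
        by group, hwe, show (a' * b')⁻¹ = a'⁻¹ * b'⁻¹ by
          rw [(comm_pY hc ha' hb').eq, _root_.mul_inv_rev]]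
      exact S.conj_e_cases hc (inv_mem ha') (inv_mem hb')
    exact ⟨a', ha', b', hb', by rw [hf1, mul_one]⟩
  obtain ⟨hii, hit, hie⟩ := A.good hc
  by_cases hp : z ∈ F.plus
  · obtain ⟨a', ha', b', hb', rfl⟩ := hform z hp (by rw [he.eq, mul_inv_cancel_right])
    have hpbT : ∀ b, pb F.T.t b ∈ F.T.part := fun b => pb_mem F.T.t_part b
    -- split off an element of the elementary group
    obtain ⟨u, hu, b'', hb'', hz⟩ : ∃ u ∈ S.El A.i, ∃ b'' ∈ F.partY, a' * b' = u * b'' := by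
      obtain ⟨ε, h | h | h | h⟩ := four_lift F.part_H F.T.t_part F.xframe.card_VD F.xframe.sq_VD
        S.a_mem A.A_mem S.aa A.AA A.Aa ha'
      · exact ⟨pb F.T.t ε, A.pb_El hc ε, b', hb', by rw [h]⟩
      · refine ⟨pb F.T.t ε * S.e, mul_mem (A.pb_El hc ε) (A.e_El hc), S.b⁻¹ * b',
          mul_mem (inv_mem S.b_mem) hb', ?_⟩
        rw [h, Sel.e]; group
      · refine ⟨pb F.T.t ε * A.i, mul_mem (A.pb_El hc ε) (A.i_El hc), A.B⁻¹ * b',
          mul_mem (inv_mem A.B_mem) hb', ?_⟩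
        rw [h, i]; group
      · refine ⟨pb F.T.t ε * (S.e * A.i), mul_mem (A.pb_El hc ε) (mul_mem (A.e_El hc) (A.i_El hc)),
          (S.b * A.B)⁻¹ * b', mul_mem (inv_mem (mul_mem S.b_mem A.B_mem)) hb', ?_⟩
        rw [h, ← A.prod_AB hc]; group
    obtain ⟨hut, hue, hui⟩ := S.El_comm hc (A.good hc) hu
    have hbe : Commute b'' S.e := by
      have := hue.inv_left.mul_left he
      rwa [hz, inv_mul_cancel_left] at this
    have hbi : Commute b'' A.i := by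
      have := hui.inv_left.mul_left hi
      rwa [hz, inv_mul_cancel_left] at this
    have hbb : Commute b'' S.b := by
      have := (comm_pY hc (inv_mem S.a_mem) hb'').symm.mul_right hbe
      rwa [Sel.e, inv_mul_cancel_left] at this
    have hbB : Commute b'' A.B := by
      have := (comm_pY hc (inv_mem A.A_mem) hb'').symm.mul_right hbi
      rwa [i, inv_mul_cancel_left] at this
    have hBb : A.B * S.b ≠ S.b * A.B := fun h => by
      have h2 := A.Bb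
      rw [h, mul_inv_cancel_right, F.inv_of_sq S.bb] at h2
      exact F.t_ne (mul_eq_left.1 h2.symm)
    rw [hz]
    refine mul_mem hu ?_
    obtain ⟨ε, h | h | h | h⟩ := four_lift F.partY_H F.t_partY F.xframe.card_VY F.xframe.sq_VY
      S.b_mem A.B_mem S.bb A.BB A.Bb hb''
    · rw [h]; exact A.pb_El hc ε
    all_goals
      exfalso
      have hpbc : ∀ w, Commute w F.T.t → Commute (pb F.T.t ε)⁻¹ w := fun w hw => by
        refine Commute.inv_left ?_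
        cases ε
        · exact Commute.one_left _
        · exact hw.symm
      have k1 := (hpbc _ S.b_t).mul_left hbb
      have k2 := (hpbc _ A.B_t).mul_left hbB
      rw [h, inv_mul_cancel_left] at k1 k2
    · exact hBb k2.symm.eq
    · exact hBb k1.eq
    · refine hBb ?_
      have := (Commute.refl S.b).inv_left.mul_left k1
      rw [inv_mul_cancel_left] at this
      exact this.eq
  · exfalso
    have hzs := (mem_H_cases hc hzH).resolve_left hp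
    obtain ⟨a', ha', b', hb', hw⟩ := hform _ hzs (by
      rw [show z * F.T.s * S.e * (z * F.T.s)⁻¹ = z * (F.T.s * S.e * F.T.s⁻¹) * z⁻¹ by group,
        A.s_fix hc, he.eq, mul_inv_cancel_right])
    obtain ⟨ε, hε⟩ := A.s_i hc
    obtain ⟨ε₁, h₁⟩ := pm F.part_H F.xframe.sq_VD ha' A.A_mem
    obtain ⟨ε₂, h₂⟩ := pm F.partY_H F.xframe.sq_VY hb' A.B_mem
    have hzi : (a' * b') * A.i * (a' * b')⁻¹ = pb F.T.t (ε₁ ^^ ε₂) * A.i := by
      rw [i, show a' * b' * (A.A * A.B) * (a' * b')⁻¹ =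
        a' * (b' * A.A * b'⁻¹) * a'⁻¹ * (a' * (b' * A.B * b'⁻¹) * a'⁻¹) by group,
        ← (comm_pY hc A.A_mem hb').eq, mul_inv_cancel_right, h₁,
        (comm_pY hc ha' (mul_mem (mul_mem hb' A.B_mem) (inv_mem hb'))).eq, mul_inv_cancel_right, h₂,
        pb_prod A.A_t]
    have hz' : z = a' * b' * F.T.s := by rw [← hw, mul_assoc, F.T.ss, mul_one]
    have hfix : z * A.i * z⁻¹ = A.i := by rw [hi.eq, mul_inv_cancel_right]
    rw [hz', show a' * b' * F.T.s * A.i * (a' * b' * F.T.s)⁻¹ =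
      a' * b' * (F.T.s * A.i * F.T.s⁻¹) * (a' * b')⁻¹ by group, hε,
      show a' * b' * (pb F.T.t ε * (S.e * A.i)) * (a' * b')⁻¹ =
        (a' * b' * pb F.T.t ε * (a' * b')⁻¹) * (a' * b' * S.e * (a' * b')⁻¹) *
          (a' * b' * A.i * (a' * b')⁻¹) by group, hzi, ← mul_assoc, mul_eq_right] at hfix
    have hmem : a' * b' * S.e * (a' * b')⁻¹ ∈ Subgroup.zpowers F.T.t := by
      have h1 : a' * b' * pb F.T.t ε * (a' * b')⁻¹ ∈ Subgroup.zpowers F.T.t := by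
        cases ε
        · simp [pb]
        · show a' * b' * F.T.t * (a' * b')⁻¹ ∈ _
          rw [((show Commute a' F.T.t from ha'.1).mul_left (F.mem_partY.1 hb').1).eq,
            mul_inv_cancel_right]
          exact Subgroup.mem_zpowers _
      have h2 : pb F.T.t (ε₁ ^^ ε₂) ∈ Subgroup.zpowers F.T.t := pb_mem (Subgroup.mem_zpowers _) _
      have h12 := eq_inv_of_mul_eq_one_left hfix
      rw [show a' * b' * S.e * (a' * b')⁻¹ = (a' * b' * pb F.T.t ε * (a' * b')⁻¹)⁻¹ *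
        (a' * b' * pb F.T.t ε * (a' * b')⁻¹ * (a' * b' * S.e * (a' * b')⁻¹)) by group, h12]
      exact mul_mem (inv_mem h1) (inv_mem h2)
    obtain ⟨b, hb⟩ := mem_zpowers_invol F.T.tt hmem
    have he0 := e₀_ne hc S
    rcases S.conj_e_cases hc ha' hb' with e | e <;> rw [e] at hb <;> cases b <;>
      simp only [pb, if_true, Bool.false_eq_true, if_false] at hb
    · exact he0.1 hb
    · exact he0.2 hb
    · exact he0.2 ((eq_mul_inv_of_mul_eq hb).trans (by rw [one_mul, F.T.ti]))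
    · exact he0.1 (mul_eq_right.1 hb)

/-- An element moving `t`. -/
def Moving : Prop := ∃ n ∈ A.N, n * F.T.t * n⁻¹ ≠ F.T.t

theorem seven (hm : A.Moving) {u : G} (hu : u ∈ S.El A.i) (h1 : u ≠ 1) :
    ∃ n ∈ A.N, n * F.T.t * n⁻¹ = u := by
  obtain ⟨n, hn, hne⟩ := hm
  have hu₀ : n * F.T.t * n⁻¹ ∈ S.El A.i := (Subgroup.mem_normalizer_iff.1 hn _).1 (A.t_El hc)
  obtain ⟨m₀, hm₀, hm₀t, hm₀e⟩ := A.move_e hc hu₀ (fun h => F.t_ne (conj_eq_one_iff.1 h)) hne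
  by_cases hut : u = F.T.t
  · exact ⟨1, one_mem _, by rw [hut]; simp⟩
  obtain ⟨m, hm', hmt, hme⟩ := A.move_e hc hu h1 hut
  refine ⟨m * m₀⁻¹ * n, mul_mem (mul_mem hm' (inv_mem hm₀)) hn, ?_⟩
  rw [show m * m₀⁻¹ * n * F.T.t * (m * m₀⁻¹ * n)⁻¹ = m * (m₀⁻¹ * (n * F.T.t * n⁻¹) * m₀) * m⁻¹ by
    group, ← hm₀e, show m₀⁻¹ * (m₀ * S.e * m₀⁻¹) * m₀ = S.e by group, hme]

end Axis

theorem exists_moving (S : Sel F) : ∃ A : Axis S, A.Moving := by
  obtain ⟨P, Q, hP, hQ⟩ := exists_axes hc S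
  obtain ⟨r, hrt, hre⟩ := exists_rot hc S
  change r * F.T.t * r⁻¹ = S.e * F.T.t at hrt
  change r * S.e * r⁻¹ = F.T.t at hre
  have het := S.e_t hc
  have hr2 : r * r * F.T.t * (r * r)⁻¹ = S.e := by
    rw [show r * r * F.T.t * (r * r)⁻¹ = r * (r * F.T.t * r⁻¹) * r⁻¹ by group, hrt,
      show r * (S.e * F.T.t) * r⁻¹ = (r * S.e * r⁻¹) * (r * F.T.t * r⁻¹) by group, hre, hrt,
      ← mul_assoc, ← het.eq, mul_assoc, F.T.tt, mul_one]
  have he0 := e₀_ne hc S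
  have hne1 : r * F.T.t * r⁻¹ ≠ F.T.t := fun h => he0.1 (by rw [hrt] at h; exact mul_eq_right.1 h)
  have hne2 : r * r * F.T.t * (r * r)⁻¹ ≠ F.T.t := fun h => he0.2 (hr2.symm.trans h)
  have hT₀ : ∀ w, (w = r ∨ w = r * r) → S.T₀ ≤ S.T₀.map (MulAut.conj w).toMonoidHom := by
    have h1 : S.T₀ ≤ S.T₀.map (MulAut.conj r).toMonoidHom := by
      refine sup_le (Subgroup.zpowers_le.2 ⟨S.e, S.e_T₀ hc, hre⟩) (Subgroup.zpowers_le.2
        ⟨F.T.t * S.e, mul_mem (S.t_T₀ hc) (S.e_T₀ hc), ?_⟩)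
      show r * (F.T.t * S.e) * r⁻¹ = S.e
      rw [show r * (F.T.t * S.e) * r⁻¹ = (r * F.T.t * r⁻¹) * (r * S.e * r⁻¹) by group, hre, hrt,
        mul_assoc, F.T.tt, mul_one]
    rintro w (rfl | rfl)
    · exact h1
    · intro x hx
      obtain ⟨x₁, hx₁, rfl⟩ := h1 hx
      obtain ⟨x₂, hx₂, rfl⟩ := h1 hx₁
      exact ⟨x₂, hx₂, by simp [mul_assoc]⟩
  have hcand : ∀ w, (w = r ∨ w = r * r) → ∀ A : Axis S,
      (S.El A.i).map (MulAut.conj w).toMonoidHom = S.El S.J ∨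
      (S.El A.i).map (MulAut.conj w).toMonoidHom = S.El S.K ∨
      (S.El A.i).map (MulAut.conj w).toMonoidHom = S.El F.T.s ∨
      (S.El A.i).map (MulAut.conj w).toMonoidHom = S.El (S.a * F.T.s) := by
    intro w hw A
    have hsq : ∀ x ∈ (S.El A.i).map (MulAut.conj w).toMonoidHom, x * x = 1 := by
      rintro _ ⟨x, hx, rfl⟩
      rw [← map_mul, S.El_sq hc (A.good hc) hx, map_one]
    refine S.El_cases hc ((hT₀ w hw).trans (Subgroup.map_mono (S.T₀_le_El hc))) ?_ hsq ?_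
    · rw [Subgroup.card_map_of_injective (MulAut.conj w).injective, A.card_eight hc]
    · intro x hx z hz
      have h1 : ∀ y ∈ (S.El A.i).map (MulAut.conj w).toMonoidHom, y⁻¹ = y := fun y hy =>
        inv_eq_of_mul_eq_one_right (hsq y hy)
      rw [← h1 _ (mul_mem hx hz), _root_.mul_inv_rev, h1 x hx, h1 z hz]
  -- a conjugation between two inner groups moving `t`
  have hmove : ∀ (A B : Axis S) (w : G), (S.El A.i).map (MulAut.conj w).toMonoidHom = S.El B.i →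
      (w * F.T.t * w⁻¹ = S.e ∨ w * F.T.t * w⁻¹ = S.e * F.T.t) → A.Moving := by
    intro A B w hmap hf
    refine ⟨w⁻¹ * S.j₁ * w, Subgroup.mem_normalizer_fintype fun x hx => ?_, ?_⟩
    · have h1 : w * x * w⁻¹ ∈ S.El B.i := hmap ▸ ⟨x, hx, rfl⟩
      have h2 := (Subgroup.mem_normalizer_iff.1 (B.j₁_N hc) _).1 h1
      rw [← hmap] at h2
      obtain ⟨x', hx', e⟩ := h2
      change w * x' * w⁻¹ = _ at e
      rwa [show w⁻¹ * S.j₁ * w * x * (w⁻¹ * S.j₁ * w)⁻¹ =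
        w⁻¹ * (S.j₁ * (w * x * w⁻¹) * S.j₁⁻¹) * w by group, ← e,
        show w⁻¹ * (w * x' * w⁻¹) * w = x' by group]
    · intro h
      have h' : S.j₁ * (w * F.T.t * w⁻¹) * S.j₁⁻¹ = w * F.T.t * w⁻¹ := by
        calc S.j₁ * (w * F.T.t * w⁻¹) * S.j₁⁻¹
            = w * (w⁻¹ * S.j₁ * w * F.T.t * (w⁻¹ * S.j₁ * w)⁻¹) * w⁻¹ := by group
          _ = _ := by rw [h]
      have hje : S.j₁ * S.e * S.j₁⁻¹ = S.e * F.T.t := j_e₀ hc S
      rcases hf with e | e <;> rw [e] at h'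
      · rw [hje] at h'
        exact F.t_ne (mul_eq_left.1 h')
      · rw [show S.j₁ * (S.e * F.T.t) * S.j₁⁻¹ = (S.j₁ * S.e * S.j₁⁻¹) * (S.j₁ * F.T.t * S.j₁⁻¹) by
          group, hje, S.j₁_t.eq, mul_inv_cancel_right] at h'
        exact F.t_ne (mul_eq_left.1 h')
  have hfr : ∀ w, (w = r ∨ w = r * r) →
      w * F.T.t * w⁻¹ = S.e ∨ w * F.T.t * w⁻¹ = S.e * F.T.t := by
    rintro w (rfl | rfl)
    · exact Or.inr hrt
    · exact Or.inl hr2
  have hPi : S.El P.i = S.El S.J := by rw [Axis.i, hP]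
  have hQi : S.El Q.i = S.El S.K := by rw [Axis.i, hQ]
  -- if `P` is mapped into the inner groups we are done
  rcases hcand r (Or.inl rfl) P with h | h | h | h
  · exact ⟨P, hmove P P r (h.trans hPi.symm) (hfr r (Or.inl rfl))⟩
  · exact ⟨P, hmove P Q r (h.trans hQi.symm) (hfr r (Or.inl rfl))⟩
  all_goals
    rcases hcand (r * r) (Or.inr rfl) P with h' | h' | h' | h'
    · exact ⟨P, hmove P P (r * r) (h'.trans hPi.symm) (hfr _ (Or.inr rfl))⟩
    · exact ⟨P, hmove P Q (r * r) (h'.trans hQi.symm) (hfr _ (Or.inr rfl))⟩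
    all_goals
      rcases hcand r (Or.inl rfl) Q with k | k | k | k
      · exact ⟨Q, hmove Q P r (k.trans hPi.symm) (hfr r (Or.inl rfl))⟩
      · exact ⟨Q, hmove Q Q r (k.trans hQi.symm) (hfr r (Or.inl rfl))⟩
      all_goals
        have hmm : (S.El P.i).map (MulAut.conj (r * r)).toMonoidHom =
            ((S.El P.i).map (MulAut.conj r).toMonoidHom).map (MulAut.conj r).toMonoidHom := by
          rw [Subgroup.map_map]
          congr 1
          ext x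
          simp [mul_assoc]
        have hinj := Subgroup.map_injective (f := (MulAut.conj r).toMonoidHom) (MulAut.conj r).injective
        first
          | exact absurd (hinj (h.trans k.symm)) (by rw [hPi, hQi]; exact S.El_ne hc)
          | exact ⟨P, hmove P P r (hinj ((hmm.symm.trans h').trans h.symm)) (hfr r (Or.inl rfl))⟩
          | exact ⟨P, hmove P Q r (hinj ((hmm.symm.trans h').trans k.symm)) (hfr r (Or.inl rfl))⟩

end Sel

end Frame

end Setup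

end CfsgLib.G2Amalgam
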