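import Cfsg.Agent.G2Amalgam.Mat
import Mathlib.LinearAlgebra.Matrix.ToLin
import Mathlib.GroupTheory.PGroup
import Mathlib.GroupTheory.SpecificGroups.Cyclic
import Mathlib.Algebra.Module.ZMod

/-!
# Natural modules: coordinates on a section of order nine
-/

set_option autoImplicit false
set_option linter.unusedSectionVars false

namespace CfsgLib.G2Amalgam

open Matrix

theorem fact_three' : Fact (Nat.Prime 3) := ⟨Nat.prime_three⟩

attribute [local instance] fact_three'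

variable {G : Type*} [Group G]

theorem conj_mem_norm {H : Subgroup G} {a x : G} (ha : a ∈ Subgroup.normalizer (H : Set G))
    (hx : x ∈ H) : a * x * a⁻¹ ∈ H := (Subgroup.mem_normalizer_iff.1 ha x).1 hx

/-- Coordinates on `X/Y` and the matrices by which `A` acts, with kernel `Q`. -/
structure Mod (A Q X Y : Subgroup G) where
  ρ : G → Mat
  v : G → Vec
  ρ_mul : ∀ a ∈ A, ∀ b ∈ A, ρ (a * b) = ρ a * ρ b
  ρ_ker : ∀ a ∈ A, (ρ a = 1 ↔ a ∈ Q)
  ρ_det : ∀ a ∈ A, (ρ a).det ≠ 0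
  ρ_surj : ∀ M : Mat, M.det ≠ 0 → ∃ a ∈ A, ρ a = M
  v_mul : ∀ x ∈ X, ∀ y ∈ X, v (x * y) = v x + v y
  v_ker : ∀ x ∈ X, (v x = 0 ↔ x ∈ Y)
  v_surj : ∀ z : Vec, ∃ x ∈ X, v x = z
  v_conj : ∀ a ∈ A, ∀ x ∈ X, v (a * x * a⁻¹) = ρ a *ᵥ v x

namespace Mod

variable {A Q X Y : Subgroup G} (m : Mod A Q X Y)

theorem ρ_one : m.ρ 1 = 1 := by
  have h := m.ρ_mul 1 A.one_mem 1 A.one_mem
  rw [mul_one] at h
  have hd := m.ρ_det 1 A.one_mem
  have := congrArg (fun M => (m.ρ 1)⁻¹ * M) h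
  rw [← Matrix.mul_assoc, Matrix.nonsing_inv_mul _ (isUnit_iff_ne_zero.2 hd), Matrix.one_mul] at this
  exact this.symm

theorem ρ_inv {a : G} (ha : a ∈ A) : m.ρ a * m.ρ a⁻¹ = 1 := by
  rw [← m.ρ_mul a ha _ (A.inv_mem ha), mul_inv_cancel, m.ρ_one]

theorem ρ_inv' {a : G} (ha : a ∈ A) : m.ρ a⁻¹ * m.ρ a = 1 := by
  rw [← m.ρ_mul _ (A.inv_mem ha) a ha, inv_mul_cancel, m.ρ_one]

theorem ρ_sq_one {a : G} (ha : a ∈ A) (h : a * a = 1) : m.ρ a * m.ρ a = 1 := by
  rw [← m.ρ_mul a ha a ha, h, m.ρ_one]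

theorem ρ_pow {a : G} (ha : a ∈ A) : ∀ n : ℕ, m.ρ (a ^ n) = m.ρ a ^ n
  | 0 => by simp [m.ρ_one]
  | n + 1 => by rw [pow_succ, m.ρ_mul _ (A.pow_mem ha n) a ha, ρ_pow ha n, pow_succ]

theorem ρ_cube {a : G} (ha : a ∈ A) (h : m.ρ a * m.ρ a * m.ρ a = 1) : a * a * a ∈ Q := by
  refine (m.ρ_ker _ (A.mul_mem (A.mul_mem ha ha) ha)).1 ?_
  rw [m.ρ_mul _ (A.mul_mem ha ha) a ha, m.ρ_mul a ha a ha, h]

theorem ρ_mul_Q {a q : G} (ha : a ∈ A) (hq : q ∈ A) (h : q ∈ Q) : m.ρ (a * q) = m.ρ a := by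
  rw [m.ρ_mul a ha q hq, (m.ρ_ker q hq).2 h, Matrix.mul_one]

theorem ρ_Q_mul {a q : G} (ha : a ∈ A) (hq : q ∈ A) (h : q ∈ Q) : m.ρ (q * a) = m.ρ a := by
  rw [m.ρ_mul q hq a ha, (m.ρ_ker q hq).2 h, Matrix.one_mul]

theorem v_one : m.v 1 = 0 := (m.v_ker 1 X.one_mem).2 Y.one_mem

theorem v_inv {x : G} (hx : x ∈ X) : m.v x⁻¹ = -m.v x := by
  refine eq_neg_of_add_eq_zero_left ?_
  rw [← m.v_mul _ (X.inv_mem hx) x hx, inv_mul_cancel, m.v_one]

theorem v_pow {x : G} (hx : x ∈ X) : ∀ n : ℕ, m.v (x ^ n) = (n : ZMod 3) • m.v x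
  | 0 => by simp [m.v_one]
  | n + 1 => by
    rw [pow_succ, m.v_mul _ (X.pow_mem hx n) x hx, v_pow hx n, Nat.cast_succ, add_smul, one_smul]

theorem v_eq_iff {x y : G} (hx : x ∈ X) (hy : y ∈ X) : m.v x = m.v y ↔ x⁻¹ * y ∈ Y := by
  rw [← m.v_ker _ (X.mul_mem (X.inv_mem hx) hy), m.v_mul _ (X.inv_mem hx) y hy, m.v_inv hx,
    neg_add_eq_zero]

end Mod

section Construction

variable [Finite G]

/-- Construction of the coordinates. -/
theorem exists_mod (A Q X Y : Subgroup G) (hXA : X ≤ A) (hYX : Y ≤ X)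
    (hAX : A ≤ Subgroup.normalizer (X : Set G)) (hAY : A ≤ Subgroup.normalizer (Y : Set G))
    (hidx : (Y.subgroupOf X).index = 9) [hQn : (Q.subgroupOf A).Normal]
    (e : ↥A ⧸ Q.subgroupOf A ≃* GL (Fin 2) (ZMod 3))
    (hker : ∀ a ∈ A, a ∈ Q ↔ ∀ x ∈ X, a * x * a⁻¹ * x⁻¹ ∈ Y) : Nonempty (Mod A Q X Y) := by
  classical
  haveI : (Y.subgroupOf X).Normal :=
    (Subgroup.normal_subgroupOf_iff_le_normalizer hYX).2 (hXA.trans hAY)
  have hq : Nat.card (↥X ⧸ Y.subgroupOf X) = 3 ^ 2 := by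
    rw [← Subgroup.index_eq_card, hidx]; norm_num
  haveI hcomm := IsPGroup.isMulCommutative_of_card_eq_prime_sq hq
  let mk : X →* ↥X ⧸ Y.subgroupOf X := QuotientGroup.mk' _
  have mk_eq : ∀ x : X, mk x = 1 ↔ (x : G) ∈ Y := fun x => by
    rw [QuotientGroup.mk'_apply, QuotientGroup.eq_one_iff, Subgroup.mem_subgroupOf]
  -- the action
  let cj : A → (X →* X) := fun a =>
    { toFun := fun x => ⟨a * x * (a : G)⁻¹, conj_mem_norm (hAX a.2) x.2⟩
      map_one' := Subtype.ext (by simp)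
      map_mul' := fun x y => Subtype.ext (by push_cast; group) }
  let φ : A → ((↥X ⧸ Y.subgroupOf X) →* (↥X ⧸ Y.subgroupOf X)) := fun a =>
    QuotientGroup.map _ _ (cj a) fun x hx => Subgroup.mem_subgroupOf.2
      (conj_mem_norm (hAY a.2) (Subgroup.mem_subgroupOf.1 hx))
  have φ_mk : ∀ a x, φ a (mk x) = mk (cj a x) := fun a x => rfl
  have φ_mul : ∀ a b z, φ (a * b) z = φ a (φ b z) := fun a b z => by
    obtain ⟨x, rfl⟩ := QuotientGroup.mk'_surjective _ z
    show mk (cj (a * b) x) = mk (cj a (cj b x))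
    congr 1
    refine Subtype.ext ?_
    show (a : G) * b * x * ((a : G) * b)⁻¹ = a * (b * x * (b : G)⁻¹) * (a : G)⁻¹
    group
  have φ_one : ∀ z, φ 1 z = z := fun z => by
    obtain ⟨x, rfl⟩ := QuotientGroup.mk'_surjective _ z
    show mk (cj 1 x) = mk x
    congr 1
    refine Subtype.ext ?_
    show (1 : G) * x * (1 : G)⁻¹ = x
    group
  have hφker : ∀ a : A, (∀ z, φ a z = z) ↔ (a : G) ∈ Q := fun a => by
    rw [hker a a.2]
    constructor
    · intro h x hx
      have := h (mk ⟨x, hx⟩)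
      rw [φ_mk, ← mul_inv_eq_one, ← map_inv, ← map_mul, mk_eq] at this
      exact this
    · intro h z
      obtain ⟨x, rfl⟩ := QuotientGroup.mk'_surjective _ z
      show φ a (mk x) = mk x
      rw [φ_mk, ← mul_inv_eq_one, ← map_inv, ← map_mul, mk_eq]
      exact h x x.2
  -- exponent three
  have hexp : ∀ z : ↥X ⧸ Y.subgroupOf X, z ^ 3 = 1 := by
    by_contra hne
    obtain ⟨z, hz⟩ := not_forall.1 hne
    have h9 : z ^ 9 = 1 := by
      have := pow_card_eq_one' (x := z)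
      rwa [hq] at this
    haveI : IsCyclic (↥X ⧸ Y.subgroupOf X) := isCyclic_of_orderOf_eq_card z (by
      have h1 : orderOf z ∣ 3 ^ 2 := orderOf_dvd_of_pow_eq_one h9
      obtain ⟨k, hk, hk'⟩ := (Nat.dvd_prime_pow Nat.prime_three).1 h1
      rw [hq, hk']
      interval_cases k
      · exact absurd (orderOf_dvd_iff_pow_eq_one.1 (by rw [hk']; norm_num)) hz
      · exact absurd (orderOf_dvd_iff_pow_eq_one.1 (by rw [hk']; norm_num)) hz
      · rfl)
    have hco : ∀ a b : A, ∀ w, φ a (φ b w) = φ b (φ a w) := fun a b w => by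
      obtain ⟨i, hi⟩ := MonoidHom.map_cyclic (φ a)
      obtain ⟨j, hj⟩ := MonoidHom.map_cyclic (φ b)
      rw [hj, hi, hi, hj, ← zpow_mul, ← zpow_mul, mul_comm]
    have habel : ∀ p q : GL (Fin 2) (ZMod 3), p * q = q * p := by
      intro p q
      obtain ⟨a, ha⟩ := QuotientGroup.mk'_surjective _ (e.symm p)
      obtain ⟨b, hb⟩ := QuotientGroup.mk'_surjective _ (e.symm q)
      apply e.symm.injective
      rw [map_mul, map_mul, ← ha, ← hb, ← map_mul, ← map_mul, QuotientGroup.mk'_apply,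
        QuotientGroup.mk'_apply, QuotientGroup.eq, Subgroup.mem_subgroupOf, ← hφker]
      intro w
      rw [φ_mul, φ_mul b a, hco b a, ← φ_mul a b, ← φ_mul, inv_mul_cancel, φ_one]
    have h1 := congrArg Units.val (habel
      ⟨!![1, 1; 0, 1], !![1, 2; 0, 1], by decide, by decide⟩
      ⟨!![1, 0; 1, 1], !![1, 0; 2, 1], by decide, by decide⟩)
    revert h1
    rw [Units.val_mul, Units.val_mul]
    decide
  -- a basis
  haveI : Nontrivial (↥X ⧸ Y.subgroupOf X) :=
    Finite.one_lt_card_iff_nontrivial.1 (by rw [hq]; norm_num)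
  obtain ⟨u, hu⟩ := exists_ne (1 : ↥X ⧸ Y.subgroupOf X)
  have hu3 : orderOf u = 3 := orderOf_eq_prime (hexp u) hu
  obtain ⟨w, hw⟩ : ∃ w, w ∉ Subgroup.zpowers u := by
    by_contra h
    have : Subgroup.zpowers u = ⊤ := eq_top_iff.2 fun z _ => by_contra fun hz => h ⟨z, hz⟩
    have := congrArg (fun S : Subgroup _ => Nat.card S) this
    simp only [Nat.card_zpowers, hu3, Subgroup.card_top, hq] at this
    norm_num at this
  have hval : ∀ (z : ↥X ⧸ Y.subgroupOf X) (i j : ZMod 3), z ^ (i + j).val = z ^ i.val * z ^ j.val :=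
    fun z i j => by rw [← pow_add, ZMod.val_add, ← pow_eq_pow_mod _ (hexp z)]
  let f : Vec → ↥X ⧸ Y.subgroupOf X := fun z => u ^ (z 0).val * w ^ (z 1).val
  have f_add : ∀ z z', f (z + z') = f z * f z' := fun z z' => by
    simp only [f, Pi.add_apply, hval]
    exact Commute.mul_mul_mul_comm (hcomm.is_comm.comm _ _) _ _
  have f_zero : f 0 = 1 := by simp [f]
  have f_ker : ∀ z, f z = 1 → z = 0 := by
    intro z hz
    have hz1 : z 1 = 0 := by
      by_contra h1
      refine hw ?_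
      have hwu : w ^ (z 1).val ∈ Subgroup.zpowers u := by
        rw [eq_inv_of_mul_eq_one_right hz]
        exact inv_mem (pow_mem (Subgroup.mem_zpowers u) _)
      rcases (show z 1 = 1 ∨ z 1 = 2 from (show ∀ t : ZMod 3, t ≠ 0 → t = 1 ∨ t = 2 by decide) _ h1)
        with h | h <;> rw [h] at hwu
      · rwa [show (1 : ZMod 3).val = 1 from rfl, pow_one] at hwu
      · have := inv_mem hwu
        rwa [show (2 : ZMod 3).val = 2 from rfl,
          inv_eq_of_mul_eq_one_right (show w ^ 2 * w = 1 by rw [← pow_succ, hexp])] at this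
    simp only [f, hz1, ZMod.val_zero, pow_zero, mul_one] at hz
    have h3 := orderOf_dvd_of_pow_eq_one hz
    rw [hu3] at h3
    have hlt := ZMod.val_lt (z 0)
    have h0 : (z 0).val = 0 := by omega
    funext i
    fin_cases i
    · exact (ZMod.val_eq_zero _).1 h0
    · exact hz1
  have f_inj : Function.Injective f := fun z z' h => by
    have h' : f (z - z') * f z' = 1 * f z' := by rw [← f_add, sub_add_cancel, h, one_mul]
    exact sub_eq_zero.1 (f_ker _ (mul_right_cancel h'))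
  have hbij : Function.Bijective f := by
    refine (Nat.bijective_iff_injective_and_card f).2 ⟨f_inj, ?_⟩
    rw [hq]
    simp [ZMod.card, Nat.card_eq_fintype_card]
  let g := Equiv.ofBijective f hbij
  let v : G → Vec := fun x => if hx : x ∈ X then g.symm (mk ⟨x, hx⟩) else 0
  have v_mk : ∀ x (hx : x ∈ X), f (v x) = mk ⟨x, hx⟩ := fun x hx => by
    simp only [v, dif_pos hx]
    exact g.apply_symm_apply _
  have v_mul : ∀ x ∈ X, ∀ y ∈ X, v (x * y) = v x + v y := fun x hx y hy => f_inj (by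
    rw [f_add, v_mk x hx, v_mk y hy, v_mk _ (mul_mem hx hy), ← map_mul]
    rfl)
  have v_ker : ∀ x ∈ X, (v x = 0 ↔ x ∈ Y) := fun x hx => by
    rw [show x ∈ Y ↔ mk ⟨x, hx⟩ = 1 from (mk_eq ⟨x, hx⟩).symm, ← v_mk x hx]
    exact ⟨fun h => by rw [h, f_zero], f_ker _⟩
  have v_surj : ∀ z, ∃ x ∈ X, v x = z := fun z => by
    obtain ⟨x, hx⟩ := QuotientGroup.mk'_surjective _ (f z)
    exact ⟨x, x.2, f_inj (by rw [v_mk x x.2]; exact hx)⟩
  choose lift hlift hliftv using v_surj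
  have v_conj' : ∀ (a : A) (x : G) (hx : x ∈ X), f (v (a * x * (a : G)⁻¹)) = φ a (f (v x)) :=
    fun a x hx => by rw [v_mk x hx, v_mk _ (conj_mem_norm (hAX a.2) hx), φ_mk]; rfl
  let L : A → (Vec →ₗ[ZMod 3] Vec) := fun a => AddMonoidHom.toZModLinearMap 3
    (AddMonoidHom.mk' (fun z => v (a * lift z * (a : G)⁻¹)) fun z z' => f_inj (by
      rw [v_conj' a _ (hlift _), hliftv, f_add, f_add, map_mul, v_conj' a _ (hlift _),
        v_conj' a _ (hlift _), hliftv, hliftv]))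
  let R : A → Mat := fun a => LinearMap.toMatrix' (L a)
  have R_vec : ∀ a z, f (R a *ᵥ z) = φ a (f z) := fun a z => by
    rw [LinearMap.toMatrix'_mulVec]
    show f (v ((a : G) * lift z * (a : G)⁻¹)) = _
    rw [v_conj' a _ (hlift _), hliftv]
  have R_mul : ∀ a b, R (a * b) = R a * R b := fun a b => Matrix.ext_of_mulVec_single fun i =>
    f_inj (by rw [R_vec, ← Matrix.mulVec_mulVec, R_vec, R_vec, φ_mul])
  have R_one : R 1 = 1 := Matrix.ext_of_mulVec_single fun i => f_inj (by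
    rw [R_vec, φ_one, Matrix.one_mulVec])
  have R_ker : ∀ a : A, R a = 1 ↔ (a : G) ∈ Q := fun a => by
    rw [← hφker]
    constructor
    · intro h z
      obtain ⟨y, rfl⟩ := hbij.2 z
      rw [← R_vec, h, Matrix.one_mulVec]
    · intro h
      exact Matrix.ext_of_mulVec_single fun i => f_inj (by rw [R_vec, h, Matrix.one_mulVec])
  let F : A →* GL (Fin 2) (ZMod 3) :=
    MonoidHom.toHomUnits { toFun := R, map_one' := R_one, map_mul' := R_mul }
  have hF : ∀ a, (F a).val = R a := fun a => MonoidHom.coe_toHomUnits _ a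
  have hFker : F.ker = Q.subgroupOf A := by
    ext a
    rw [MonoidHom.mem_ker, Subgroup.mem_subgroupOf, ← R_ker, Units.ext_iff, hF, Units.val_one]
  have hFtop : F.range = ⊤ := by
    refine Subgroup.eq_top_of_card_eq _ ?_
    rw [← Subgroup.index_ker, hFker, Subgroup.index_eq_card, Nat.card_congr e.toEquiv]
  refine ⟨{ ρ := fun a => if ha : a ∈ A then R ⟨a, ha⟩ else 1
            v := v
            ρ_mul := fun a ha b hb => by
              simp only [dif_pos ha, dif_pos hb, dif_pos (mul_mem ha hb), ← R_mul]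
              rfl
            ρ_ker := fun a ha => by simp only [dif_pos ha]; exact R_ker ⟨a, ha⟩
            ρ_det := fun a ha => by
              simp only [dif_pos ha, ← hF]
              exact ((Matrix.isUnit_iff_isUnit_det _).1 (F ⟨a, ha⟩).isUnit).ne_zero
            ρ_surj := fun M hM => ?_
            v_mul := v_mul
            v_ker := v_ker
            v_surj := fun z => ⟨lift z, hlift z, hliftv z⟩
            v_conj := fun a ha x hx => f_inj (by
              simp only [dif_pos ha]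
              rw [R_vec, v_conj' ⟨a, ha⟩ x hx]) }⟩
  obtain ⟨a, ha⟩ : Matrix.GeneralLinearGroup.mkOfDetNeZero M hM ∈ F.range :=
    hFtop ▸ Subgroup.mem_top _
  refine ⟨a, a.2, ?_⟩
  simp only [dif_pos a.2, Subtype.coe_eta]
  rw [← hF, ha]
  rfl

end Construction

end CfsgLib.G2Amalgam
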