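import Cfsg.Agent.G2Amalgam.Frame
import Cfsg.Agent.Coprime.Generation

/-!
# The amalgam of type `G₂(3)`: the normaliser of `K` and centralisers of pairs
-/

set_option autoImplicit false
set_option linter.unusedSectionVars false
set_option maxRecDepth 100000

namespace CfsgLib.G2Amalgam

open Matrix

attribute [local instance] fact_three'

variable {G : Type*} [Group G]

theorem pow_val_eq_one {d : G} (h3 : d ^ 3 = 1) (h1 : d ≠ 1) {i : ZMod 3} (h : d ^ i.val = 1) :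
    i = 0 := by
  rcases (show ∀ i : ZMod 3, i = 0 ∨ i.val = 1 ∨ i.val = 2 by decide) i with e | e | e
  · exact e
  · rw [e, pow_one] at h; exact absurd h h1
  · rw [e] at h
    rw [pow_succ, h, one_mul] at h3
    exact absurd h3 h1

theorem mem_of_odd_power {H : Subgroup G} {n : G} {k : ℕ} (h : n ^ (2 * k + 1) = 1)
    (h2 : n * n ∈ H) : n ∈ H := by
  have e : (n * n) ^ (k + 1) = n := by
    rw [← pow_two, ← pow_mul, show 2 * (k + 1) = 2 * k + 1 + 1 by ring, pow_succ, h, one_mul]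
  rw [← e]
  exact pow_mem h2 _

namespace Setup

variable [Finite G] (c : Setup G)

/-- Elements of `Q₁` commuting with an element of `K` outside `Z₁` lie in `K`. -/
theorem mem_K_of_comm {p k : G} (hp : p ∈ c.one.Q) (hk : k ∈ c.K) (hk1 : k ∉ c.one.Z)
    (h : k * p = p * k) : p ∈ c.K := by
  have hp' := c.one.pairing hk.1 hp
  rw [h, mul_inv_cancel_right, mul_inv_cancel, eq_comm] at hp'
  obtain ⟨i, hi⟩ := alt_eq_zero _ _ (fun e => hk1 ((c.one.P.v_ker _ hk.1).1 e))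
    (pow_val_eq_one (c.one.D_pow c.one.δ_mem) c.one.δ_ne hp')
  have hkp : k ^ i.val ∈ c.K := pow_mem hk _
  have hz : p * (k ^ i.val)⁻¹ ∈ c.one.Z := by
    rw [← c.one.P.v_ker _ (mul_mem hp (inv_mem hkp.1)), c.one.P.v_mul _ hp _ (inv_mem hkp.1),
      c.one.P.v_inv hkp.1, c.one.P.v_pow hk.1, ZMod.natCast_zmod_val, hi, add_neg_cancel]
  have := mul_mem (c.Z₁_le_K hz) hkp
  rwa [inv_mul_cancel_right] at this

theorem cent_U_K {p q k : G} (hp : p ∈ c.one.Q) (hq : q ∈ c.two.Q) (hk : k ∈ c.K)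
    (h : p * q * k = k * (p * q)) : k * p = p * k ∧ k * q = q * k := by
  have e : (p * (q * k * q⁻¹ * k⁻¹) * p⁻¹) * (p * k * p⁻¹ * k⁻¹) = 1 := by
    rw [show (p * (q * k * q⁻¹ * k⁻¹) * p⁻¹) * (p * k * p⁻¹ * k⁻¹) =
      p * q * k * (p * q)⁻¹ * k⁻¹ by group, h]
    group
  have hd2 := c.two.comm_mem q hq k hk.2
  have hd1 := c.one.comm_mem p hp k hk.1
  rw [c.D₂_central (c.Q_le_U hp) hd2, mul_inv_cancel_right] at e
  have h1 : q * k * q⁻¹ * k⁻¹ = 1 :=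
    c.D_disjoint (eq_inv_of_mul_eq_one_left e ▸ inv_mem hd1) hd2
  rw [h1, one_mul] at e
  rw [mul_inv_eq_one, mul_inv_eq_iff_eq_mul] at e h1
  exact ⟨e.symm, h1.symm⟩

/-- The centraliser of `D₁` and an element of `K` outside `Z₁`. -/
theorem cent_pair {x k : G} (hk : k ∈ c.K) (hk1 : k ∉ c.one.Z)
    (hx : x * c.one.δ = c.one.δ * x) (hxk : x * k = k * x) :
    x ∈ c.two.Q ∧ (k ∉ c.two.Z → x ∈ c.K) := by
  have hxA : x ∈ c.one.A := c.one.mem_A_of_comm fun d hd => by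
    obtain ⟨i, rfl⟩ := c.one.exists_pow_δ hd
    exact ((show Commute x c.one.δ from hx).pow_right _).eq
  have hfix : c.one.P.ρ x *ᵥ c.one.P.v k = c.one.P.v k := by
    rw [← c.one.P.v_conj x hxA _ hk.1, hxk, mul_inv_cancel_right]
  have hxU := c.mem_U_of_fix hxA (fix_cube _ (c.one.det_of_comm hxA c.one.δ_mem c.one.δ_ne hx) _
    (fun e => hk1 ((c.one.P.v_ker _ hk.1).1 e)) hfix) hk hk1 hfix
  obtain ⟨p, hp, q, hq, rfl⟩ := c.decomp hxU
  obtain ⟨hpk, hqk⟩ := c.cent_U_K hp hq hk hxk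
  have hpK := c.mem_K_of_comm hp hk hk1 hpk
  refine ⟨mul_mem hpK.2 hq, fun hk2 => mul_mem hpK ?_⟩
  have := c.swap.mem_K_of_comm hq (by rw [c.swap_K]; exact hk) hk2 hqk
  rwa [c.swap_K] at this

theorem norm_Q₂_le {n : G} (h : ∀ x ∈ c.two.Q, n * x * n⁻¹ ∈ c.two.Q) : n ∈ c.two.A := by
  refine c.two.mem_A_of_conj fun d hd => ?_
  obtain ⟨i, rfl⟩ := c.two.exists_pow_δ hd
  rw [← conj_pow]
  refine pow_mem ?_ _
  obtain ⟨h1, h2, -, -⟩ := c.two.base_spec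
  have := c.two.comm_mem _ (h _ h1) _ (h _ h2)
  rwa [show n * c.two.x₀ * n⁻¹ * (n * c.two.y₀ * n⁻¹) * (n * c.two.x₀ * n⁻¹)⁻¹ *
    (n * c.two.y₀ * n⁻¹)⁻¹ = n * c.two.δ * n⁻¹ by rw [Side.δ]; group] at this

/-- Translations by the centre of `U`. -/
theorem translate {q : G} (hq : q ∈ c.K) (h1 : q ∉ c.one.Z) (h2 : q ∉ c.two.Z) {z : G}
    (hz : z ∈ c.ZU) : ∃ u ∈ c.U, u * q * u⁻¹ = z * q := by
  have key : ∀ (e : Setup G), q ∈ e.K → q ∉ e.one.Z → ∀ i : ZMod 3,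
      ∃ p ∈ e.one.Q, p * q * p⁻¹ = e.one.δ ^ i.val * q := by
    intro e hqe hq1 i
    obtain ⟨w, hw⟩ := exists_alt _ (fun e0 => hq1 ((e.one.P.v_ker _ hqe.1).1 e0))
    obtain ⟨p, hp, hpv⟩ := e.one.P.v_surj ((-i) • w)
    refine ⟨p, hp, ?_⟩
    have hpair := e.one.pairing hp hqe.1
    rw [hpv, show alt ((-i) • w) (e.one.P.v q) = i * alt (e.one.P.v q) w by
      simp [alt]; ring, hw, mul_one] at hpair
    rw [← hpair]
    group
  obtain ⟨d, hd, n, rfl⟩ := c.ZU_decomp hz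
  obtain ⟨i, rfl⟩ := c.one.exists_pow_δ hd
  obtain ⟨p, hp, hpe⟩ := key c hq h1 i
  obtain ⟨r, hr, hre⟩ := key c.swap (by rw [c.swap_K]; exact hq) h2 (n : ZMod 3)
  refine ⟨p * r, mul_mem (c.Q_le_U hp) (c.Q₂_le_U hr), ?_⟩
  have hn : c.two.δ ^ (n : ZMod 3).val = c.two.δ ^ n := by
    rw [ZMod.val_natCast, ← pow_eq_pow_mod _ (c.two.D_pow c.two.δ_mem)]
  change r * q * r⁻¹ = c.two.δ ^ (n : ZMod 3).val * q at hre
  rw [hn] at hre
  rw [show p * r * q * (p * r)⁻¹ = p * (r * q * r⁻¹) * p⁻¹ by group, hre,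
    show p * (c.two.δ ^ n * q) * p⁻¹ = (p * c.two.δ ^ n * p⁻¹) * (p * q * p⁻¹) by group,
    c.D₂_central (c.Q_le_U hp) (pow_mem c.two.δ_mem n), mul_inv_cancel_right, hpe, ← mul_assoc,
    c.D₂_central (c.Q_le_U (c.one.D_le_Q hd)) (pow_mem c.two.δ_mem n)]

/-- A 3'-group centralising `D₁` and normalised by a large 3-subgroup of `U` is trivial. -/
theorem signalizer {K₀ W : Subgroup G} (hK : ¬ 3 ∣ Nat.card K₀)
    (hc : ∀ x ∈ K₀, x * c.one.δ = c.one.δ * x) (hW : W ≤ c.U) (hW81 : Nat.card W = 81)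
    (hn : ∀ w ∈ W, ∀ x ∈ K₀, w * x * w⁻¹ ∈ K₀) : ∀ x ∈ K₀, x = 1 := by
  have hcop : ∀ {y : G}, y ∈ K₀ → y ∈ c.one.Q → y = 1 := by
    intro y hy hyQ
    have h1 : y ^ Nat.card K₀ = 1 := congrArg Subtype.val (pow_card_eq_one' (x := (⟨y, hy⟩ : K₀)))
    have h2 := pow_gcd_eq_one.2 ⟨h1, c.one.Q_pow hyQ⟩
    rwa [Nat.Coprime.gcd_eq_one (by
      rw [show 243 = 3 ^ 5 from rfl]
      exact (Nat.Coprime.pow_right 5 (Nat.Coprime.symm
        ((Nat.Prime.coprime_iff_not_dvd Nat.prime_three).2 hK)))), pow_one] at h2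
  -- the intersection with `Q₁` has order at least 27
  have hWQ : 27 ≤ Nat.card (W ⊓ c.one.Q : Subgroup G) := by
    haveI : (c.one.Q.subgroupOf c.U).Normal :=
      (Subgroup.normal_subgroupOf_iff_le_normalizer c.Q_le_U).2 (c.U_le₁.trans c.one.norm_Q)
    let f : W →* ↥c.U ⧸ c.one.Q.subgroupOf c.U :=
      (QuotientGroup.mk' _).comp (Subgroup.inclusion hW)
    have hU : Nat.card (↥c.U ⧸ c.one.Q.subgroupOf c.U) = 3 := by
      have h := Subgroup.card_mul_index (c.one.Q.subgroupOf c.U)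
      rw [Nat.card_congr (Subgroup.subgroupOfEquivOfLe c.Q_le_U).toEquiv, c.one.card_Q, c.card_U,
        Subgroup.index_eq_card] at h
      omega
    have h1 := Subgroup.card_mul_index f.ker
    rw [Subgroup.index_ker, hW81] at h1
    have h2 : Nat.card f.range ≤ 3 := hU ▸ Subgroup.card_le_card_group _
    have h3 : f.ker.map W.subtype ≤ W ⊓ c.one.Q := by
      rintro _ ⟨w, hw, rfl⟩
      refine ⟨w.2, ?_⟩
      have h := MonoidHom.mem_ker.1 hw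
      rw [MonoidHom.comp_apply, QuotientGroup.mk'_apply, QuotientGroup.eq_one_iff,
        Subgroup.mem_subgroupOf] at h
      exact h
    have h4 := Subgroup.card_le_of_le h3
    rw [Subgroup.card_map_of_injective W.subtype_injective] at h4
    nlinarith
  intro x hx
  have hxA : x ∈ c.one.A := c.one.mem_A_of_comm fun d hd => by
    obtain ⟨i, rfl⟩ := c.one.exists_pow_δ hd
    exact ((show Commute x c.one.δ from hc x hx).pow_right _).eq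
  have hcomm : ∀ w ∈ W ⊓ c.one.Q, x * w = w * x := fun w hw => by
    have h1 : x * w * x⁻¹ * w⁻¹ = 1 := by
      refine hcop ?_ (mul_mem (c.one.conj_Q hxA hw.2) (c.one.Q.inv_mem hw.2))
      rw [show x * w * x⁻¹ * w⁻¹ = x * (w * x⁻¹ * w⁻¹) by group]
      exact mul_mem hx (hn w hw.1 _ (K₀.inv_mem hx))
    rwa [mul_inv_eq_one, mul_inv_eq_iff_eq_mul] at h1
  refine hcop hx ?_
  by_cases hsub : W ⊓ c.one.Q ≤ c.one.Z
  · have heq := Subgroup.eq_of_le_of_card_ge hsub (by rw [c.one.card_Z]; exact hWQ)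
    exact c.one.mem_Q_of_cent_Z hxA fun z hz => hcomm z (heq ▸ hz)
  · obtain ⟨w, hw, hw1⟩ := SetLike.not_le_iff_exists.1 hsub
    have hv : c.one.P.v w ≠ 0 := fun e => hw1 ((c.one.P.v_ker _ hw.2).1 e)
    have h3 := c.one.P.ρ_cube hxA (fix_cube _
      (c.one.det_of_comm hxA c.one.δ_mem c.one.δ_ne (hc x hx)) _ hv
      (by rw [← c.one.P.v_conj x hxA _ hw.2, hcomm w hw, mul_inv_cancel_right]))
    have h1 : x * x * x = 1 := hcop (mul_mem (mul_mem hx hx) hx) h3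
    have h3' : x ^ 3 = 1 := by rw [pow_succ, pow_two]; exact h1
    have hK' : x ^ Nat.card K₀ = 1 :=
      congrArg Subtype.val (pow_card_eq_one' (x := (⟨x, hx⟩ : K₀)))
    have := pow_gcd_eq_one.2 ⟨h3', hK'⟩
    rw [Nat.Coprime.gcd_eq_one ((Nat.Prime.coprime_iff_not_dvd Nat.prime_three).2 hK), pow_one] at this
    rw [this]
    exact one_mem _

namespace Frame

variable {c} (F : c.Frame)

theorem back (i : ℕ) {d : G} (hd : d ∈ c.two.D) : F.b⁻¹ * (F.p ^ i * d) * F.b ∈ c.ZU := by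
  rw [show F.b⁻¹ * (F.p ^ i * d) * F.b = (F.b⁻¹ * F.p ^ i * F.b) * (F.b⁻¹ * d * F.b⁻¹⁻¹) by group,
    p, conj_pow, show F.b⁻¹ * (F.b * c.one.δ ^ i * F.b⁻¹) * F.b = c.one.δ ^ i by group]
  exact mul_mem (pow_mem (c.D₁_le_ZU c.one.δ_mem) i)
    (c.D₂_le_ZU (c.two.conj_D (inv_mem F.b₂) hd))

/-- Every coset of the centre of `U` in `K` meets the conjugate of `E`. -/
theorem cover {q : G} (hq : q ∈ c.K) : ∃ e ∈ F.E, (F.b⁻¹ * e * F.b)⁻¹ * q ∈ c.ZU := by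
  set w := F.b * q * F.b⁻¹ with hw
  have hwW : w ∈ F.W₃ := F.mem_W₃.2 (by
    rwa [show F.b⁻¹ * (F.b * q * F.b⁻¹) * F.b = q by group])
  have hwQ := F.W₃_le_Q hwW
  obtain ⟨i, hi⟩ := (F.mem_W₃_iff hwQ).1 hwW
  have hp : F.y ^ i.val ∈ c.two.Q := pow_mem F.yQ _
  set z := (F.y ^ i.val)⁻¹ * w with hzdef
  have hzQ : z ∈ c.two.Q := mul_mem (inv_mem hp) hwQ
  have hz : z ∈ c.two.Z := by
    rw [← c.two.P.v_ker _ hzQ, hzdef, c.two.P.v_mul _ (inv_mem hp) _ hwQ, c.two.P.v_inv hp,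
      c.two.P.v_pow F.yQ, ZMod.natCast_zmod_val, hi, neg_add_cancel]
  have htz := c.two.conj_Z F.T.t₂ hz
  have hcz : Commute z (F.T.t * z * F.T.t⁻¹) := c.two.Z_comm hz (c.two.Z_le htz)
  set f := z * (F.T.t * z * F.T.t⁻¹) with hf
  set g := z * (F.T.t * z * F.T.t⁻¹)⁻¹ with hg
  have htt : F.T.t * (F.T.t * z * F.T.t⁻¹) * F.T.t⁻¹ = z := by
    rw [show F.T.t * (F.T.t * z * F.T.t⁻¹) * F.T.t⁻¹ = (F.T.t * F.T.t) * z * (F.T.t * F.T.t)⁻¹ by
      group, F.T.tt, inv_one, one_mul, mul_one]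
  have hfD : f ∈ c.one.D := F.T.cent_Z₂ (mul_mem hz htz) (mul_inv_eq_iff_eq_mul.1 (by
    rw [hf, show F.T.t * (z * (F.T.t * z * F.T.t⁻¹)) * F.T.t⁻¹ =
      (F.T.t * z * F.T.t⁻¹) * (F.T.t * (F.T.t * z * F.T.t⁻¹) * F.T.t⁻¹) by group, htt]
    exact hcz.eq.symm))
  obtain ⟨l, d, hd, hgd⟩ := F.inverted_Z₂ (mul_mem hz (inv_mem htz)) (by
    rw [show F.T.t * (z * (F.T.t * z * F.T.t⁻¹)⁻¹) * F.T.t⁻¹ =
      (F.T.t * z * F.T.t⁻¹) * (F.T.t * (F.T.t * z * F.T.t⁻¹) * F.T.t⁻¹)⁻¹ by group, htt]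
    group)
  obtain ⟨j, hj⟩ := c.one.exists_pow_δ hfD
  refine ⟨F.y ^ i.val * f ^ 2, mul_mem (pow_mem F.y_E _) (pow_mem (hj ▸ pow_mem F.δ_E _) 2), ?_⟩
  have hfg : f * g = z ^ 2 := by
    rw [hf, hg, show z * (F.T.t * z * F.T.t⁻¹) * (z * (F.T.t * z * F.T.t⁻¹)⁻¹) =
      z * ((F.T.t * z * F.T.t⁻¹) * z) * (F.T.t * z * F.T.t⁻¹)⁻¹ by group, ← hcz.eq, pow_two]
    group
  have hfgc : Commute f g :=
    ((Commute.refl z).mul_left hcz.symm).mul_right ((hcz.mul_left (Commute.refl _)).inv_right)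
  have e1 : (F.y ^ i.val * f ^ 2)⁻¹ * w = g ^ 2 * (z ^ 3)⁻¹ := by
    have h4 : f ^ 2 * g ^ 2 = z ^ 4 := by rw [← hfgc.mul_pow, hfg, ← pow_mul]
    calc (F.y ^ i.val * f ^ 2)⁻¹ * w = (f ^ 2)⁻¹ * ((z ^ 3)⁻¹ * z ^ 4) := by
          rw [show (z ^ 3)⁻¹ * z ^ 4 = z by group, hzdef]; group
      _ = (f ^ 2)⁻¹ * ((z ^ 3)⁻¹ * (f ^ 2 * g ^ 2)) := by rw [h4]
      _ = g ^ 2 * (z ^ 3)⁻¹ := by
        have hzf : Commute z f := (Commute.refl z).mul_right hcz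
        have hzg : Commute z g := (Commute.refl z).mul_right hcz.inv_right
        rw [← mul_assoc ((z ^ 3)⁻¹), ((hzf.pow_pow 3 2).inv_left).eq, mul_assoc, inv_mul_cancel_left,
          ((hzg.pow_pow 3 2).inv_left).eq]
  rw [show (F.b⁻¹ * (F.y ^ i.val * f ^ 2) * F.b)⁻¹ * q =
    F.b⁻¹ * ((F.y ^ i.val * f ^ 2)⁻¹ * w) * F.b by rw [hw]; group, e1,
    show F.b⁻¹ * (g ^ 2 * (z ^ 3)⁻¹) * F.b =
      (F.b⁻¹ * g * F.b⁻¹⁻¹) ^ 2 * (F.b⁻¹ * (z ^ 3) * F.b)⁻¹ by rw [conj_pow]; group]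
  refine mul_mem (pow_mem ?_ 2) (inv_mem ?_)
  · rw [inv_inv, hg, hgd]; exact F.back l hd
  · have := F.back 0 (Frame.S_cube hz)
    rwa [pow_zero, one_mul] at this

include F in
/-- Conjugates of `δ₁` under the normaliser of `K` lie in `Z₂`. -/
theorem conj_mem_Z₂ {n : G} (hn : ∀ k ∈ c.K, n * k * n⁻¹ ∈ c.K) :
    n * c.one.δ * n⁻¹ ∈ c.two.Z := by
  set q := n * c.one.δ * n⁻¹ with hq
  have hqK : q ∈ c.K := hn _ (c.Z₁_le_K (c.one.D_le c.one.δ_mem))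
  by_contra h2
  by_cases h1 : q ∈ c.one.Z
  · have hqD : q ∉ c.one.D := fun h => h2 (c.D₁_le_Z h)
    obtain ⟨P, hP, hPv⟩ := trans_vec _ (c.one.S.v q) c.S_δ₂_ne
      (fun e => hqD ((c.one.S.v_ker _ h1).1 e))
    obtain ⟨a, ha, haρ⟩ := c.one.S.ρ_surj P (by rw [hP]; decide)
    have haz := c.one.conj_Z ha c.δ₂_mem_Z
    have hd : (a * c.two.δ * a⁻¹)⁻¹ * q ∈ c.one.D := by
      rw [← c.one.S.v_eq_iff haz h1, c.one.S.v_conj a ha _ c.δ₂_mem_Z, haρ, hPv]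
    have hmem : a⁻¹ * q * a ∈ c.ZU := by
      rw [show a⁻¹ * q * a = c.two.δ * (a⁻¹ * ((a * c.two.δ * a⁻¹)⁻¹ * q) * a⁻¹⁻¹) by group]
      exact mul_mem (c.D₂_le_ZU c.two.δ_mem) (c.D₁_le_ZU (c.one.conj_D (inv_mem ha) hd))
    have h3 := c.conj_ZU (x := a⁻¹ * n) c.one.δ_mem c.one.δ_ne (by
      rwa [show a⁻¹ * n * c.one.δ * (a⁻¹ * n)⁻¹ = a⁻¹ * q * a by rw [hq]; group])
    refine hqD ?_
    have := c.one.conj_D ha h3
    rwa [show a * (a⁻¹ * n * c.one.δ * (a⁻¹ * n)⁻¹) * a⁻¹ = q by rw [hq]; group] at this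
  · obtain ⟨e, he, hz⟩ := F.cover hqK
    obtain ⟨u, hu, hue⟩ := c.translate hqK h1 h2 (inv_mem hz)
    have hk : F.b⁻¹ * e * F.b ∈ c.K := F.mem_W₃.1 (F.E_le_W₃ he)
    have hue' : u * q * u⁻¹ = F.b⁻¹ * e * F.b := by
      have hcm : Commute ((F.b⁻¹ * e * F.b)⁻¹ * q) q :=
        c.K_comm (c.ZU_le_K hz) hqK
      rw [hue, _root_.mul_inv_rev, inv_inv, mul_assoc,
        show F.b⁻¹ * e * F.b * q = F.b⁻¹ * e * F.b * q from rfl, c.K_comm hk hqK,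
        inv_mul_cancel_left]
    have hx : (F.b * u * n) * c.one.δ * (F.b * u * n)⁻¹ = e := by
      rw [show (F.b * u * n) * c.one.δ * (F.b * u * n)⁻¹ = F.b * (u * q * u⁻¹) * F.b⁻¹ by
        rw [hq]; group, hue']
      group
    have heZ : e ∈ c.two.Z := by
      rcases F.conj_δ₁ (x := F.b * u * n) (hx ▸ he) with h | h <;> rw [hx] at h <;> rw [h]
      · exact c.D₁_le_Z c.one.δ_mem
      · exact inv_mem (c.D₁_le_Z c.one.δ_mem)
    refine h2 ?_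
    have := mul_mem (c.two.conj_Z (inv_mem F.b₂) heZ) hz.2
    rwa [inv_inv, mul_inv_cancel_left] at this

include F in
/-- The normaliser of `K` normalises `U`. -/
theorem norm_K {n : G} (hn : ∀ k ∈ c.K, n * k * n⁻¹ ∈ c.K) :
    n ∈ Subgroup.normalizer (c.U : Set G) := by
  by_cases hD : n * c.one.δ * n⁻¹ ∈ c.one.D
  · exact c.norm_U_of_norm_K (c.one.mem_A_of_conj fun d hd => by
      obtain ⟨i, rfl⟩ := c.one.exists_pow_δ hd
      rw [← conj_pow]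
      exact pow_mem hD _) hn
  have hn' : ∀ k ∈ c.K, n⁻¹ * k * n⁻¹⁻¹ ∈ c.K := fun k hk =>
    conj_mem_norm (inv_mem (Subgroup.mem_normalizer_fintype hn)) hk
  have hq2 := F.conj_mem_Z₂ hn
  have hq1 : n * c.one.δ * n⁻¹ ∉ c.one.Z := fun h =>
    hD (c.conj_ZU c.one.δ_mem c.one.δ_ne ⟨h, hq2⟩)
  have hi := F.conj_mem_Z₂ hn'
  refine c.swap.norm_U_of_norm_K (c.norm_Q₂_le fun x hx => ?_) fun k hk => by
    rw [c.swap_K] at hk ⊢; exact hn k hk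
  refine (c.cent_pair (c.Z₂_le_K hq2) hq1 ?_ ?_).1
  · calc n * x * n⁻¹ * c.one.δ = n * (x * (n⁻¹ * c.one.δ * n⁻¹⁻¹)) * n⁻¹ := by group
      _ = n * ((n⁻¹ * c.one.δ * n⁻¹⁻¹) * x) * n⁻¹ := by rw [c.two.Z_comm hi hx]
      _ = c.one.δ * (n * x * n⁻¹) := by group
  · calc n * x * n⁻¹ * (n * c.one.δ * n⁻¹) = n * (x * c.one.δ) * n⁻¹ := by group
      _ = n * (c.one.δ * x) * n⁻¹ := by rw [c.two.Z_comm (c.D₁_le_Z c.one.δ_mem) hx]
      _ = n * c.one.δ * n⁻¹ * (n * x * n⁻¹) := by group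

/-- A diagonal element of `E`. -/
def Diag (e : G) : Prop := e ∈ F.E ∧ e ∉ c.two.Z ∧ e ≠ F.y ∧ e ≠ F.y⁻¹

variable {e : G}

theorem diag_K (he : F.Diag e) : F.b⁻¹ * e * F.b ∈ c.K := F.mem_W₃.1 (F.E_le_W₃ he.1)

theorem diag_notZ₂ (he : F.Diag e) : F.b⁻¹ * e * F.b ∉ c.two.Z := fun h => he.2.1 (by
  have := c.two.conj_Z F.b₂ h
  rwa [show F.b * (F.b⁻¹ * e * F.b) * F.b⁻¹ = e by group] at this)

theorem diag_notZ₁ (he : F.Diag e) : F.b⁻¹ * e * F.b ∉ c.one.Z := by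
  intro h
  set k := F.b⁻¹ * e * F.b with hk
  have hτk : F.τ * k * F.τ⁻¹ = k := by
    have h1 := F.E_t he.1
    calc F.τ * k * F.τ⁻¹ = F.b⁻¹ * (F.T.t * e) * (F.b⁻¹ * F.T.t)⁻¹ * 1 := by rw [hk, τ]; group
      _ = k := by rw [h1, hk]; group
  have htk := c.one.conj_Z F.T.t₁ h
  have hd : k * (F.T.t * k * F.T.t⁻¹) ∈ c.one.D := by
    rw [← c.one.S.v_ker _ (mul_mem h htk), c.one.S.v_mul _ h _ htk, c.one.S.v_conj _ F.T.t₁ _ h,
      F.T.St, neg_mulVec, one_mulVec, add_neg_cancel]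
  have htinv : F.T.t * k * F.T.t⁻¹ = k⁻¹ := by
    have hA1 : F.T.t⁻¹ * F.τ * F.T.t * F.τ⁻¹ ∈ c.one.A :=
      mul_mem (mul_mem (mul_mem (inv_mem F.T.t₁) F.τ₁) F.T.t₁) (inv_mem F.τ₁)
    have hq : F.T.t⁻¹ * F.τ * F.T.t * F.τ⁻¹ ∈ c.one.Q := (c.one.P.ρ_ker _ hA1).1 (by
      rw [c.one.P.ρ_mul _ (mul_mem (mul_mem (inv_mem F.T.t₁) F.τ₁) F.T.t₁) _ (inv_mem F.τ₁),
        c.one.P.ρ_mul _ (mul_mem (inv_mem F.T.t₁) F.τ₁) _ F.T.t₁,
        c.one.P.ρ_mul _ (inv_mem F.T.t₁) _ F.τ₁, F.T.ti, F.T.ρt]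
      simp [c.one.P.ρ_inv F.τ₁])
    have hτt : F.τ * (F.T.t * k * F.T.t⁻¹) * F.τ⁻¹ = F.T.t * k * F.T.t⁻¹ := by
      rw [show F.τ * (F.T.t * k * F.T.t⁻¹) * F.τ⁻¹ = F.T.t *
        ((F.T.t⁻¹ * F.τ * F.T.t * F.τ⁻¹) * (F.τ * k * F.τ⁻¹) *
          (F.T.t⁻¹ * F.τ * F.T.t * F.τ⁻¹)⁻¹) * F.T.t⁻¹ by group, hτk, ← c.one.Z_comm h hq,
        mul_inv_cancel_right]
    have h5 := c.one.inv_D F.τ₁ hd F.det_τ
    rw [show F.τ * (k * (F.T.t * k * F.T.t⁻¹)) * F.τ⁻¹ =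
      (F.τ * k * F.τ⁻¹) * (F.τ * (F.T.t * k * F.T.t⁻¹) * F.τ⁻¹) by group, hτk, hτt] at h5
    exact eq_inv_of_mul_eq_one_right
      (eq_one_of_sq_cube (by nth_rw 1 [h5]; exact inv_mul_cancel _) (c.one.D_pow hd))
  obtain ⟨a, ha, hae⟩ := F.T.inv_conj h (fun h' => F.diag_notZ₂ he (c.D₁_le_Z h')) htinv
  have hx : F.b * a * c.two.δ * (F.b * a)⁻¹ = e := by
    rw [show F.b * a * c.two.δ * (F.b * a)⁻¹ = F.b * (a * c.two.δ * a⁻¹) * F.b⁻¹ by group, hae, hk]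
    group
  rcases F.conj_δ₂ (x := F.b * a) (hx ▸ he.1) with h' | h' <;> rw [hx] at h'
  · exact he.2.2.1 h'
  · exact he.2.2.2 h'

/-- The centraliser of `p` and a diagonal element. -/
theorem cent_p_diag (he : F.Diag e) {x : G} (hx : x * F.p = F.p * x) (hxe : x * e = e * x) :
    x ∈ F.W₃ := by
  refine F.mem_W₃.2 ((c.cent_pair (F.diag_K he) (F.diag_notZ₁ he) ?_ ?_).2 (F.diag_notZ₂ he))
  · rw [p] at hx
    calc F.b⁻¹ * x * F.b * c.one.δ = F.b⁻¹ * (x * (F.b * c.one.δ * F.b⁻¹)) * F.b := by group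
      _ = F.b⁻¹ * ((F.b * c.one.δ * F.b⁻¹) * x) * F.b := by rw [hx]
      _ = c.one.δ * (F.b⁻¹ * x * F.b) := by group
  · calc F.b⁻¹ * x * F.b * (F.b⁻¹ * e * F.b) = F.b⁻¹ * (x * e) * F.b := by group
      _ = F.b⁻¹ * (e * x) * F.b := by rw [hxe]
      _ = F.b⁻¹ * e * F.b * (F.b⁻¹ * x * F.b) := by group

/-- The centraliser of `D₂` and a diagonal element. -/
theorem cent_δ₂_diag (he : F.Diag e) {x : G} (hx : x * c.two.δ = c.two.δ * x)
    (hxe : x * e = e * x) : x ∈ F.W₃ := by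
  obtain ⟨j, hj⟩ := c.two.exists_pow_δ (c.two.conj_D F.b₂ c.two.δ_mem)
  have h1 : F.b⁻¹ * x * F.b * c.two.δ = c.two.δ * (F.b⁻¹ * x * F.b) := by
    have hc : x * (F.b * c.two.δ * F.b⁻¹) = (F.b * c.two.δ * F.b⁻¹) * x := by
      rw [hj]; exact ((show Commute x c.two.δ from hx).pow_right _).eq
    calc F.b⁻¹ * x * F.b * c.two.δ = F.b⁻¹ * (x * (F.b * c.two.δ * F.b⁻¹)) * F.b := by group
      _ = F.b⁻¹ * ((F.b * c.two.δ * F.b⁻¹) * x) * F.b := by rw [hc]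
      _ = c.two.δ * (F.b⁻¹ * x * F.b) := by group
  refine F.mem_W₃.2 ?_
  have := (c.swap.cent_pair (x := F.b⁻¹ * x * F.b) (k := F.b⁻¹ * e * F.b)
    (by rw [c.swap_K]; exact F.diag_K he) (F.diag_notZ₂ he) h1
    (by calc F.b⁻¹ * x * F.b * (F.b⁻¹ * e * F.b) = F.b⁻¹ * (x * e) * F.b := by group
          _ = F.b⁻¹ * (e * x) * F.b := by rw [hxe]
          _ = F.b⁻¹ * e * F.b * (F.b⁻¹ * x * F.b) := by group)).2 (F.diag_notZ₁ he)
  rwa [c.swap_K] at this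

/-- The normaliser of `W₃` in the centraliser of a diagonal element. -/
theorem norm_W₃_diag (he : F.Diag e) {n : G} (hne : n * e = e * n)
    (hn : ∀ w ∈ F.W₃, n * w * n⁻¹ ∈ F.W₃) : n ∈ F.W₃ ∨ n * F.T.t ∈ F.W₃ := by
  set m := F.b⁻¹ * n * F.b with hm
  have hmK : ∀ k ∈ c.K, m * k * m⁻¹ ∈ c.K := fun k hk => by
    have := F.mem_W₃.1 (hn (F.b * k * F.b⁻¹) (F.mem_W₃.2 (by
      rwa [show F.b⁻¹ * (F.b * k * F.b⁻¹) * F.b = k by group])))
    rwa [show F.b⁻¹ * (n * (F.b * k * F.b⁻¹) * n⁻¹) * F.b = m * k * m⁻¹ by rw [hm]; group] at this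
  have hmA := c.norm_U_le₁ (F.norm_K hmK)
  have key : ∀ x : G, x * e = e * x → F.b⁻¹ * x * F.b ∈ c.one.A →
      (c.one.P.ρ (F.b⁻¹ * x * F.b)).det = 1 → x ∈ F.W₃ := fun x hxe hxA hdet => by
    refine F.cent_p_diag he ?_ hxe
    have := c.one.comm_D hxA c.one.δ_mem hdet
    calc x * F.p = F.b * (F.b⁻¹ * x * F.b * c.one.δ) * F.b⁻¹ := by rw [p]; group
      _ = F.b * (c.one.δ * (F.b⁻¹ * x * F.b)) * F.b⁻¹ := by rw [this]
      _ = F.p * x := by rw [p]; group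
  rcases det_cases _ (c.one.P.ρ_det _ hmA) with hd | hd
  · exact Or.inl (key n hne hmA hd)
  · have e1 : F.b⁻¹ * (n * F.T.t) * F.b = m * F.τ := by rw [hm, τ]; group
    refine Or.inr (key _ ?_ (e1 ▸ mul_mem hmA F.τ₁) ?_)
    · exact ((show Commute n e from hne).mul_left (show Commute F.T.t e from F.E_t he.1)).eq
    · rw [e1, c.one.P.ρ_mul _ hmA _ F.τ₁, det_mul, hd, F.det_τ]
      decide

theorem three_norm_W₃ (he : F.Diag e) {n : G} (hne : n * e = e * n)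
    (hn : ∀ w ∈ F.W₃, n * w * n⁻¹ ∈ F.W₃) (h3 : ∃ k : ℕ, n ^ (3 ^ k) = 1) : n ∈ F.W₃ := by
  rcases F.norm_W₃_diag he hne hn with h | h
  · exact h
  · obtain ⟨k, hk⟩ := h3
    obtain ⟨m, hm⟩ : Odd (3 ^ k) := Odd.pow (by decide)
    refine mem_of_odd_power (hm ▸ hk) ?_
    have := mul_mem h (F.t_norm_W₃ h)
    rwa [show n * F.T.t * (F.T.t * (n * F.T.t) * F.T.t⁻¹) = n * (F.T.t * F.T.t) * n by group,
      F.T.tt, mul_one] at this

/-- The centraliser of a diagonal element and a nontrivial element of `W₂`. -/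
theorem cent_W₂_diag (he : F.Diag e) {i : ℕ} {d : G} (hd : d ∈ c.two.D) (hw : F.p ^ i * d ≠ 1)
    {x : G} (hxe : x * e = e * x) (hxw : x * (F.p ^ i * d) = F.p ^ i * d * x) : x ∈ F.W₃ := by
  set w := F.p ^ i * d with hwdef
  have hwZ : w ∈ c.two.Z := mul_mem (pow_mem F.p_mem i) (c.two.D_le hd)
  have hwt : F.T.t * w * F.T.t⁻¹ = w⁻¹ := by
    rw [hwdef, show F.T.t * (F.p ^ i * d) * F.T.t⁻¹ =
      (F.T.t * F.p ^ i * F.T.t⁻¹) * (F.T.t * d * F.T.t⁻¹) by group, ← conj_pow, F.tp, F.T.inv_D₂ hd,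
      inv_pow, ← _root_.mul_inv_rev, c.two.Z_comm (c.two.D_le hd) (c.two.Z_le (pow_mem F.p_mem i))]
  set C := Subgroup.centralizer ({e} : Set G) ⊓ Subgroup.centralizer ({w} : Set G) with hC
  have hWC : F.W₃ ≤ C := fun u hu =>
    ⟨Subgroup.mem_centralizer_singleton_iff.2 (F.W₃_comm hu (F.E_le_W₃ he.1)),
      Subgroup.mem_centralizer_singleton_iff.2 (F.W₃_comm hu (F.Z₂_le_W₃ hwZ))⟩
  have hmap : ∀ n : C, n ∈ Subgroup.normalizer ((F.W₃.subgroupOf C : Subgroup C) : Set C) →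
      ∀ u ∈ F.W₃, (n : G) * u * (n : G)⁻¹ ∈ F.W₃ := fun n hn u hu =>
    Subgroup.mem_subgroupOf.1 ((Subgroup.mem_normalizer_iff.1 hn ⟨u, hWC hu⟩).1
      (Subgroup.mem_subgroupOf.2 hu))
  have hP3 : IsPGroup 3 (F.W₃.subgroupOf C) := IsPGroup.of_card (n := 4) (by
    rw [Nat.card_congr (Subgroup.subgroupOfEquivOfLe hWC).toEquiv, F.card_W₃]; norm_num)
  obtain ⟨M, hMn, hM3, -, hMsup⟩ := exists_normal_complement hP3
    (fun n hn h3 => Subgroup.mem_subgroupOf.2 (F.three_norm_W₃ he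
      (Subgroup.mem_centralizer_singleton_iff.1 n.2.1) (hmap n hn) (by
        obtain ⟨k, hk⟩ := h3
        exact ⟨k, by rw [← Subgroup.coe_pow, hk, Subgroup.coe_one]⟩)))
    (fun n hn => Subgroup.mem_centralizer_iff.2 fun u hu => Subtype.ext (by
      rcases F.norm_W₃_diag he (Subgroup.mem_centralizer_singleton_iff.1 n.2.1) (hmap n hn)
        with h | h
      · exact F.W₃_comm (Subgroup.mem_subgroupOf.1 hu) h
      · -- `t` would centralise `w`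
        exfalso
        have h1 : Commute ((n : G) * F.T.t) w := F.W₃_comm h (F.Z₂_le_W₃ hwZ)
        have h2 : Commute ((n : G)⁻¹ * ((n : G) * F.T.t)) w :=
          (show Commute (n : G) w from
            Subgroup.mem_centralizer_singleton_iff.1 n.2.2).inv_left.mul_left h1
        rw [inv_mul_cancel_left] at h2
        rw [h2.eq, mul_inv_cancel_right] at hwt
        have h3 : w ^ 3 = 1 := by
          rw [hwdef, (show Commute (F.p ^ i) d from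
            c.two.Z_comm (pow_mem F.p_mem i) (c.two.D_le_Q hd)).mul_pow, c.two.D_pow hd, mul_one,
            ← pow_mul, mul_comm, pow_mul, F.p_cube, one_pow]
        exact hw (eq_one_of_sq_cube (by nth_rw 1 [hwt]; exact inv_mul_cancel _) h3)))
  set K₀ := M.map C.subtype with hK₀
  have hK₀n : ∀ u ∈ F.W₃, ∀ z ∈ K₀, u * z * u⁻¹ ∈ K₀ := by
    rintro u hu _ ⟨z, hz, rfl⟩
    exact ⟨⟨u, hWC hu⟩ * z * ⟨u, hWC hu⟩⁻¹, hMn.conj_mem z hz _, by simp⟩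
  have hK₀3 : ¬ 3 ∣ Nat.card K₀ := by
    rwa [hK₀, Subgroup.card_map_of_injective C.subtype_injective]
  -- the subgroup of elements of `Z₂` inverted by `s`
  let A : Subgroup G :=
    { carrier := {z | z ∈ c.two.Z ∧ F.T.s * z * F.T.s⁻¹ = z⁻¹}
      one_mem' := ⟨one_mem _, by simp⟩
      mul_mem' := fun {a b} ha hb => ⟨mul_mem ha.1 hb.1, by
        rw [show F.T.s * (a * b) * F.T.s⁻¹ = (F.T.s * a * F.T.s⁻¹) * (F.T.s * b * F.T.s⁻¹) by group,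
          ha.2, hb.2, ← _root_.mul_inv_rev, c.two.Z_comm hb.1 (c.two.Z_le ha.1)]⟩
      inv_mem' := fun {a} ha => ⟨inv_mem ha.1, by
        rw [show F.T.s * a⁻¹ * F.T.s⁻¹ = (F.T.s * a * F.T.s⁻¹)⁻¹ by group, ha.2]⟩ }
  haveI : IsMulCommutative A := ⟨⟨fun a b => Subtype.ext (c.two.Z_comm a.2.1 (c.two.Z_le b.2.1))⟩⟩
  have hAfix : ∀ z ∈ A, z ∈ c.two.D → z = 1 := fun z hz hzD => by
    have hs : F.T.s * z = z * F.T.s := F.T.swap.comm_D₁ hzD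
    have h2 := hz.2
    rw [hs, mul_inv_cancel_right] at h2
    exact eq_one_of_sq_cube (by nth_rw 1 [h2]; exact inv_mul_cancel _) (c.two.D_pow hzD)
  have hAexp : ∀ z ∈ A, z ^ 3 = 1 := fun z hz => hAfix _ (pow_mem hz 3) (Frame.S_cube hz.1)
  have hδA : c.one.δ ∈ A :=
    ⟨c.D₁_le_Z c.one.δ_mem, c.one.inv_D F.T.s₁ c.one.δ_mem F.T.swap.det_t₂⟩
  have hpA : F.p ∈ A := ⟨F.p_mem, F.sp⟩
  have hAW : A ≤ F.W₃ := fun z hz => F.Z₂_le_W₃ hz.1
  have hA : ¬ IsCyclic A := fun hcyc => F.p_notMem₁ (by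
    obtain ⟨⟨g, hg⟩, hgen⟩ := hcyc.exists_generator
    have h1 : Nat.card A ≤ 3 := by
      rw [← orderOf_eq_card_of_forall_mem_zpowers hgen]
      exact orderOf_le_of_pow_eq_one (by norm_num) (Subtype.ext (hAexp g hg))
    have heq : Subgroup.zpowers c.one.δ = A := Subgroup.eq_of_le_of_card_ge
      (Subgroup.zpowers_le.2 hδA) (by
        rw [Nat.card_zpowers, orderOf_eq_prime (c.one.D_pow c.one.δ_mem) c.one.δ_ne]; exact h1)
    exact Subgroup.zpowers_le.2 c.one.δ_mem (heq ▸ hpA))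
  have hAn : A ≤ Subgroup.normalizer (K₀ : Set G) := fun z hz =>
    Subgroup.mem_normalizer_fintype (hK₀n z (hAW hz))
  have hcop : (Nat.card A).Coprime (Nat.card K₀) := by
    obtain ⟨k, hk⟩ := IsPGroup.iff_card.1 (show IsPGroup 3 A from
      fun z => ⟨1, Subtype.ext (by rw [pow_one]; exact hAexp z z.2)⟩)
    rw [hk]
    exact Nat.Coprime.pow_left k ((Nat.Prime.coprime_iff_not_dvd Nat.prime_three).2 hK₀3)
  have hK₀1 : K₀ ≤ ⊥ := by
    refine Coprime.le_of_forall_inf_centralizer_le hA hAn hcop fun z hz hz1 => ?_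
    obtain ⟨a, ha, haz⟩ := F.T.swap.inv_conj hz.1 (fun h => hz1 (hAfix z hz h)) hz.2
    change a ∈ c.two.A at ha
    change a * c.one.δ * a⁻¹ = z at haz
    set K₁ := K₀ ⊓ Subgroup.centralizer ({z} : Set G) with hK₁
    set K₂ := K₁.map (MulAut.conj a⁻¹).toMonoidHom with hK₂
    have hW' : F.W₃.map (MulAut.conj a⁻¹).toMonoidHom ≤ c.U := by
      rintro _ ⟨u, hu, rfl⟩
      exact c.Q₂_le_U (c.two.conj_Q (inv_mem ha) (F.W₃_le_Q hu))
    have hsig := c.signalizer (K₀ := K₂) (W := F.W₃.map (MulAut.conj a⁻¹).toMonoidHom)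
      (fun h3 => hK₀3 (h3.trans (by
        rw [hK₂, Subgroup.card_map_of_injective (MulAut.conj a⁻¹).injective]
        exact Subgroup.card_dvd_of_le inf_le_left)))
      (by
        rintro _ ⟨u, hu, rfl⟩
        have hc' := Subgroup.mem_centralizer_singleton_iff.1 hu.2
        rw [← haz] at hc'
        calc a⁻¹ * u * a⁻¹⁻¹ * c.one.δ = a⁻¹ * (u * (a * c.one.δ * a⁻¹)) * a := by group
          _ = a⁻¹ * ((a * c.one.δ * a⁻¹) * u) * a := by rw [hc']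
          _ = c.one.δ * (a⁻¹ * u * a⁻¹⁻¹) := by group)
      hW' (by rw [Subgroup.card_map_of_injective (MulAut.conj a⁻¹).injective, F.card_W₃])
      (by
        rintro _ ⟨r, hr, rfl⟩ _ ⟨u, hu, rfl⟩
        refine ⟨r * u * r⁻¹, ⟨hK₀n r hr _ hu.1, ?_⟩, by simp [mul_assoc]⟩
        refine Subgroup.mem_centralizer_singleton_iff.2 ?_
        have hrz : Commute r z := F.W₃_comm hr (hAW hz)
        exact ((hrz.mul_left (show Commute u z from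
          Subgroup.mem_centralizer_singleton_iff.1 hu.2)).mul_left hrz.inv_left).eq)
    intro u hu
    have h1 := hsig _ ⟨u, hu, rfl⟩
    rw [Subgroup.mem_bot]
    exact (MulAut.conj a⁻¹).injective (h1.trans (map_one _).symm)
  have hx' : x ∈ C := ⟨Subgroup.mem_centralizer_singleton_iff.2 hxe,
    Subgroup.mem_centralizer_singleton_iff.2 hxw⟩
  have hMbot : M = ⊥ := (Subgroup.map_eq_bot_iff_of_injective _ C.subtype_injective).1 (le_bot_iff.1 hK₀1)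
  rw [hMbot, bot_sup_eq] at hMsup
  exact Subgroup.mem_subgroupOf.1 (hMsup ▸ Subgroup.mem_top (⟨x, hx'⟩ : C))

end Frame

end Setup

end CfsgLib.G2Amalgam
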