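import Cfsg.Agent.G2Amalgam.Module
import Cfsg.Agent.G2Amalgam.Burnside
import Mathlib.Tactic.LinearCombination

/-!
# The amalgam of type `G₂(3)`: the common Sylow subgroup and its normaliser
-/

set_option autoImplicit false
set_option linter.unusedSectionVars false
set_option maxRecDepth 100000

namespace CfsgLib.G2Amalgam

open Matrix

attribute [local instance] fact_three'

variable {G : Type*} [Group G]

/-- An involution times an element of order prime to two that it inverts is a conjugate. -/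
theorem conj_coset {t q : G} (hq : q ^ 243 = 1) (ht : t * t = 1) (htq : t * q * (t * q) = 1) :
    q ^ 121 * t * (q ^ 121)⁻¹ = t * q := by
  have hti : t⁻¹ = t := inv_eq_of_mul_eq_one_right ht
  have h1 : t * q * t⁻¹ = q⁻¹ := by
    rw [hti]; exact eq_inv_of_mul_eq_one_left (by rw [← htq]; group)
  have h2 : t * q ^ 121 * t⁻¹ = (q ^ 121)⁻¹ := by rw [← conj_pow, h1, inv_pow]
  have h242 : (q ^ 121)⁻¹ * (q ^ 121)⁻¹ = q := by
    rw [← _root_.mul_inv_rev, ← pow_add]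
    exact inv_eq_of_mul_eq_one_right (by rw [← pow_succ]; exact hq)
  calc q ^ 121 * t * (q ^ 121)⁻¹ = t * (t⁻¹ * q ^ 121 * t) * (q ^ 121)⁻¹ := by group
    _ = t * (t * q ^ 121 * t⁻¹) * (q ^ 121)⁻¹ := by rw [hti]
    _ = t * q := by rw [h2, mul_assoc t, h242]

theorem negOne_mul : ((-1 : Mat)) * (-1) = 1 := by decide

theorem pow_odd {M : Mat} (h : M * M = 1) : ∀ n : ℕ, M ^ (2 * n + 1) = M := fun n => by
  rw [pow_succ, pow_mul, pow_two, h, one_pow, Matrix.one_mul]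

theorem pow_24 : ∀ M : Mat, M.det = 1 → M ^ 24 = 1 := by decide +kernel

theorem val_smul_cases : ∀ (M : Mat), M.det = 1 ∨ M.det = -1 ∨ M.det = 0 := fun M => by
  generalize M.det = d
  revert d
  decide

namespace Mod

variable {A Q X Y : Subgroup G} (m : Mod A Q X Y)

theorem mem_Q_of {a : G} (ha : a ∈ A) (h : ∀ x ∈ X, m.v (a * x * a⁻¹) = m.v x) : a ∈ Q := by
  refine (m.ρ_ker a ha).1 (Matrix.ext_of_mulVec_single fun i => ?_)
  obtain ⟨x, hx, hxv⟩ := m.v_surj (Pi.single i 1)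
  rw [← hxv, ← m.v_conj a ha x hx, h x hx, Matrix.one_mulVec]

theorem three {a : G} (ha : a ∈ A) (h : a ^ 729 = 1) : m.ρ a * m.ρ a * m.ρ a = 1 := by
  have hM : m.ρ a ^ 729 = 1 := by rw [← m.ρ_pow ha, h, m.ρ_one]
  have hd : (m.ρ a).det = 1 := by
    rcases det_cases _ (m.ρ_det a ha) with e | e
    · exact e
    · have := congrArg Matrix.det hM
      rw [Matrix.det_pow, e, Matrix.det_one, show 729 = 2 * 364 + 1 from rfl, pow_succ, pow_mul,
        neg_one_sq, one_pow, one_mul] at this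
      exact absurd this (by decide)
  have := pow_gcd_eq_one.2 ⟨hM, pow_24 _ hd⟩
  rwa [show Nat.gcd 729 24 = 3 from rfl, pow_succ, pow_two] at this

theorem det_of_three {a : G} (ha : a ∈ A) (h : a ^ 729 = 1) : (m.ρ a).det = 1 :=
  cube_det _ (m.three ha h)

end Mod

/-- One side of the amalgam. -/
structure Side (G : Type*) [Group G] where
  A : Subgroup G
  Q : Subgroup G
  Z : Subgroup G
  D : Subgroup G
  Q_le : Q ≤ A
  Z_le : Z ≤ Q
  D_le : D ≤ Z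
  card_A : Nat.card A = 11664
  card_Q : Nat.card Q = 243
  card_Z : Nat.card Z = 27
  card_D : Nat.card D = 3
  norm_Q : A ≤ Subgroup.normalizer (Q : Set G)
  norm_D : Subgroup.normalizer (D : Set G) = A
  Z_mem : ∀ z, z ∈ Z ↔ z ∈ Q ∧ ∀ q ∈ Q, z * q = q * z
  comm_mem : ∀ x ∈ Q, ∀ y ∈ Q, x * y * x⁻¹ * y⁻¹ ∈ D
  P : Mod A Q Q Z
  S : Mod A Q Z D

namespace Side

variable [Finite G] (s : Side G)

theorem Z_le_A : s.Z ≤ s.A := s.Z_le.trans s.Q_le
theorem D_le_Q : s.D ≤ s.Q := s.D_le.trans s.Z_le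
theorem D_le_A : s.D ≤ s.A := s.D_le_Q.trans s.Q_le

theorem Q_pow {x : G} (hx : x ∈ s.Q) : x ^ 243 = 1 := by
  have := pow_card_eq_one' (x := (⟨x, hx⟩ : s.Q))
  rw [s.card_Q] at this
  exact congrArg Subtype.val this

theorem Z_comm {z q : G} (hz : z ∈ s.Z) (hq : q ∈ s.Q) : z * q = q * z := ((s.Z_mem z).1 hz).2 q hq

theorem conj_Q {a x : G} (ha : a ∈ s.A) (hx : x ∈ s.Q) : a * x * a⁻¹ ∈ s.Q :=
  conj_mem_norm (s.norm_Q ha) hx

theorem conj_D {a x : G} (ha : a ∈ s.A) (hx : x ∈ s.D) : a * x * a⁻¹ ∈ s.D :=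
  conj_mem_norm (s.norm_D.ge ha) hx

theorem conj_Z {a x : G} (ha : a ∈ s.A) (hx : x ∈ s.Z) : a * x * a⁻¹ ∈ s.Z := by
  refine (s.Z_mem _).2 ⟨s.conj_Q ha (s.Z_le hx), fun q hq => ?_⟩
  have hq' : a⁻¹ * q * a⁻¹⁻¹ ∈ s.Q := s.conj_Q (s.A.inv_mem ha) hq
  calc a * x * a⁻¹ * q = a * (x * (a⁻¹ * q * a⁻¹⁻¹)) * a⁻¹ := by group
    _ = a * ((a⁻¹ * q * a⁻¹⁻¹) * x) * a⁻¹ := by rw [s.Z_comm hx hq']
    _ = q * (a * x * a⁻¹) := by group

theorem mem_A_of_conj {a : G} (h : ∀ d ∈ s.D, a * d * a⁻¹ ∈ s.D) : a ∈ s.A :=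
  s.norm_D.le (Subgroup.mem_normalizer_fintype h)

theorem mem_A_of_comm {a : G} (h : ∀ d ∈ s.D, a * d = d * a) : a ∈ s.A :=
  s.mem_A_of_conj fun d hd => by rwa [h d hd, mul_inv_cancel_right]

/-- Self-centralisation. -/
theorem self_cent {a : G} (ha : a ∈ s.A) (h : ∀ q ∈ s.Q, a * q = q * a) : a ∈ s.Z :=
  (s.Z_mem a).2 ⟨s.P.mem_Q_of ha fun x hx => by rw [h x hx, mul_inv_cancel_right], h⟩

theorem mem_Q_of_cent_Z {a : G} (ha : a ∈ s.A) (h : ∀ z ∈ s.Z, a * z = z * a) : a ∈ s.Q :=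
  s.S.mem_Q_of ha fun x hx => by rw [h x hx, mul_inv_cancel_right]

theorem exists_invol {M : Mat} (hM : M * M = 1) : ∃ a ∈ s.A, a * a = 1 ∧ s.P.ρ a = M := by
  obtain ⟨a, ha, rfl⟩ := s.P.ρ_surj M (fun h => by
    have := congrArg Matrix.det hM
    rw [Matrix.det_mul, h, Matrix.det_one, zero_mul] at this
    exact absurd this (by decide))
  refine ⟨a ^ 243, s.A.pow_mem ha _, ?_, ?_⟩
  · rw [← pow_add, show 243 + 243 = 2 * 243 from rfl, pow_mul, pow_two]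
    exact s.Q_pow ((s.P.ρ_ker _ (s.A.mul_mem ha ha)).1 (by rw [s.P.ρ_mul a ha a ha, hM]))
  · rw [s.P.ρ_pow ha, show 243 = 2 * 121 + 1 from rfl, pow_odd hM]

/-- An involution in the coset of another one is conjugate to it by an element of `Q`. -/
theorem exists_conj {t t' : G} (ht : t ∈ s.A) (ht' : t' ∈ s.A) (h : t * t = 1) (h' : t' * t' = 1)
    (hρ : s.P.ρ t = s.P.ρ t') : ∃ k ∈ s.Q, k * t * k⁻¹ = t' := by
  have hq : t * t' ∈ s.Q := (s.P.ρ_ker _ (s.A.mul_mem ht ht')).1 (by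
    rw [s.P.ρ_mul t ht t' ht', hρ, s.P.ρ_sq_one ht' h'])
  refine ⟨(t * t') ^ 121, pow_mem hq _, ?_⟩
  have e : t * (t * t') = t' := by rw [← mul_assoc, h, one_mul]
  rw [conj_coset (s.Q_pow hq) h (by rw [e, h']), e]

theorem exists_base : ∃ x y, x ∈ s.Q ∧ y ∈ s.Q ∧ s.P.v x = ![1, 0] ∧ s.P.v y = ![0, 1] := by
  obtain ⟨x, hx, hxv⟩ := s.P.v_surj ![1, 0]
  obtain ⟨y, hy, hyv⟩ := s.P.v_surj ![0, 1]
  exact ⟨x, y, hx, hy, hxv, hyv⟩

noncomputable def x₀ : G := s.exists_base.choose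
noncomputable def y₀ : G := s.exists_base.choose_spec.choose

theorem base_spec : s.x₀ ∈ s.Q ∧ s.y₀ ∈ s.Q ∧ s.P.v s.x₀ = ![1, 0] ∧ s.P.v s.y₀ = ![0, 1] :=
  s.exists_base.choose_spec.choose_spec

noncomputable def δ : G := s.x₀ * s.y₀ * s.x₀⁻¹ * s.y₀⁻¹

theorem δ_mem : s.δ ∈ s.D := s.comm_mem _ s.base_spec.1 _ s.base_spec.2.1

theorem D_pow {d : G} (hd : d ∈ s.D) : d ^ 3 = 1 := by
  have := pow_card_eq_one' (x := (⟨d, hd⟩ : s.D))
  rw [s.card_D] at this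
  exact congrArg Subtype.val this

theorem val_add_pow {d : G} (hd : d ^ 3 = 1) (i j : ZMod 3) :
    d ^ (i + j).val = d ^ i.val * d ^ j.val := by
  rw [← pow_add, ZMod.val_add, ← pow_eq_pow_mod _ hd]

/-- The commutator form. -/
theorem pairing {x y : G} (hx : x ∈ s.Q) (hy : y ∈ s.Q) :
    x * y * x⁻¹ * y⁻¹ = s.δ ^ (alt (s.P.v x) (s.P.v y)).val := by
  obtain ⟨hx0, hy0, hxv, hyv⟩ := s.base_spec
  have hD : ∀ {d q : G}, d ∈ s.D → q ∈ s.Q → d * q = q * d := fun hd hq => s.Z_comm (s.D_le hd) hq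
  have hmulr : ∀ a b c : G, a ∈ s.Q → b ∈ s.Q → c ∈ s.Q →
      a * (b * c) * a⁻¹ * (b * c)⁻¹ = (a * b * a⁻¹ * b⁻¹) * (a * c * a⁻¹ * c⁻¹) := by
    intro a b c ha hb hc
    calc a * (b * c) * a⁻¹ * (b * c)⁻¹
        = (a * b * a⁻¹ * b⁻¹) * (b * (a * c * a⁻¹ * c⁻¹) * b⁻¹) := by group
      _ = _ := by rw [← hD (s.comm_mem a ha c hc) hb, mul_inv_cancel_right]
  have hmull : ∀ a b c : G, a ∈ s.Q → b ∈ s.Q → c ∈ s.Q →
      a * b * c * (a * b)⁻¹ * c⁻¹ = (a * c * a⁻¹ * c⁻¹) * (b * c * b⁻¹ * c⁻¹) := by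
    intro a b c ha hb hc
    calc a * b * c * (a * b)⁻¹ * c⁻¹
        = (a * (b * c * b⁻¹ * c⁻¹) * a⁻¹) * (a * c * a⁻¹ * c⁻¹) := by group
      _ = (b * c * b⁻¹ * c⁻¹) * (a * c * a⁻¹ * c⁻¹) := by
        rw [← hD (s.comm_mem b hb c hc) ha, mul_inv_cancel_right]
      _ = _ := hD (s.comm_mem b hb c hc) (s.D_le_Q (s.comm_mem a ha c hc))
  have hz1 : ∀ z c, z ∈ s.Z → c ∈ s.Q → z * c * z⁻¹ * c⁻¹ = 1 := fun z c hz hc => by
    rw [s.Z_comm hz hc, mul_inv_cancel_right, mul_inv_cancel]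
  have hz2 : ∀ c z, c ∈ s.Q → z ∈ s.Z → c * z * c⁻¹ * z⁻¹ = 1 := fun c z hc hz => by
    rw [← s.Z_comm hz hc, mul_inv_cancel_right, mul_inv_cancel]
  have hpowl : ∀ a c : G, a ∈ s.Q → c ∈ s.Q → ∀ n : ℕ,
      a ^ n * c * (a ^ n)⁻¹ * c⁻¹ = (a * c * a⁻¹ * c⁻¹) ^ n := by
    intro a c ha hc n
    induction n with
    | zero => simp
    | succ n ih => rw [pow_succ, hmull _ _ _ (pow_mem ha n) ha hc, ih, ← pow_succ]
  have hpowr : ∀ c a : G, c ∈ s.Q → a ∈ s.Q → ∀ n : ℕ,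
      c * a ^ n * c⁻¹ * (a ^ n)⁻¹ = (c * a * c⁻¹ * a⁻¹) ^ n := by
    intro c a hc ha n
    induction n with
    | zero => simp
    | succ n ih => rw [pow_succ, hmulr _ _ _ hc (pow_mem ha n) ha, ih, ← pow_succ]
  have hdec : ∀ x ∈ s.Q, ∃ z ∈ s.Z,
      x = s.x₀ ^ (s.P.v x 0).val * s.y₀ ^ (s.P.v x 1).val * z := by
    intro x hx
    have hm : s.x₀ ^ (s.P.v x 0).val * s.y₀ ^ (s.P.v x 1).val ∈ s.Q :=
      mul_mem (pow_mem hx0 _) (pow_mem hy0 _)
    refine ⟨_, ?_, (mul_inv_cancel_left _ x).symm⟩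
    rw [← s.P.v_eq_iff hm hx, s.P.v_mul _ (pow_mem hx0 _) _ (pow_mem hy0 _), s.P.v_pow hx0,
      s.P.v_pow hy0, hxv, hyv, ZMod.natCast_zmod_val, ZMod.natCast_zmod_val]
    funext i
    fin_cases i <;> simp
  obtain ⟨z, hz, ex⟩ := hdec x hx
  obtain ⟨w, hw, ey⟩ := hdec y hy
  conv_lhs => rw [ex, ey]
  set i := (s.P.v x 0).val
  set j := (s.P.v x 1).val
  set k := (s.P.v y 0).val
  set l := (s.P.v y 1).val
  have hi := pow_mem hx0 i
  have hj := pow_mem hy0 j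
  have hk := pow_mem hx0 k
  have hl := pow_mem hy0 l
  have hxx : ∀ a : G, a * a * a⁻¹ * a⁻¹ = 1 := fun a => by group
  have hyx : s.y₀ * s.x₀ * s.y₀⁻¹ * s.x₀⁻¹ = s.δ⁻¹ := by rw [δ]; group
  rw [hmull _ _ _ (mul_mem hi hj) (s.Z_le hz) (mul_mem (mul_mem hk hl) (s.Z_le hw)),
    hz1 _ _ hz (mul_mem (mul_mem hk hl) (s.Z_le hw)), mul_one,
    hmulr _ _ _ (mul_mem hi hj) (mul_mem hk hl) (s.Z_le hw), hz2 _ _ (mul_mem hi hj) hw, mul_one,
    hmull _ _ _ hi hj (mul_mem hk hl), hmulr _ _ _ hi hk hl, hmulr _ _ _ hj hk hl,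
    hpowl _ _ hx0 hk i, hpowl _ _ hx0 hl i, hpowl _ _ hy0 hk j, hpowl _ _ hy0 hl j,
    hpowr _ _ hx0 hx0 k, hpowr _ _ hx0 hy0 l, hpowr _ _ hy0 hx0 k, hpowr _ _ hy0 hy0 l,
    hxx, hxx, one_pow, one_pow, one_pow, one_pow, one_mul, mul_one, hyx, ← δ]
  have h3 : s.δ ^ 3 = 1 := s.D_pow s.δ_mem
  have hinv : s.δ⁻¹ = s.δ ^ 2 := inv_eq_of_mul_eq_one_right (by rw [← pow_succ']; exact h3)
  rw [hinv]
  simp only [← pow_mul]
  rw [← pow_add]
  refine pow_eq_pow_of_modEq ?_ h3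
  rw [← ZMod.natCast_eq_natCast_iff]
  simp only [i, j, k, l, alt, Nat.cast_add, Nat.cast_mul, Nat.cast_ofNat, ZMod.natCast_zmod_val]
  have h30 : (3 : ZMod 3) = 0 := by decide
  linear_combination (s.P.v x 1 * s.P.v y 0) * h30

theorem δ_ne : s.δ ≠ 1 := by
  intro h
  have : s.Q ≤ s.Z := fun x hx => (s.Z_mem x).2 ⟨hx, fun q hq => by
    have := s.pairing hx hq
    rw [h, one_pow, mul_inv_eq_one, mul_inv_eq_iff_eq_mul] at this
    exact this⟩
  have := Subgroup.card_le_of_le this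
  rw [s.card_Q, s.card_Z] at this
  omega

theorem exists_pow_δ {d : G} (hd : d ∈ s.D) : ∃ i : ZMod 3, d = s.δ ^ i.val := by
  classical
  have h : orderOf s.δ = 3 := orderOf_eq_prime (s.D_pow s.δ_mem) s.δ_ne
  have : Subgroup.zpowers s.δ = s.D := Subgroup.eq_of_le_of_card_ge
    (Subgroup.zpowers_le.2 s.δ_mem) (by rw [Nat.card_zpowers, h, s.card_D])
  rw [← this, mem_zpowers_iff_mem_range_orderOf, Finset.mem_image, h] at hd
  obtain ⟨k, hk, rfl⟩ := hd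
  exact ⟨k, by rw [ZMod.val_natCast_of_lt (Finset.mem_range.1 hk)]⟩

/-- The action on `D`. -/
theorem act_D {a d : G} (ha : a ∈ s.A) (hd : d ∈ s.D) :
    a * d * a⁻¹ = d ^ (s.P.ρ a).det.val := by
  obtain ⟨hx0, hy0, hxv, hyv⟩ := s.base_spec
  have hδ : a * s.δ * a⁻¹ = s.δ ^ (s.P.ρ a).det.val := by
    have h := s.pairing (s.conj_Q ha hx0) (s.conj_Q ha hy0)
    rw [s.P.v_conj a ha _ hx0, s.P.v_conj a ha _ hy0, alt_mulVec, hxv, hyv] at h
    simp [alt] at h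
    rw [← h, δ]
    group
  obtain ⟨i, rfl⟩ := s.exists_pow_δ hd
  rw [← conj_pow, hδ, ← pow_mul, ← pow_mul, mul_comm]

theorem comm_D {a d : G} (ha : a ∈ s.A) (hd : d ∈ s.D) (hdet : (s.P.ρ a).det = 1) :
    a * d = d * a := by
  have := s.act_D ha hd
  rwa [hdet, ZMod.val_one, pow_one, mul_inv_eq_iff_eq_mul] at this

theorem det_of_comm {a d : G} (ha : a ∈ s.A) (hd : d ∈ s.D) (hd1 : d ≠ 1) (h : a * d = d * a) :
    (s.P.ρ a).det = 1 := by
  refine (det_cases _ (s.P.ρ_det a ha)).resolve_right fun e => hd1 ?_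
  have h2 := s.act_D ha hd
  rw [h, mul_inv_cancel_right, e, show (-1 : ZMod 3).val = 2 from rfl, pow_two] at h2
  exact mul_left_cancel (a := d) (by rw [mul_one]; exact h2.symm)

theorem inv_D {a d : G} (ha : a ∈ s.A) (hd : d ∈ s.D) (hdet : (s.P.ρ a).det = -1) :
    a * d * a⁻¹ = d⁻¹ := by
  rw [s.act_D ha hd, hdet, show (-1 : ZMod 3).val = 2 from rfl]
  exact (inv_eq_of_mul_eq_one_right (by rw [← pow_succ']; exact s.D_pow hd)).symm

/-- The two modules have the same determinant. -/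
theorem det_eq {a : G} (ha : a ∈ s.A) : (s.S.ρ a).det = (s.P.ρ a).det := by
  have key : ∀ b ∈ s.A, (s.P.ρ b).det = 1 → (s.S.ρ b).det = 1 := by
    intro b hb hd
    obtain ⟨P, hP, R, hR, e⟩ := sq_gen _ hd
    obtain ⟨p, hp, rfl⟩ := s.P.ρ_surj P hP
    obtain ⟨r, hr, rfl⟩ := s.P.ρ_surj R hR
    set c := p * p * (r * r) with hc
    have hcA : c ∈ s.A := mul_mem (mul_mem hp hp) (mul_mem hr hr)
    have hq : c⁻¹ * b ∈ s.Q := (s.P.ρ_ker _ (mul_mem (inv_mem hcA) hb)).1 (by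
      rw [s.P.ρ_mul _ (inv_mem hcA) b hb, e, ← s.P.ρ_mul p hp p hp, ← s.P.ρ_mul r hr r hr,
        ← s.P.ρ_mul _ (mul_mem hp hp) _ (mul_mem hr hr), s.P.ρ_inv' hcA])
    rw [← mul_inv_cancel_left c b, s.S.ρ_mul_Q hcA (s.Q_le hq) hq, hc,
      s.S.ρ_mul _ (mul_mem hp hp) _ (mul_mem hr hr), s.S.ρ_mul p hp p hp, s.S.ρ_mul r hr r hr,
      Matrix.det_mul, Matrix.det_mul, Matrix.det_mul]
    rcases det_cases _ (s.S.ρ_det p hp) with e1 | e1 <;>
      rcases det_cases _ (s.S.ρ_det r hr) with e2 | e2 <;> rw [e1, e2] <;> decide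
  rcases det_cases _ (s.P.ρ_det a ha) with e | e
  · rw [e, key a ha e]
  · rw [e]
    refine (det_cases _ (s.S.ρ_det a ha)).resolve_left fun e' => ?_
    obtain ⟨b, hb, hbd⟩ := s.S.ρ_surj !![1, 0; 0, -1] (by decide)
    have hb' : (s.P.ρ b).det = -1 := (det_cases _ (s.P.ρ_det b hb)).resolve_left fun e2 => by
      have := key b hb e2
      rw [hbd] at this
      exact absurd this (by decide)
    have := key (a * b) (mul_mem ha hb) (by
      rw [s.P.ρ_mul a ha b hb, Matrix.det_mul, e, hb']; decide)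
    rw [s.S.ρ_mul a ha b hb, Matrix.det_mul, e', hbd] at this
    exact absurd this (by decide)

theorem neg_one {a : G} (ha : a ∈ s.A) (h : s.P.ρ a = -1) : s.S.ρ a = -1 := by
  refine (central_neg _ (s.S.ρ_det a ha) fun P hP => ?_).resolve_left fun e => ?_
  · obtain ⟨p, hp, rfl⟩ := s.S.ρ_surj P hP
    have hq : (p * a)⁻¹ * (a * p) ∈ s.Q :=
      (s.P.ρ_ker _ (mul_mem (inv_mem (mul_mem hp ha)) (mul_mem ha hp))).1 (by
        rw [s.P.ρ_mul _ (inv_mem (mul_mem hp ha)) _ (mul_mem ha hp), s.P.ρ_mul a ha p hp, h,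
          show (-1 : Mat) * s.P.ρ p = s.P.ρ p * (-1) by rw [neg_one_mul, mul_neg_one], ← h,
          ← s.P.ρ_mul p hp a ha, s.P.ρ_inv' (mul_mem hp ha)])
    rw [← s.S.ρ_mul a ha p hp, ← s.S.ρ_mul p hp a ha,
      ← mul_inv_cancel_left (p * a) (a * p), s.S.ρ_mul_Q (mul_mem hp ha) (s.Q_le hq) hq]
  · have hQ : a ∈ s.Q := (s.S.ρ_ker a ha).1 e
    rw [(s.P.ρ_ker a ha).2 hQ] at h
    exact absurd h (by decide)

theorem cent_D_cube {a : G} (ha : a ∈ s.A) (h : a ^ 729 = 1) {d : G} (hd : d ∈ s.D) :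
    a * d = d * a := s.comm_D ha hd (s.P.det_of_three ha h)

theorem exists_mem_ne {X : Subgroup G} (h : ¬ s.Q ≤ X) : ∃ q ∈ s.Q, q ∉ X := SetLike.not_le_iff_exists.1 h

end Side

/-- The amalgam. -/
structure Setup (G : Type*) [Group G] where
  one : Side G
  two : Side G
  U : Subgroup G
  U_le₁ : U ≤ one.A
  U_le₂ : U ≤ two.A
  card_U : Nat.card U = 729
  hnc : ∀ g : G, one.A.map (MulAut.conj g).toMonoidHom ≠ two.A

namespace Setup

variable [Finite G] (c : Setup G)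

/-- Exchange of the two sides. -/
def swap : Setup G where
  one := c.two
  two := c.one
  U := c.U
  U_le₁ := c.U_le₂
  U_le₂ := c.U_le₁
  card_U := c.card_U
  hnc g h := c.hnc g⁻¹ (by
    rw [← h, Subgroup.map_map]
    convert Subgroup.map_id c.two.A using 2
    ext x
    simp [mul_assoc])

theorem U_pow {x : G} (hx : x ∈ c.U) : x ^ 729 = 1 := by
  have := pow_card_eq_one' (x := (⟨x, hx⟩ : c.U))
  rw [c.card_U] at this
  exact congrArg Subtype.val this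

theorem U_isP : IsPGroup 3 c.U := IsPGroup.of_card (n := 6) (by rw [c.card_U]; norm_num)

/-- Three-subgroups of `A₁` normalised by `U` lie in `U`. -/
theorem le_U_of_norm {P : Subgroup G} (hP : IsPGroup 3 P) (hPA : P ≤ c.one.A)
    (hn : c.U ≤ Subgroup.normalizer (P : Set G)) : P ≤ c.U := by
  have hp : IsPGroup 3 (P ⊔ c.U : Subgroup G) := hP.to_sup_of_normal_left' c.U_isP hn
  obtain ⟨k, hk⟩ := IsPGroup.iff_card.1 hp
  have hd : 3 ^ k ∣ 3 ^ 6 * 16 := by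
    have := Subgroup.card_dvd_of_le (sup_le hPA c.U_le₁)
    rw [hk, c.one.card_A] at this
    simpa using this
  have hd' : 3 ^ k ∣ 3 ^ 6 := ((Nat.Coprime.pow_left k (by norm_num)).dvd_of_dvd_mul_right hd)
  have heq : c.U = P ⊔ c.U := Subgroup.eq_of_le_of_card_ge le_sup_right (by
    rw [hk, c.card_U]; exact Nat.le_of_dvd (by norm_num) hd')
  rw [heq]
  exact le_sup_left

theorem Q_le_U : c.one.Q ≤ c.U :=
  c.le_U_of_norm (IsPGroup.of_card (n := 5) (by rw [c.one.card_Q]; norm_num)) c.one.Q_le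
    (c.U_le₁.trans c.one.norm_Q)

theorem Q₂_le_U : c.two.Q ≤ c.U := c.swap.Q_le_U

theorem D₂_central {u d : G} (hu : u ∈ c.U) (hd : d ∈ c.two.D) : u * d = d * u :=
  c.two.cent_D_cube (c.U_le₂ hu) (c.U_pow hu) hd

theorem D₁_central {u d : G} (hu : u ∈ c.U) (hd : d ∈ c.one.D) : u * d = d * u :=
  c.swap.D₂_central hu hd

theorem D₂_le_Z : c.two.D ≤ c.one.Z := fun d hd =>
  c.one.self_cent (c.U_le₁ (c.Q₂_le_U (c.two.D_le_Q hd)))
    fun _ hq => (c.D₂_central (c.Q_le_U hq) hd).symm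

theorem D₁_le_Z : c.one.D ≤ c.two.Z := c.swap.D₂_le_Z

/-- `D₁` and `D₂` are not conjugate. -/
theorem D_not_conj (x : G) {d : G} (hd : d ∈ c.one.D) (hd1 : d ≠ 1) : x * d * x⁻¹ ∉ c.two.D := by
  intro h
  have hgen : ∀ {K : Subgroup G} {e : G}, Nat.card K = 3 → e ∈ K → e ≠ 1 → Subgroup.zpowers e = K :=
    fun {K e} hK he he1 => Subgroup.eq_of_le_of_card_ge (Subgroup.zpowers_le.2 he) (by
      have h3 : e ^ 3 = 1 := by
        have := pow_card_eq_one' (x := (⟨e, he⟩ : K))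
        rw [hK] at this
        exact congrArg Subtype.val this
      rw [Nat.card_zpowers, orderOf_eq_prime h3 he1, hK])
  have hne : x * d * x⁻¹ ≠ 1 := fun e => hd1 (conj_eq_one_iff.1 e)
  have hmap : c.one.D.map (MulAut.conj x).toMonoidHom = c.two.D := by
    rw [← hgen c.one.card_D hd hd1, MonoidHom.map_zpowers]
    exact hgen c.two.card_D h hne
  refine c.hnc x ?_
  rw [← c.one.norm_D, ← c.two.norm_D, ← hmap]
  exact Subgroup.map_equiv_normalizer_eq c.one.D (MulAut.conj x)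

theorem D_disjoint {d : G} (h1 : d ∈ c.one.D) (h2 : d ∈ c.two.D) : d = 1 := by
  by_contra hd
  refine c.D_not_conj 1 h1 hd ?_
  rwa [one_mul, inv_one, mul_one]

theorem δ₂_notMem : c.two.δ ∉ c.one.D := fun h => c.two.δ_ne (c.D_disjoint h c.two.δ_mem)

theorem δ₂_mem_Z : c.two.δ ∈ c.one.Z := c.D₂_le_Z c.two.δ_mem

theorem S_δ₂_ne : c.one.S.v c.two.δ ≠ 0 := fun h =>
  c.δ₂_notMem ((c.one.S.v_ker _ c.δ₂_mem_Z).1 h)

theorem exists_not_Q : ∃ u ∈ c.two.Q, u ∉ c.one.Q := by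
  refine SetLike.not_le_iff_exists.1 fun h => ?_
  have heq := Subgroup.eq_of_le_of_card_ge h (by rw [c.one.card_Q, c.two.card_Q])
  refine c.two.δ_ne (c.D_disjoint ?_ c.two.δ_mem)
  exact c.one.comm_mem _ (heq ▸ c.two.base_spec.1) _ (heq ▸ c.two.base_spec.2.1)

noncomputable def u₀ : G := c.exists_not_Q.choose
theorem u₀_mem : c.u₀ ∈ c.two.Q := c.exists_not_Q.choose_spec.1
theorem u₀_notMem : c.u₀ ∉ c.one.Q := c.exists_not_Q.choose_spec.2
theorem u₀_U : c.u₀ ∈ c.U := c.Q₂_le_U c.u₀_mem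
theorem u₀_A : c.u₀ ∈ c.one.A := c.U_le₁ c.u₀_U

theorem S_u₀_ne : c.one.S.ρ c.u₀ ≠ 1 := fun h => c.u₀_notMem ((c.one.S.ρ_ker _ c.u₀_A).1 h)
theorem P_u₀_ne : c.one.P.ρ c.u₀ ≠ 1 := fun h => c.u₀_notMem ((c.one.P.ρ_ker _ c.u₀_A).1 h)

theorem S_fix {u : G} (hu : u ∈ c.U) :
    c.one.S.ρ u *ᵥ c.one.S.v c.two.δ = c.one.S.v c.two.δ := by
  rw [← c.one.S.v_conj u (c.U_le₁ hu) _ c.δ₂_mem_Z, c.D₂_central hu c.two.δ_mem,
    mul_inv_cancel_right]

/-- The centre of `U`. -/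
def ZU : Subgroup G := c.one.Z ⊓ c.two.Z

theorem D₁_le_ZU : c.one.D ≤ c.ZU := le_inf c.one.D_le c.D₁_le_Z
theorem D₂_le_ZU : c.two.D ≤ c.ZU := le_inf c.D₂_le_Z c.two.D_le

theorem swap_ZU : c.swap.ZU = c.ZU := inf_comm _ _

theorem ZU_decomp {z : G} (hz : z ∈ c.ZU) : ∃ d ∈ c.one.D, ∃ i : ℕ, z = d * c.two.δ ^ i := by
  have hfix : c.one.S.ρ c.u₀ *ᵥ c.one.S.v z = c.one.S.v z := by
    rw [← c.one.S.v_conj _ c.u₀_A z hz.1, ← c.two.Z_comm hz.2 c.u₀_mem, mul_inv_cancel_right]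
  obtain ⟨i, hi⟩ := cube_fixed_line _ (c.one.S.three c.u₀_A (c.U_pow c.u₀_U)) c.S_u₀_ne _ _
    c.S_δ₂_ne (c.S_fix c.u₀_U) hfix
  have hp : c.two.δ ^ i.val ∈ c.one.Z := pow_mem c.δ₂_mem_Z _
  refine ⟨z * (c.two.δ ^ i.val)⁻¹, ?_, i.val, (inv_mul_cancel_right _ _).symm⟩
  rw [← c.one.S.v_ker _ (mul_mem hz.1 (inv_mem hp)), c.one.S.v_mul _ hz.1 _ (inv_mem hp),
    c.one.S.v_inv hp, c.one.S.v_pow c.δ₂_mem_Z, ZMod.natCast_zmod_val, hi, add_neg_cancel]

theorem ZU_central {u z : G} (hu : u ∈ c.U) (hz : z ∈ c.ZU) : u * z = z * u := by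
  obtain ⟨d, hd, i, rfl⟩ := c.ZU_decomp hz
  exact ((show Commute u d from c.D₁_central hu hd).mul_right
    ((show Commute u c.two.δ from c.D₂_central hu c.two.δ_mem).pow_right i)).eq

theorem sup_eq : c.one.Q ⊔ c.two.Q = c.U := by
  have hle : c.one.Q ⊔ c.two.Q ≤ c.U := sup_le c.Q_le_U c.Q₂_le_U
  refine Subgroup.eq_of_le_of_card_ge hle ?_
  obtain ⟨k, hk⟩ := IsPGroup.iff_card.1 (c.U_isP.to_le hle)
  have hlt : c.one.Q < c.one.Q ⊔ c.two.Q :=
    lt_of_le_not_ge le_sup_left fun h => c.u₀_notMem (h (Subgroup.mem_sup_right c.u₀_mem))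
  have h1 : 243 < Nat.card (c.one.Q ⊔ c.two.Q : Subgroup G) := by
    rw [← c.one.card_Q]
    exact lt_of_le_of_ne (Subgroup.card_le_of_le hlt.le)
      fun e => hlt.ne (Subgroup.eq_of_le_of_card_ge hlt.le e.ge)
  rw [c.card_U, hk]
  rw [hk, show 243 = 3 ^ 5 from rfl] at h1
  exact Nat.pow_le_pow_right (show 3 > 0 by norm_num) ((Nat.pow_lt_pow_iff_right (by norm_num)).1 h1)

theorem decomp {u : G} (hu : u ∈ c.U) : ∃ p ∈ c.one.Q, ∃ q ∈ c.two.Q, u = p * q := by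
  rw [← c.sup_eq, ← SetLike.mem_coe,
    Subgroup.coe_mul_of_right_le_normalizer_left c.one.Q c.two.Q
      ((c.Q₂_le_U.trans c.U_le₁).trans c.one.norm_Q)] at hu
  obtain ⟨p, hp, q, hq, rfl⟩ := hu
  exact ⟨p, hp, q, hq, rfl⟩

/-- `K`. -/
def K : Subgroup G := c.one.Q ⊓ c.two.Q

theorem swap_K : c.swap.K = c.K := inf_comm _ _

theorem K_le_U : c.K ≤ c.U := inf_le_left.trans c.Q_le_U

theorem K_comm {x y : G} (hx : x ∈ c.K) (hy : y ∈ c.K) : x * y = y * x := by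
  have h := c.D_disjoint (c.one.comm_mem x hx.1 y hy.1) (c.two.comm_mem x hx.2 y hy.2)
  rwa [mul_inv_eq_one, mul_inv_eq_iff_eq_mul] at h

theorem card_K : Nat.card c.K = 81 := by
  obtain ⟨k, hk⟩ := IsPGroup.iff_card.1 (c.U_isP.to_le c.K_le_U)
  have hlt : c.K < c.one.Q := lt_of_le_not_ge inf_le_left fun h => by
    have heq := Subgroup.eq_of_le_of_card_ge (h.trans inf_le_right)
      (by rw [c.one.card_Q, c.two.card_Q])
    exact c.u₀_notMem (heq ▸ c.u₀_mem)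
  have h1 : Nat.card c.K < 243 := by
    rw [← c.one.card_Q]
    exact lt_of_le_of_ne (Subgroup.card_le_of_le hlt.le)
      fun e => hlt.ne (Subgroup.eq_of_le_of_card_ge hlt.le e.ge)
  have hsurj : Function.Surjective (fun w : c.one.Q × c.two.Q => (⟨(w.1 : G) * w.2,
      mul_mem (c.Q_le_U w.1.2) (c.Q₂_le_U w.2.2)⟩ : c.U)) := fun u => by
    obtain ⟨p, hp, q, hq, e⟩ := c.decomp u.2
    exact ⟨⟨⟨p, hp⟩, ⟨q, hq⟩⟩, Subtype.ext e.symm⟩
  classical
  haveI := Fintype.ofFinite G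
  have hfib : Nat.card (c.one.Q × c.two.Q) = Nat.card c.U * Nat.card c.K := by
    set f := fun w : c.one.Q × c.two.Q => (⟨(w.1 : G) * w.2,
      mul_mem (c.Q_le_U w.1.2) (c.Q₂_le_U w.2.2)⟩ : c.U) with hf
    rw [← Nat.card_congr (Equiv.sigmaFiberEquiv f), Nat.card_sigma]
    have hfu : ∀ u, Nat.card {w // f w = u} = Nat.card c.K := by
      intro u
      obtain ⟨⟨p, q⟩, hu⟩ := hsurj u
      have hu' : (p : G) * q = u := congrArg Subtype.val hu
      refine Nat.card_congr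
        { toFun := fun w => ⟨(p : G)⁻¹ * w.1.1, ?_, ?_⟩
          invFun := fun k => ⟨(⟨p * k, c.one.Q.mul_mem p.2 k.2.1⟩, ⟨(k : G)⁻¹ * q, c.two.Q.mul_mem (c.two.Q.inv_mem k.2.2) q.2⟩),
            Subtype.ext (by show (p : G) * k * ((k : G)⁻¹ * q) = u; rw [← hu']; group)⟩
          left_inv := fun w => ?_
          right_inv := fun k => Subtype.ext (inv_mul_cancel_left _ _) }
      · exact c.one.Q.mul_mem (c.one.Q.inv_mem p.2) w.1.1.2
      · have hw : (w.1.1 : G) * w.1.2 = p * q := (congrArg Subtype.val w.2).trans hu'.symm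
        rw [show (p : G)⁻¹ * w.1.1 = q * (w.1.2 : G)⁻¹ by
          rw [eq_mul_inv_iff_mul_eq, mul_assoc, hw, inv_mul_cancel_left]]
        exact c.two.Q.mul_mem q.2 (c.two.Q.inv_mem w.1.2.2)
      · have hw : (w.1.1 : G) * w.1.2 = p * q := (congrArg Subtype.val w.2).trans hu'.symm
        refine Subtype.ext (Prod.ext (Subtype.ext (mul_inv_cancel_left _ _)) (Subtype.ext ?_))
        show ((p : G)⁻¹ * w.1.1)⁻¹ * q = w.1.2
        rw [_root_.mul_inv_rev, inv_inv, mul_assoc, ← hw, inv_mul_cancel_left]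
    rw [Finset.sum_congr rfl fun u _ => hfu u, Finset.sum_const, Finset.card_univ, smul_eq_mul]
    simp only [Nat.card_eq_fintype_card]
  rw [Nat.card_prod, c.one.card_Q, c.two.card_Q, c.card_U] at hfib
  omega

theorem comm_Q_mem {p q : G} (hp : p ∈ c.one.Q) (hq : q ∈ c.two.Q) :
    p * q * p⁻¹ * q⁻¹ ∈ c.K :=
  ⟨by
    rw [show p * q * p⁻¹ * q⁻¹ = p * (q * p⁻¹ * q⁻¹) by group]
    exact mul_mem hp (c.one.conj_Q (c.U_le₁ (c.Q₂_le_U hq)) (c.one.Q.inv_mem hp)),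
  c.two.Q.mul_mem (c.two.conj_Q (c.U_le₂ (c.Q_le_U hp)) hq) (c.two.Q.inv_mem hq)⟩

theorem Z₁_le_K : c.one.Z ≤ c.K := by
  intro z hz
  refine ⟨c.one.Z_le hz, by_contra fun hz2 => c.one.δ_ne ?_⟩
  -- otherwise the first kernel is abelian
  have hlt : c.K < c.K ⊔ Subgroup.zpowers z := lt_of_le_not_ge le_sup_left fun h =>
    hz2 (h (Subgroup.mem_sup_right (Subgroup.mem_zpowers z))).2
  have hle : c.K ⊔ Subgroup.zpowers z ≤ c.one.Q :=
    sup_le inf_le_left (Subgroup.zpowers_le.2 (c.one.Z_le hz))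
  obtain ⟨k, hk⟩ := IsPGroup.iff_card.1 (c.U_isP.to_le (hle.trans c.Q_le_U))
  have h1 : 81 < Nat.card (c.K ⊔ Subgroup.zpowers z : Subgroup G) := by
    rw [← c.card_K]
    exact lt_of_le_of_ne (Subgroup.card_le_of_le hlt.le)
      fun e => hlt.ne (Subgroup.eq_of_le_of_card_ge hlt.le e.ge)
  have heq : c.K ⊔ Subgroup.zpowers z = c.one.Q := Subgroup.eq_of_le_of_card_ge hle (by
    rw [hk, show 81 = 3 ^ 4 from rfl] at h1
    rw [hk, c.one.card_Q]
    exact Nat.pow_le_pow_right (show 3 > 0 by norm_num) ((Nat.pow_lt_pow_iff_right (by norm_num)).1 h1))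
  have hcent : c.one.Q ≤ Subgroup.centralizer (c.one.Q : Set G) := by
    conv_lhs => rw [← heq]
    refine sup_le (fun x hx => ?_) (Subgroup.zpowers_le.2 (Subgroup.mem_centralizer_iff.2
      fun q hq => (c.one.Z_comm hz hq).symm))
    have hK : c.K ⊔ Subgroup.zpowers z ≤ Subgroup.centralizer ({x} : Set G) :=
      sup_le (fun y hy => Subgroup.mem_centralizer_singleton_iff.2 (c.K_comm hy hx))
        (Subgroup.zpowers_le.2 (Subgroup.mem_centralizer_singleton_iff.2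
          (c.one.Z_comm hz hx.1)))
    exact Subgroup.mem_centralizer_iff.2 fun q hq =>
      Subgroup.mem_centralizer_singleton_iff.1 (hK (heq.symm ▸ hq))
  rw [Side.δ, Subgroup.mem_centralizer_iff.1 (hcent c.one.base_spec.2.1) _ c.one.base_spec.1,
    mul_inv_cancel_right, mul_inv_cancel]

theorem Z₂_le_K : c.two.Z ≤ c.K := c.swap_K ▸ c.swap.Z₁_le_K

theorem ZU_le_K : c.ZU ≤ c.K := inf_le_left.trans c.Z₁_le_K

/-- Commutators of `U` with `K` are central. -/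
theorem comm_K {u k : G} (hu : u ∈ c.U) (hk : k ∈ c.K) : u * k * u⁻¹ * k⁻¹ ∈ c.ZU := by
  obtain ⟨p, hp, q, hq, rfl⟩ := c.decomp hu
  have hd1 := c.one.comm_mem p hp k hk.1
  have hd2 := c.two.comm_mem q hq k hk.2
  rw [show p * q * k * (p * q)⁻¹ * k⁻¹ =
    (p * (q * k * q⁻¹ * k⁻¹) * p⁻¹) * (p * k * p⁻¹ * k⁻¹) by group,
    c.D₂_central (c.Q_le_U hp) hd2, mul_inv_cancel_right]
  exact mul_mem (c.D₂_le_ZU hd2) (c.D₁_le_ZU hd1)

theorem P_fix {u k : G} (hu : u ∈ c.U) (hk : k ∈ c.K) :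
    c.one.P.ρ u *ᵥ c.one.P.v k = c.one.P.v k := by
  have hc : u * k * u⁻¹ ∈ c.one.Q := c.one.conj_Q (c.U_le₁ hu) hk.1
  rw [← c.one.P.v_conj u (c.U_le₁ hu) k hk.1, c.one.P.v_eq_iff hc hk.1]
  rw [show (u * k * u⁻¹)⁻¹ * k = (u * k⁻¹ * u⁻¹ * k) by group]
  have := c.comm_K hu (inv_mem hk)
  rw [inv_inv] at this
  exact this.1

/-- The elements of `Q₁` fixed modulo `Z₁` by an element outside `Q₁` lie in `K`. -/
theorem mem_K_of_fixed {u q : G} (hu : u ∈ c.U) (hu1 : u ∉ c.one.Q) (hq : q ∈ c.one.Q)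
    (h : c.one.P.ρ u *ᵥ c.one.P.v q = c.one.P.v q) : q ∈ c.K := by
  obtain ⟨k, hk, hk1⟩ := SetLike.not_le_iff_exists.1 (fun h : c.K ≤ c.one.Z => by
    have := Subgroup.card_le_of_le h
    rw [c.card_K, c.one.card_Z] at this
    omega)
  obtain ⟨i, hi⟩ := cube_fixed_line _ (c.one.P.three (c.U_le₁ hu) (c.U_pow hu))
    (fun e => hu1 ((c.one.P.ρ_ker _ (c.U_le₁ hu)).1 e)) _ _
    (fun e => hk1 ((c.one.P.v_ker _ hk.1).1 e)) (c.P_fix hu hk) h
  have hp : k ^ i.val ∈ c.K := pow_mem hk _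
  have hz : q * (k ^ i.val)⁻¹ ∈ c.one.Z := by
    rw [← c.one.P.v_ker _ (mul_mem hq (inv_mem hp.1)), c.one.P.v_mul _ hq _ (inv_mem hp.1),
      c.one.P.v_inv hp.1, c.one.P.v_pow hk.1, ZMod.natCast_zmod_val, hi, add_neg_cancel]
  have := mul_mem (c.Z₁_le_K hz) hp
  rwa [inv_mul_cancel_right] at this

theorem mem_Q_of_central_comm {x : G} (hx : x ∈ c.U)
    (h : ∀ u ∈ c.U, x * u * x⁻¹ * u⁻¹ ∈ c.ZU) : x ∈ c.one.Q := by
  refine c.one.P.mem_Q_of (c.U_le₁ hx) fun q hq => ?_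
  have hc : x * q * x⁻¹ * q⁻¹ ∈ c.one.Z := (h q (c.Q_le_U hq)).1
  rw [show x * q * x⁻¹ = x * q * x⁻¹ * q⁻¹ * q by group, c.one.P.v_mul _ (c.one.Z_le hc) q hq,
    (c.one.P.v_ker _ (c.one.Z_le hc)).2 hc, zero_add]

/-- `K` is the second centre of `U`. -/
theorem mem_K_iff {x : G} (hx : x ∈ c.U) :
    x ∈ c.K ↔ ∀ u ∈ c.U, x * u * x⁻¹ * u⁻¹ ∈ c.ZU := by
  constructor
  · intro hk u hu
    have := inv_mem (c.comm_K hu hk)
    rwa [show (u * x * u⁻¹ * x⁻¹)⁻¹ = x * u * x⁻¹ * u⁻¹ by group] at this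
  · exact fun h => ⟨c.mem_Q_of_central_comm hx h,
      c.swap.mem_Q_of_central_comm hx (by rw [c.swap_ZU]; exact h)⟩

theorem mem_ZU_iff {z : G} (hz : z ∈ c.U) : z ∈ c.ZU ↔ ∀ u ∈ c.U, z * u = u * z := by
  refine ⟨fun h u hu => (c.ZU_central hu h).symm, fun h => ⟨?_, ?_⟩⟩
  · exact c.one.self_cent (c.U_le₁ hz) fun q hq => h q (c.Q_le_U hq)
  · exact c.two.self_cent (c.U_le₂ hz) fun q hq => h q (c.Q₂_le_U hq)

theorem norm_ZU {n z : G} (hn : n ∈ Subgroup.normalizer (c.U : Set G)) (hz : z ∈ c.ZU) :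
    n * z * n⁻¹ ∈ c.ZU := by
  have hzU : z ∈ c.U := c.K_le_U (c.ZU_le_K hz)
  refine (c.mem_ZU_iff (conj_mem_norm hn hzU)).2 fun u hu => ?_
  have hu' : n⁻¹ * u * n⁻¹⁻¹ ∈ c.U := conj_mem_norm (inv_mem hn) hu
  calc n * z * n⁻¹ * u = n * (z * (n⁻¹ * u * n⁻¹⁻¹)) * n⁻¹ := by group
    _ = n * ((n⁻¹ * u * n⁻¹⁻¹) * z) * n⁻¹ := by rw [c.ZU_central hu' hz]
    _ = u * (n * z * n⁻¹) := by group

theorem norm_K {n k : G} (hn : n ∈ Subgroup.normalizer (c.U : Set G)) (hk : k ∈ c.K) :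
    n * k * n⁻¹ ∈ c.K := by
  refine (c.mem_K_iff (conj_mem_norm hn (c.K_le_U hk))).2 fun u hu => ?_
  have hu' : n⁻¹ * u * n⁻¹⁻¹ ∈ c.U := conj_mem_norm (inv_mem hn) hu
  have := c.norm_ZU hn ((c.mem_K_iff (c.K_le_U hk)).1 hk _ hu')
  rwa [show n * (k * (n⁻¹ * u * n⁻¹⁻¹) * k⁻¹ * (n⁻¹ * u * n⁻¹⁻¹)⁻¹) * n⁻¹ =
    n * k * n⁻¹ * u * (n * k * n⁻¹)⁻¹ * u⁻¹ by group] at this

/-- The normaliser of `U` normalises `D₂`. -/
theorem norm_U_le₂ {n : G} (hn : n ∈ Subgroup.normalizer (c.U : Set G)) : n ∈ c.two.A := by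
  have hδ := c.two.δ_mem
  refine c.two.mem_A_of_conj fun d hd => ?_
  obtain ⟨i, rfl⟩ := c.two.exists_pow_δ hd
  rw [← conj_pow]
  refine pow_mem (by_contra fun hout => ?_) _
  set d' := n * c.two.δ * n⁻¹ with hd'
  have hd'Z : d' ∈ c.ZU := c.norm_ZU hn (c.D₂_le_ZU hδ)
  have hd'ne : d' ≠ 1 := fun e => c.two.δ_ne (conj_eq_one_iff.1 e)
  have hd'1 : d' ∉ c.one.D := fun h => c.D_not_conj n⁻¹ h hd'ne (by
    rwa [hd', show n⁻¹ * (n * c.two.δ * n⁻¹) * n⁻¹⁻¹ = c.two.δ by group])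
  -- powers
  have hpow : ∀ (j : ℕ) (X : Subgroup G), d' ^ j ∈ X → d' ∉ X → d' ^ j = 1 := by
    intro j X hj hX
    have h3 : d' ^ 3 = 1 := by rw [hd', conj_pow, c.two.D_pow hδ, mul_one, mul_inv_cancel]
    rw [pow_eq_pow_mod j h3] at hj ⊢
    rcases (show j % 3 = 0 ∨ j % 3 = 1 ∨ j % 3 = 2 by omega) with e | e | e <;> rw [e] at hj ⊢
    · exact pow_zero _
    · exact absurd (by simpa using hj) hX
    · refine absurd ?_ hX
      have := inv_mem hj
      rwa [inv_eq_of_mul_eq_one_right (show d' ^ 2 * d' = 1 by rw [← pow_succ, h3])] at this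
  obtain ⟨q, hq, hqK⟩ := SetLike.not_le_iff_exists.1 (fun h : c.two.Q ≤ c.K => by
    have := Subgroup.card_le_of_le h
    rw [c.card_K, c.two.card_Q] at this
    omega)
  set x := n * q * n⁻¹ with hx
  obtain ⟨a, ha, b, hb, hab⟩ := c.decomp (conj_mem_norm hn (c.Q₂_le_U hq))
  have hxK : x ∉ c.K := fun h => hqK (by
    have := c.norm_K (inv_mem hn) h
    rwa [hx, show n⁻¹ * (n * q * n⁻¹) * n⁻¹⁻¹ = q by group] at this)
  -- commutators with the conjugate of `Q₂`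
  have hcomm : ∀ w ∈ c.two.Q, ∀ k ∈ c.K, ∃ j : ℕ,
      n * w * n⁻¹ * k * (n * w * n⁻¹)⁻¹ * k⁻¹ = d' ^ j := by
    intro w hw k hk
    have hk' := (c.norm_K (inv_mem hn) hk).2
    refine ⟨(alt (c.two.P.v w) (c.two.P.v (n⁻¹ * k * n⁻¹⁻¹))).val, ?_⟩
    rw [hd', conj_pow, ← c.two.pairing hw hk']
    group
  have hsplit : ∀ k ∈ c.K, ∃ j : ℕ,
      (b * k * b⁻¹ * k⁻¹) * (a * k * a⁻¹ * k⁻¹) = d' ^ j := by
    intro k hk
    obtain ⟨j, hj⟩ := hcomm q hq k hk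
    refine ⟨j, ?_⟩
    rw [← hj, hab, show a * b * k * (a * b)⁻¹ * k⁻¹ =
      (a * (b * k * b⁻¹ * k⁻¹) * a⁻¹) * (a * k * a⁻¹ * k⁻¹) by group,
      c.D₂_central (c.Q_le_U ha) (c.two.comm_mem b hb k hk.2), mul_inv_cancel_right]
  -- centralising `a` is centralising `b`
  have hiff : ∀ k ∈ c.K, a * k = k * a → b * k = k * b := by
    intro k hk h
    obtain ⟨j, hj⟩ := hsplit k hk
    rw [h, mul_inv_cancel_right, mul_inv_cancel, mul_one] at hj
    have h1 := hpow j _ (hj ▸ c.two.comm_mem b hb k hk.2) hout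
    rw [h1, mul_inv_eq_one, mul_inv_eq_iff_eq_mul] at hj
    exact hj
  have haK : a ∉ c.K := by
    intro haK
    -- then `x` lies in `Q₂`
    have hxQ : x ∈ c.two.Q := by rw [hx, hab]; exact mul_mem haK.2 hb
    -- every commutator of `x` with `K` lies in both lines
    have hcen : ∀ k ∈ c.K, x * k = k * x := by
      intro k hk
      obtain ⟨j, hj⟩ := hcomm q hq k hk
      have h1 := hpow j _ (hj ▸ c.two.comm_mem x hxQ k hk.2) hout
      rw [h1, mul_inv_eq_one, mul_inv_eq_iff_eq_mul] at hj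
      exact hj
    -- hence `q` centralises `K` and lies in it
    refine hqK ?_
    have hq' : ∀ k ∈ c.K, q * k = k * q := fun k hk => by
      have h := hcen _ (c.norm_K hn hk)
      rw [hx, show n * q * n⁻¹ * (n * k * n⁻¹) = n * (q * k) * n⁻¹ by group,
        show n * k * n⁻¹ * (n * q * n⁻¹) = n * (k * q) * n⁻¹ by group] at h
      exact mul_left_cancel (mul_right_cancel h)
    obtain ⟨k, hk, hk2⟩ := SetLike.not_le_iff_exists.1 (fun h : c.K ≤ c.two.Z => by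
      have := Subgroup.card_le_of_le h
      rw [c.card_K, c.two.card_Z] at this
      omega)
    have h0 : alt (c.two.P.v k) (c.two.P.v q) = 0 := by
      have h := c.two.pairing hk.2 hq
      rw [← hq' k hk, mul_inv_cancel_right, mul_inv_cancel, eq_comm] at h
      by_contra hne
      rcases (show ∀ t : ZMod 3, t ≠ 0 → t.val = 1 ∨ t.val = 2 by decide) _ hne with e | e <;>
        rw [e] at h
      · exact c.two.δ_ne (by simpa using h)
      · refine c.two.δ_ne ?_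
        have h3 := c.two.D_pow hδ
        rwa [pow_succ, h, one_mul] at h3
    obtain ⟨i, hi⟩ := alt_eq_zero _ _ (fun e => hk2 ((c.two.P.v_ker _ hk.2).1 e)) h0
    have hp : k ^ i.val ∈ c.K := pow_mem hk _
    have hz : q * (k ^ i.val)⁻¹ ∈ c.two.Z := by
      rw [← c.two.P.v_ker _ (mul_mem hq (inv_mem hp.2)), c.two.P.v_mul _ hq _ (inv_mem hp.2),
        c.two.P.v_inv hp.2, c.two.P.v_pow hk.2, ZMod.natCast_zmod_val, hi, add_neg_cancel]
    have := mul_mem (c.Z₂_le_K hz) hp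
    rwa [inv_mul_cancel_right] at this
  -- the centraliser of `a` in `K` is large and central
  set C := c.K ⊓ Subgroup.centralizer ({a} : Set G) with hC
  have hCcard : 27 ≤ Nat.card C := by
    let f : c.K →* c.one.D :=
      { toFun := fun k => ⟨a * k * a⁻¹ * (k : G)⁻¹, c.one.comm_mem a ha k k.2.1⟩
        map_one' := Subtype.ext (by simp)
        map_mul' := fun k l => Subtype.ext (by
          show a * ((k : G) * l) * a⁻¹ * ((k : G) * l)⁻¹ =
            (a * k * a⁻¹ * (k : G)⁻¹) * (a * l * a⁻¹ * (l : G)⁻¹)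
          have hd := c.one.comm_mem a ha l l.2.1
          calc a * ((k : G) * l) * a⁻¹ * ((k : G) * l)⁻¹
              = (a * k * a⁻¹ * (k : G)⁻¹) * ((k : G) * (a * l * a⁻¹ * (l : G)⁻¹) * (k : G)⁻¹) := by
                group
            _ = _ := by rw [← c.one.Z_comm (c.one.D_le hd) k.2.1, mul_inv_cancel_right]) }
    have h1 := Subgroup.card_mul_index f.ker
    rw [Subgroup.index_ker, c.card_K] at h1
    have h2 : Nat.card f.range ≤ 3 := c.one.card_D ▸ Subgroup.card_le_card_group _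
    have h3 : f.ker.map c.K.subtype ≤ C := by
      rintro _ ⟨k, hk, rfl⟩
      refine ⟨k.2, Subgroup.mem_centralizer_singleton_iff.2 ?_⟩
      have := congrArg Subtype.val (MonoidHom.mem_ker.1 hk)
      change a * (k : G) * a⁻¹ * (k : G)⁻¹ = 1 at this
      rw [mul_inv_eq_one, mul_inv_eq_iff_eq_mul] at this
      exact this.symm
    have h4 := Subgroup.card_le_of_le h3
    rw [Subgroup.card_map_of_injective c.K.subtype_injective] at h4
    nlinarith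
  have hCle : C ≤ c.ZU := by
    rintro k ⟨hk, hka⟩
    have hka' : a * k = k * a := (Subgroup.mem_centralizer_singleton_iff.1 hka).symm
    -- the centraliser of `k` contains both kernels
    have hbK : b ∉ c.K := fun hbK => by
      refine haK ?_
      have hxQ : x ∈ c.one.Q := by rw [hx, hab]; exact mul_mem ha hbK.1
      refine absurd ?_ hd'1
      -- some commutator with `x` is nontrivial
      obtain ⟨y, hy, hyn⟩ : ∃ y ∈ c.K, x * y ≠ y * x := by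
        by_contra hall
        refine haK ?_
        have hcen : ∀ y ∈ c.K, x * y = y * x := fun y hy => by_contra fun h => hall ⟨y, hy, h⟩
        obtain ⟨l, hl, hl1⟩ := SetLike.not_le_iff_exists.1 (fun h : c.K ≤ c.one.Z => by
          have := Subgroup.card_le_of_le h
          rw [c.card_K, c.one.card_Z] at this
          omega)
        have hal : alt (c.one.P.v l) (c.one.P.v x) = 0 := by
          have h := c.one.pairing hl.1 hxQ
          rw [← hcen l hl, mul_inv_cancel_right, mul_inv_cancel, eq_comm] at h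
          by_contra hne
          rcases (show ∀ t : ZMod 3, t ≠ 0 → t.val = 1 ∨ t.val = 2 by decide) _ hne with e | e <;>
            rw [e] at h
          · exact c.one.δ_ne (by simpa using h)
          · refine c.one.δ_ne ?_
            have h3 := c.one.D_pow c.one.δ_mem
            rwa [pow_succ, h, one_mul] at h3
        obtain ⟨i, hi⟩ := alt_eq_zero _ _ (fun e => hl1 ((c.one.P.v_ker _ hl.1).1 e)) hal
        have hp : l ^ i.val ∈ c.K := pow_mem hl _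
        have hz : x * (l ^ i.val)⁻¹ ∈ c.one.Z := by
          rw [← c.one.P.v_ker _ (mul_mem hxQ (inv_mem hp.1)), c.one.P.v_mul _ hxQ _ (inv_mem hp.1),
            c.one.P.v_inv hp.1, c.one.P.v_pow hl.1, ZMod.natCast_zmod_val, hi, add_neg_cancel]
        have := mul_mem (c.Z₁_le_K hz) hp
        rw [inv_mul_cancel_right] at this
        exact absurd this hxK
      obtain ⟨j, hj⟩ := hcomm q hq y hy
      by_contra hout1
      have h1 := hpow j _ (hj ▸ c.one.comm_mem x hxQ y hy.1) hout1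
      rw [h1, mul_inv_eq_one, mul_inv_eq_iff_eq_mul] at hj
      exact hyn hj
    have hCU : c.U ≤ Subgroup.centralizer ({k} : Set G) := by
      rw [← c.sup_eq]
      have hKc : c.K ≤ Subgroup.centralizer ({k} : Set G) :=
        fun y hy => Subgroup.mem_centralizer_singleton_iff.2 (c.K_comm hy hk)
      have key : ∀ (Qi : Subgroup G) (w : G), Qi ≤ c.U → c.K ≤ Qi → Nat.card Qi = 243 → w ∈ Qi →
          w ∉ c.K → w * k = k * w → Qi ≤ Subgroup.centralizer ({k} : Set G) := by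
        intro Qi w hQU hKQ hQc hw hwK hwk
        have hlt : c.K < c.K ⊔ Subgroup.zpowers w := lt_of_le_not_ge le_sup_left fun h =>
          hwK (h (Subgroup.mem_sup_right (Subgroup.mem_zpowers w)))
        have hle : c.K ⊔ Subgroup.zpowers w ≤ Qi := sup_le hKQ (Subgroup.zpowers_le.2 hw)
        obtain ⟨m, hm⟩ := IsPGroup.iff_card.1 (c.U_isP.to_le (hle.trans hQU))
        have h1 : 81 < Nat.card (c.K ⊔ Subgroup.zpowers w : Subgroup G) := by
          rw [← c.card_K]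
          exact lt_of_le_of_ne (Subgroup.card_le_of_le hlt.le)
            fun e => hlt.ne (Subgroup.eq_of_le_of_card_ge hlt.le e.ge)
        have heq : c.K ⊔ Subgroup.zpowers w = Qi := Subgroup.eq_of_le_of_card_ge hle (by
          rw [hm, show 81 = 3 ^ 4 from rfl] at h1
          rw [hm, hQc]
          exact Nat.pow_le_pow_right (show 3 > 0 by norm_num)
            ((Nat.pow_lt_pow_iff_right (by norm_num)).1 h1))
        rw [← heq]
        exact sup_le hKc (Subgroup.zpowers_le.2 (Subgroup.mem_centralizer_singleton_iff.2 hwk))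
      exact sup_le (key _ a c.Q_le_U inf_le_left c.one.card_Q ha haK hka')
        (key _ b c.Q₂_le_U inf_le_right c.two.card_Q hb hbK (hiff k hk hka'))
    exact (c.mem_ZU_iff (c.K_le_U hk)).2 fun u hu =>
      (Subgroup.mem_centralizer_singleton_iff.1 (hCU hu)).symm
  have hZU : Nat.card c.ZU ≤ 9 := by
    classical
    haveI := Fintype.ofFinite G
    refine le_trans (Nat.card_le_card_of_surjective
      (fun w : c.one.D × Fin 3 => (⟨(w.1 : G) * c.two.δ ^ (w.2 : ℕ),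
        mul_mem (c.D₁_le_ZU w.1.2) (pow_mem (c.D₂_le_ZU c.two.δ_mem) _)⟩ : c.ZU)) fun z => ?_) ?_
    · obtain ⟨d, hd, i, hdi⟩ := c.ZU_decomp z.2
      exact ⟨(⟨d, hd⟩, ⟨i % 3, Nat.mod_lt _ (by norm_num)⟩), Subtype.ext (by
        show d * c.two.δ ^ (i % 3) = z
        rw [hdi, ← pow_eq_pow_mod _ (c.two.D_pow hδ)])⟩
    · rw [Nat.card_prod, c.one.card_D, Nat.card_fin]
  have := Subgroup.card_le_of_le hCle
  omega

theorem norm_U_le₁ {n : G} (hn : n ∈ Subgroup.normalizer (c.U : Set G)) : n ∈ c.one.A :=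
  c.swap.norm_U_le₂ hn

/-- The centraliser of the centre of `U` is `U`. -/
theorem mem_U_of_cent {x : G} (h1 : ∀ d ∈ c.one.D, x * d = d * x)
    (h2 : x * c.two.δ = c.two.δ * x) : x ∈ c.U := by
  have hxA := c.one.mem_A_of_comm h1
  have hd : (c.one.S.ρ x).det = 1 := by
    rw [c.one.det_eq hxA]
    exact c.one.det_of_comm hxA c.one.δ_mem c.one.δ_ne (h1 _ c.one.δ_mem)
  have hfix : c.one.S.ρ x *ᵥ c.one.S.v c.two.δ = c.one.S.v c.two.δ := by
    rw [← c.one.S.v_conj x hxA _ c.δ₂_mem_Z, h2, mul_inv_cancel_right]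
  have h3 := fix_cube _ hd _ c.S_δ₂_ne hfix
  obtain ⟨i, hi⟩ : ∃ i : ℕ, c.one.S.ρ x = c.one.S.ρ c.u₀ ^ i := by
    rcases line_cubes _ _ (c.one.S.three c.u₀_A (c.U_pow c.u₀_U)) c.S_u₀_ne h3 _ c.S_δ₂_ne
      (c.S_fix c.u₀_U) hfix with e | e | e
    · exact ⟨0, by rw [e, pow_zero]⟩
    · exact ⟨1, by rw [e, pow_one]⟩
    · exact ⟨2, by rw [e, pow_two]⟩
  have hA : (c.u₀ ^ i)⁻¹ * x ∈ c.one.A := mul_mem (inv_mem (pow_mem c.u₀_A i)) hxA
  have hq : (c.u₀ ^ i)⁻¹ * x ∈ c.one.Q := (c.one.S.ρ_ker _ hA).1 (by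
    rw [c.one.S.ρ_mul _ (inv_mem (pow_mem c.u₀_A i)) x hxA, hi, ← c.one.S.ρ_pow c.u₀_A i,
      c.one.S.ρ_inv' (pow_mem c.u₀_A i)])
  have := mul_mem (pow_mem c.u₀_U i) (c.Q_le_U hq)
  rwa [mul_inv_cancel_left] at this

/-- `U` is a Sylow subgroup. -/
theorem exists_sylow : ∃ S : Sylow 3 G, (S : Subgroup G) = c.U := by
  refine exists_sylow_eq c.U_isP fun x hx h3 => ?_
  have hP : IsPGroup 3 (Subgroup.zpowers x) := by
    rintro ⟨_, i, rfl⟩
    obtain ⟨k, hk⟩ := h3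
    refine ⟨k, Subtype.ext ?_⟩
    rw [Subgroup.coe_pow, Subgroup.coe_one, ← zpow_natCast, ← zpow_mul, mul_comm, zpow_mul,
      zpow_natCast, hk, one_zpow]
  have hn : Subgroup.zpowers x ≤ Subgroup.normalizer (c.U : Set G) := Subgroup.zpowers_le.2 hx
  have hp := c.U_isP.to_sup_of_normal_left' hP hn
  obtain ⟨k, hk⟩ := IsPGroup.iff_card.1 hp
  have hle : c.U ⊔ Subgroup.zpowers x ≤ c.one.A :=
    sup_le c.U_le₁ (Subgroup.zpowers_le.2 (c.norm_U_le₁ hx))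
  have hd : 3 ^ k ∣ 3 ^ 6 * 16 := by
    have := Subgroup.card_dvd_of_le hle
    rw [hk, c.one.card_A] at this
    simpa using this
  have hd' : 3 ^ k ∣ 3 ^ 6 := ((Nat.Coprime.pow_left k (by norm_num)).dvd_of_dvd_mul_right hd)
  have heq : c.U = c.U ⊔ Subgroup.zpowers x := Subgroup.eq_of_le_of_card_ge le_sup_left (by
    rw [hk, c.card_U]; exact Nat.le_of_dvd (by norm_num) hd')
  rw [heq]
  exact Subgroup.mem_sup_right (Subgroup.mem_zpowers x)

/-- Conjugates of `D₁` in the centre of `U` lie in `D₁`. -/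
theorem conj_ZU {x d : G} (hd : d ∈ c.one.D) (hd1 : d ≠ 1) (h : x * d * x⁻¹ ∈ c.ZU) :
    x * d * x⁻¹ ∈ c.one.D := by
  obtain ⟨S, hS⟩ := c.exists_sylow
  set m := x * d * x⁻¹ with hm
  set T := Subgroup.centralizer ({m} : Set G) with hT
  have hU1 : c.U ≤ T := fun u hu => Subgroup.mem_centralizer_singleton_iff.2 (c.ZU_central hu h)
  have hU2 : ∀ u ∈ c.U, x * u * x⁻¹ ∈ T := fun u hu => by
    refine Subgroup.mem_centralizer_singleton_iff.2 ?_
    rw [hm, show x * u * x⁻¹ * (x * d * x⁻¹) = x * (u * d) * x⁻¹ by group, c.D₁_central hu hd]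
    group
  obtain ⟨P, hP⟩ : ∃ P : Sylow 3 T, (P : Subgroup T) = c.U.subgroupOf T := by
    refine ⟨S.subtype (hS ▸ hU1), ?_⟩
    rw [Sylow.coe_subtype, hS]
  have h3 : IsPGroup 3 ((c.U.map (MulAut.conj x).toMonoidHom).subgroupOf T) :=
    (c.U_isP.map _).comap_of_injective T.subtype T.subtype_injective
  obtain ⟨P', hP'⟩ := h3.exists_le_sylow
  obtain ⟨g, hg⟩ := MulAction.exists_smul_eq T P' P
  have key : ∀ u ∈ c.U, (g : G) * x * u * ((g : G) * x)⁻¹ ∈ c.U := fun u hu => by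
    have hin : (⟨x * u * x⁻¹, hU2 u hu⟩ : T) ∈ (P' : Subgroup T) :=
      hP' (Subgroup.mem_subgroupOf.2 ⟨u, hu, rfl⟩)
    have : g * ⟨x * u * x⁻¹, hU2 u hu⟩ * g⁻¹ ∈ (P : Subgroup T) := by
      rw [← hg]
      exact ⟨_, hin, by simp [MulAut.conj_apply]⟩
    rw [hP, Subgroup.mem_subgroupOf] at this
    convert this using 1
    push_cast
    group
  have hn : (g : G) * x ∈ c.one.A := c.norm_U_le₁ (Subgroup.mem_normalizer_fintype key)
  have := c.one.conj_D hn hd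
  rwa [show (g : G) * x * d * ((g : G) * x)⁻¹ = (g : G) * m * (g : G)⁻¹ by rw [hm]; group,
    Subgroup.mem_centralizer_singleton_iff.1 g.2, mul_inv_cancel_right] at this

/-- The two involutions. -/
theorem exists_torus : ∃ t s : G, t ∈ c.one.A ∧ t ∈ c.two.A ∧ s ∈ c.one.A ∧ s ∈ c.two.A ∧
    t * t = 1 ∧ s * s = 1 ∧ t * s = s * t ∧ c.one.P.ρ t = -1 ∧ c.two.P.ρ s = -1 ∧
    t ∈ Subgroup.normalizer (c.U : Set G) ∧ s ∈ Subgroup.normalizer (c.U : Set G) := by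
  have key : ∀ e : Setup G, ∃ t ∈ e.one.A, t * t = 1 ∧ e.one.P.ρ t = -1 ∧
      t ∈ Subgroup.normalizer (e.U : Set G) := by
    intro e
    obtain ⟨t, ht, ht2, htρ⟩ := e.one.exists_invol (M := -1) negOne_mul
    refine ⟨t, ht, ht2, htρ, Subgroup.mem_normalizer_fintype fun u hu => ?_⟩
    have hti : t⁻¹ = t := inv_eq_of_mul_eq_one_right ht2
    have huA := e.U_le₁ hu
    have hA : t * u * t⁻¹ * u⁻¹ ∈ e.one.A := mul_mem (mul_mem (mul_mem ht huA) (inv_mem ht)) (inv_mem huA)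
    have hq : t * u * t⁻¹ * u⁻¹ ∈ e.one.Q := (e.one.P.ρ_ker _ hA).1 (by
      rw [e.one.P.ρ_mul _ (mul_mem (mul_mem ht huA) (inv_mem ht)) _ (inv_mem huA), hti,
        e.one.P.ρ_mul _ (mul_mem ht huA) t ht, e.one.P.ρ_mul t ht u huA, htρ, neg_one_mul,
        mul_neg_one, neg_neg, e.one.P.ρ_inv huA])
    have := mul_mem (e.Q_le_U hq) hu
    rwa [inv_mul_cancel_right] at this
  obtain ⟨t, ht, ht2, htρ, htn⟩ := key c
  obtain ⟨s, hs, hs2, hsρ, hsn⟩ := key c.swap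
  have htA2 : t ∈ c.two.A := c.norm_U_le₂ htn
  have hsA1 : s ∈ c.one.A := c.norm_U_le₁ hsn
  have hti : t⁻¹ = t := inv_eq_of_mul_eq_one_right ht2
  have hsi : s⁻¹ = s := inv_eq_of_mul_eq_one_right hs2
  set w := t * s * t * s with hw
  have h1 : w ∈ c.one.Q := (c.one.P.ρ_ker _ (mul_mem (mul_mem (mul_mem ht hsA1) ht) hsA1)).1 (by
    rw [c.one.P.ρ_mul _ (mul_mem (mul_mem ht hsA1) ht) s hsA1,
      c.one.P.ρ_mul _ (mul_mem ht hsA1) t ht, c.one.P.ρ_mul t ht s hsA1, htρ, neg_one_mul,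
      mul_neg_one, neg_neg, c.one.P.ρ_sq_one hsA1 hs2])
  have h2 : w ∈ c.two.Q := (c.two.P.ρ_ker _ (mul_mem (mul_mem (mul_mem htA2 hs) htA2) hs)).1 (by
    have hsρ' : c.two.P.ρ s = -1 := hsρ
    rw [c.two.P.ρ_mul _ (mul_mem (mul_mem htA2 hs) htA2) s hs,
      c.two.P.ρ_mul _ (mul_mem htA2 hs) t htA2, c.two.P.ρ_mul t htA2 s hs, hsρ', mul_neg_one,
      mul_neg_one, neg_mul, neg_neg, c.two.P.ρ_sq_one htA2 ht2])
  -- `s t s` is a conjugate of `t` under `K`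
  have hkey := conj_coset (t := t) (q := w) (c.one.Q_pow h1) ht2 (by
    rw [hw, show t * (t * s * t * s) * (t * (t * s * t * s)) =
      (t * t) * (s * t * ((s * ((t * t) * s)) * t * s)) by group, ht2, one_mul, one_mul, hs2,
      one_mul, show s * t * (t * s) = s * (t * t) * s by group, ht2, mul_one, hs2])
  have e : t * w = s * t * s := by rw [hw]; simp only [← mul_assoc, ht2, one_mul]
  rw [e] at hkey
  set k := w ^ 121
  have hk1 : k ∈ c.one.Q := pow_mem h1 _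
  have hk2 : k ∈ c.two.Q := pow_mem h2 _
  have hcom : (s * k) * t = t * (s * k) := by
    have h := congrArg (fun y => s * y * k) hkey
    rw [show s * (s * t * s) * k = (s * s) * t * (s * k) by group, hs2, one_mul] at h
    rw [← h]
    group
  set s' := (s * k) ^ 243 with hs'
  have hskA2 : s * k ∈ c.two.A := mul_mem hs (c.two.Q_le hk2)
  have hskA1 : s * k ∈ c.one.A := mul_mem hsA1 (c.one.Q_le hk1)
  have hρsk : c.two.P.ρ (s * k) = -1 := (c.two.P.ρ_mul_Q hs (c.two.Q_le hk2) hk2).trans hsρ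
  refine ⟨t, s', ht, htA2, pow_mem hskA1 _, pow_mem hskA2 _, ht2, ?_,
    ((show Commute (s * k) t from hcom).pow_left 243).eq.symm, htρ, ?_, htn, ?_⟩
  · rw [hs', ← pow_add, show 243 + 243 = 2 * 243 from rfl, pow_mul, pow_two]
    exact c.two.Q_pow ((c.two.P.ρ_ker _ (mul_mem hskA2 hskA2)).1 (by
      rw [c.two.P.ρ_mul _ hskA2 _ hskA2, hρsk, negOne_mul]))
  · rw [hs', c.two.P.ρ_pow hskA2, hρsk, show 243 = 2 * 121 + 1 from rfl, pow_odd negOne_mul]
  · exact pow_mem (mul_mem hsn (Subgroup.le_normalizer (c.Q_le_U hk1))) _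

end Setup

end CfsgLib.G2Amalgam
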