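import Cfsg.Agent.G2Amalgam.CharCore
import Cfsg.Agent.G2Amalgam.Burnside
import Cfsg.Agent.Coprime.Generation
import Mathlib.GroupTheory.Transfer
import Mathlib.GroupTheory.IndexNormal

/-!
# A group with a self-centralising subgroup of order nine and normaliser `S₃ × S₃`

If the subgroup controls its own fusion and there is a subgroup of index two meeting the normaliser
in the kernel of the product of the two signs, then the group is `S₃ × S₃`.
-/

set_option autoImplicit false
set_option linter.style.haveILetI false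
set_option linter.unusedSectionVars false
set_option maxRecDepth 100000

open scoped ComplexConjugate

namespace CfsgLib.G2Amalgam

open CfsgLib.Characters

universe u

theorem fact_three : Fact (Nat.Prime 3) := ⟨Nat.prime_three⟩

attribute [local instance] fact_three

/-- The dihedral group of order six. -/
abbrev D3 := DihedralGroup 3

/-- The product of two dihedral groups of order six. -/
abbrev M36 := D3 × D3

/-- Rotations. -/
def isR : D3 → Bool
  | .r _ => true
  | .sr _ => false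

/-- Nontrivial rotations. -/
def rot : D3 → Bool
  | .r i => decide (i ≠ 0)
  | .sr _ => false

def g0 (x : D3) : ℤ := if rot x then 3 else 0
def fA (m : M36) : ℤ := g0 m.1
def fB (m : M36) : ℤ := g0 m.2
def par (m : M36) : ℤ := if isR m.1 = isR m.2 then 1 else -1
def isW (m : M36) : Bool := isR m.1 && isR m.2

def rotSub : Subgroup D3 where
  carrier := {x | isR x = true}
  one_mem' := rfl
  mul_mem' := fun {a b} => (show ∀ a b : D3, isR a = true → isR b = true → isR (a * b) = true by decide) a b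
  inv_mem' := fun {a} => (show ∀ a : D3, isR a = true → isR a⁻¹ = true by decide) a

def flipSub : Subgroup D3 where
  carrier := {x | x = 1 ∨ x = .sr 0}
  one_mem' := Or.inl rfl
  mul_mem' := fun {a b} => (show ∀ a b : D3, (a = 1 ∨ a = .sr 0) → (b = 1 ∨ b = .sr 0) →
    (a * b = 1 ∨ a * b = .sr 0) by decide) a b
  inv_mem' := fun {a} => (show ∀ a : D3, (a = 1 ∨ a = .sr 0) → (a⁻¹ = 1 ∨ a⁻¹ = .sr 0) by decide) a

theorem indFun_const {G : Type u} [Group G] [Fintype G] (H : Subgroup G) (x : G) :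
    Cfsg.indFun H (fun _ => 1) x =
      (Nat.card H : ℂ)⁻¹ * (Nat.card {g : G // g⁻¹ * x * g ∈ H} : ℂ) := by
  classical
  rw [Cfsg.indFun, Nat.card_eq_fintype_card (α := {g : G // g⁻¹ * x * g ∈ H}), Fintype.card_subtype,
    ← Finset.sum_boole]
  congr 1
  refine Finset.sum_congr rfl fun g _ => ?_
  by_cases h : g⁻¹ * x * g ∈ H
  · rw [extendByZero_of_mem H _ h, if_pos h]
  · rw [extendByZero_of_not_mem H _ h, if_neg h]

theorem isGen_g0 : Cfsg.IsGeneralizedCharacter D3 (fun x => (g0 x : ℂ)) := by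
  have hR : Nat.card rotSub = 3 := by
    rw [show Nat.card rotSub = Nat.card {x : D3 // isR x = true} from rfl, Nat.card_eq_fintype_card]
    decide
  have hP : Nat.card flipSub = 2 := by
    rw [show Nat.card flipSub = Nat.card {x : D3 // x = 1 ∨ x = .sr 0} from rfl,
      Nat.card_eq_fintype_card]
    decide
  have hcR : ∀ x : D3, Nat.card {g : D3 // g⁻¹ * x * g ∈ rotSub} = if isR x then 6 else 0 := by
    intro x
    rw [show Nat.card {g : D3 // g⁻¹ * x * g ∈ rotSub} =
      Nat.card {g : D3 // isR (g⁻¹ * x * g) = true} from rfl, Nat.card_eq_fintype_card]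
    revert x
    decide
  have hcP : ∀ x : D3, Nat.card {g : D3 // g⁻¹ * x * g ∈ flipSub} =
      if x = 1 then 6 else if isR x then 0 else 2 := by
    intro x
    rw [show Nat.card {g : D3 // g⁻¹ * x * g ∈ flipSub} =
      Nat.card {g : D3 // g⁻¹ * x * g = 1 ∨ g⁻¹ * x * g = .sr 0} from rfl, Nat.card_eq_fintype_card]
    revert x
    decide
  have hint : ∀ x : D3, (6 : ℤ) * g0 x = 6 + 2 * ((if isR x then 6 else 0 : ℕ) : ℤ) -
      3 * ((if x = 1 then 6 else if isR x then 0 else 2 : ℕ) : ℤ) := by decide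
  have h : (fun x => (g0 x : ℂ)) = (fun _ => 1) + Cfsg.indFun rotSub (fun _ => 1) -
      Cfsg.indFun flipSub (fun _ => 1) := by
    funext x
    have h6 := congrArg (Int.cast : ℤ → ℂ) (hint x)
    simp only [Pi.add_apply, Pi.sub_apply, indFun_const, hR, hP, hcR, hcP]
    push_cast at h6 ⊢
    linear_combination (1 / 6 : ℂ) * h6
  rw [h]
  exact isGen_sub (isGen_add isGen_one (isGen_indFun _ isGen_one)) (isGen_indFun _ isGen_one)

/-- The hypotheses. -/
structure Small (K : Type u) [Group K] [Fintype K] where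
  φ : M36 →* K
  inj : Function.Injective φ
  C : Subgroup K
  index_two : C.index = 2
  mem_C : ∀ m, φ m ∈ C ↔ par m = 1
  fus : ∀ w w' : M36, w ≠ 1 → w * w * w = 1 → ∀ x : K, x * φ w * x⁻¹ = φ w' → x ∈ φ.range

namespace Small

variable {K : Type u} [Group K] [Fintype K] (c : Small K)

noncomputable def e : M36 ≃* c.φ.range := MonoidHom.ofInjective c.inj

theorem e_val (m : M36) : ((c.e m : c.φ.range) : K) = c.φ m := rfl

theorem card_range : Nat.card c.φ.range = 36 := by
  rw [← Nat.card_congr c.e.toEquiv, Nat.card_eq_fintype_card]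
  rfl

noncomputable def lift (f : M36 → ℤ) : c.φ.range → ℂ := fun n => (f (c.e.symm n) : ℂ)

noncomputable def Φ (f : M36 → ℤ) : K → ℂ := Cfsg.indFun c.φ.range (c.lift f)

noncomputable def sgn : K → ℂ := signChar c.C

theorem sgn_φ (m : M36) : c.sgn (c.φ m) = (par m : ℂ) := by
  unfold sgn signChar
  by_cases h : par m = 1
  · rw [if_pos ((c.mem_C m).2 h), h, Int.cast_one]
  · rw [if_neg fun hh => h ((c.mem_C m).1 hh),
      ((show ∀ m : M36, par m ≠ 1 → par m = -1 by decide) m h)]
    simp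

theorem pow_data : ∀ m : M36, (m ^ 4) * (m ^ 4) * (m ^ 4) = 1 := by decide +kernel

/-- The induced function extends the given one. -/
theorem Φ_φ (f : M36 → ℤ) (hf : ∀ m g, f (g * m * g⁻¹) = f m)
    (hsupp : ∀ m, f m ≠ 0 → m ^ 4 ≠ 1) (m : M36) : c.Φ f (c.φ m) = (f m : ℂ) := by
  by_cases hm : m ^ 4 = 1
  · rw [show f m = 0 from by_contra fun h => hsupp m h hm, Int.cast_zero]
    refine indFun_zero_of _ _ _ fun g y hy => ?_
    by_contra hne
    refine hsupp (c.e.symm y) (fun h0 => hne (by simp [lift, h0])) (c.inj ?_)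
    rw [map_pow, ← c.e_val, c.e.apply_symm_apply, ← hy, conj_pow, ← map_pow, hm, map_one, mul_one,
      mul_inv_cancel]
  · have h := indFun_TI c.φ.range (c.lift f) (fun n g => by
      simp only [lift, map_mul, map_inv, hf]) (c.e m) fun g y hne hy => by
        refine c.fus (m ^ 4) ((c.e.symm y) ^ 4) hm (pow_data m) g ?_
        rw [map_pow, map_pow, ← c.e_val (c.e.symm y), c.e.apply_symm_apply, ← hy, conj_pow]
        rfl
    rw [c.e_val] at h
    rw [Φ, h, lift, c.e.symm_apply_apply]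

theorem inner_Φ (f : M36 → ℤ) {θ : K → ℂ} (hθ : Cfsg.IsClassFunction K θ) (b : M36 → ℂ)
    (hb : ∀ m, f m ≠ 0 → θ (c.φ m) = b m) :
    Cfsg.classInner (c.Φ f) θ = (36 : ℂ)⁻¹ * ∑ m, (f m : ℂ) * conj (b m) := by
  haveI := Fintype.ofFinite c.φ.range
  rw [Φ, inner_indFun c.φ.range (c.lift f) hθ (fun y => b (c.e.symm y)) fun y hy => ?_, c.card_range]
  · norm_num
    exact (Fintype.sum_equiv c.e.toEquiv _ _ fun m => by simp [lift]).symm
  · rw [← hb _ (fun h0 => hy (by simp [lift, h0])), ← c.e_val, c.e.apply_symm_apply]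

theorem inner_Φ_int (f : M36 → ℤ) {θ : K → ℂ} (hθ : Cfsg.IsClassFunction K θ) (b : M36 → ℤ)
    (hb : ∀ m, f m ≠ 0 → θ (c.φ m) = b m) (z : ℤ) (hz : ∑ m, f m * b m = 36 * z) :
    Cfsg.classInner (c.Φ f) θ = z := by
  rw [c.inner_Φ f hθ (fun m => (b m : ℂ)) hb]
  simp only [map_intCast, ← Int.cast_mul, ← Int.cast_sum, hz]
  push_cast
  ring

theorem supp_A : ∀ m, fA m ≠ 0 → m ^ 4 ≠ 1 := by decide +kernel
theorem supp_B : ∀ m, fB m ≠ 0 → m ^ 4 ≠ 1 := by decide +kernel
theorem conj_A : ∀ m g, fA (g * m * g⁻¹) = fA m := by decide +kernel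
theorem conj_B : ∀ m g, fB (g * m * g⁻¹) = fB m := by decide +kernel

noncomputable def ΦA : K → ℂ := c.Φ fA
noncomputable def ΦB : K → ℂ := c.Φ fB

theorem ΦA_φ (m : M36) : c.ΦA (c.φ m) = (fA m : ℂ) := c.Φ_φ fA conj_A supp_A m
theorem ΦB_φ (m : M36) : c.ΦB (c.φ m) = (fB m : ℂ) := c.Φ_φ fB conj_B supp_B m

theorem ΦA_gen : Cfsg.IsGeneralizedCharacter K c.ΦA :=
  isGen_indFun _ (isGen_comp ((MonoidHom.fst D3 D3).comp c.e.symm.toMonoidHom) isGen_g0)

theorem ΦB_gen : Cfsg.IsGeneralizedCharacter K c.ΦB :=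
  isGen_indFun _ (isGen_comp ((MonoidHom.snd D3 D3).comp c.e.symm.toMonoidHom) isGen_g0)

/-- Twisting. -/
noncomputable def tw (a : K → ℂ) : K → ℂ := fun x => a x * c.sgn x

theorem tw_tw (a : K → ℂ) : c.tw (c.tw a) = a := funext fun x => by
  rw [tw, tw, mul_assoc, sgn, signChar_sq, mul_one]

theorem tw_sub (a b : K → ℂ) : c.tw (a - b) = c.tw a - c.tw b := funext fun x => by
  simp [tw, sub_mul]

theorem tw_add (a b : K → ℂ) : c.tw (a + b) = c.tw a + c.tw b := funext fun x => by
  simp [tw, add_mul]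

theorem tw_gen {a : K → ℂ} (h : Cfsg.IsGeneralizedCharacter K a) :
    Cfsg.IsGeneralizedCharacter K (c.tw a) :=
  isGen_mul h (isGen_of_isIrr (signChar_irr c.index_two))

theorem inner_tw (a b : K → ℂ) : Cfsg.classInner (c.tw a) (c.tw b) = Cfsg.classInner a b :=
  inner_twist c.C a b

theorem inner_tw_left (a b : K → ℂ) :
    Cfsg.classInner (c.tw a) b = Cfsg.classInner a (c.tw b) := inner_twist_comm c.C a b

theorem tw_φ (a : K → ℂ) (m : M36) : c.tw a (c.φ m) = a (c.φ m) * (par m : ℂ) := by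
  rw [tw, c.sgn_φ]

/-- The constant one. -/
noncomputable def u1 : K → ℂ := fun _ => 1

theorem u1_sirr : SIrr (u1 (K := K)) := SIrr.one

theorem tw_u1 : c.tw u1 = c.sgn := funext fun x => by simp [tw, u1]

theorem orth_sgn : Cfsg.classInner u1 (c.tw u1) = 0 := by
  rcases (u1_sirr (K := K)).inner_cases (SIrr.twist c.index_two u1_sirr) with h | ⟨-, h⟩ | ⟨-, h⟩
  · exact h
  · have := congrFun h (c.φ (1, .sr 0))
    change u1 (c.φ (1, .sr 0)) = c.tw u1 (c.φ (1, .sr 0)) at this
    rw [c.tw_φ, show par (1, .sr 0) = -1 from rfl] at this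
    norm_num [u1] at this
  · have := congrFun h (c.φ 1)
    change u1 (c.φ 1) = -(c.tw u1 (c.φ 1)) at this
    rw [c.tw_φ, show par 1 = 1 from rfl] at this
    norm_num [u1] at this

section Inner

theorem AA : Cfsg.classInner c.ΦA c.ΦA = 3 :=
  c.inner_Φ_int fA (isClassFunction_of_isGen c.ΦA_gen) fA (fun m _ => c.ΦA_φ m) 3 (by decide +kernel)

theorem BB : Cfsg.classInner c.ΦB c.ΦB = 3 :=
  c.inner_Φ_int fB (isClassFunction_of_isGen c.ΦB_gen) fB (fun m _ => c.ΦB_φ m) 3 (by decide +kernel)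

theorem A1 : Cfsg.classInner c.ΦA u1 = 1 := by
  simpa [ΦA] using c.inner_Φ_int fA (isClassFunction_of_isGen (u1_sirr (K := K)).1) (fun _ => 1)
    (fun m _ => by simp [u1]) 1 (by decide +kernel)

theorem B1 : Cfsg.classInner c.ΦB u1 = 1 := by
  simpa [ΦB] using c.inner_Φ_int fB (isClassFunction_of_isGen (u1_sirr (K := K)).1) (fun _ => 1)
    (fun m _ => by simp [u1]) 1 (by decide +kernel)

theorem As : Cfsg.classInner c.ΦA (c.tw u1) = 0 := by
  simpa [ΦA] using c.inner_Φ_int fA (isClassFunction_of_isGen (c.tw_gen (u1_sirr (K := K)).1)) par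
    (fun m _ => by rw [c.tw_φ]; simp [u1]) 0 (by decide +kernel)

theorem Bs : Cfsg.classInner c.ΦB (c.tw u1) = 0 := by
  simpa [ΦB] using c.inner_Φ_int fB (isClassFunction_of_isGen (c.tw_gen (u1_sirr (K := K)).1)) par
    (fun m _ => by rw [c.tw_φ]; simp [u1]) 0 (by decide +kernel)

theorem AAs : Cfsg.classInner c.ΦA (c.tw c.ΦA) = 0 := by
  simpa [ΦA] using c.inner_Φ_int fA (isClassFunction_of_isGen (c.tw_gen c.ΦA_gen))
    (fun m => fA m * par m) (fun m _ => by rw [c.tw_φ, c.ΦA_φ]; push_cast; ring) 0 (by decide +kernel)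

theorem BBs : Cfsg.classInner c.ΦB (c.tw c.ΦB) = 0 := by
  simpa [ΦB] using c.inner_Φ_int fB (isClassFunction_of_isGen (c.tw_gen c.ΦB_gen))
    (fun m => fB m * par m) (fun m _ => by rw [c.tw_φ, c.ΦB_φ]; push_cast; ring) 0 (by decide +kernel)

theorem ABs : Cfsg.classInner c.ΦA (c.tw c.ΦB) = 1 := by
  simpa [ΦA] using c.inner_Φ_int fA (isClassFunction_of_isGen (c.tw_gen c.ΦB_gen))
    (fun m => fB m * par m) (fun m _ => by rw [c.tw_φ, c.ΦB_φ]; push_cast; ring) 1 (by decide +kernel)

theorem AB : Cfsg.classInner c.ΦA c.ΦB = 1 := by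
  simpa [ΦA] using c.inner_Φ_int fA (isClassFunction_of_isGen c.ΦB_gen) fB (fun m _ => c.ΦB_φ m) 1
    (by decide +kernel)

end Inner

theorem sym0 {a b : K → ℂ} (h : Cfsg.classInner a b = 0) : Cfsg.classInner b a = 0 := by
  rw [classInner_conj_symm, h, map_zero]

/-- Two orthogonal constituents whose sum is orthogonal to its twist. -/
theorem twist_pair {a b : K → ℂ} (ha : SIrr a) (hb : SIrr b) (hab : Cfsg.classInner a b = 0)
    (h : Cfsg.classInner (a + b) (c.tw (a + b)) = 0) :
    Cfsg.classInner a (c.tw a) = 0 ∧ Cfsg.classInner a (c.tw b) = 0 ∧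
      Cfsg.classInner b (c.tw b) = 0 := by
  rw [c.tw_add, classInner_add_left, classInner_add_right, classInner_add_right] at h
  have hq : Cfsg.classInner b (c.tw a) = conj (Cfsg.classInner a (c.tw b)) := by
    rw [← classInner_conj_symm, c.inner_tw_left]
  rw [hq] at h
  rcases ha.inner_cases (SIrr.twist c.index_two hb) with e | ⟨e, hab'⟩ | ⟨e, hab'⟩
  · change Cfsg.classInner a (c.tw b) = 0 at e
    rw [e, map_zero, add_zero, zero_add] at h
    rcases ha.inner_cases (SIrr.twist c.index_two ha) with p | ⟨p, -⟩ | ⟨p, -⟩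
    · change Cfsg.classInner a (c.tw a) = 0 at p
      rw [p, zero_add] at h
      exact ⟨p, e, h⟩
    · change Cfsg.classInner a (c.tw a) = 1 at p
      rw [p] at h
      refine absurd ?_ (hb.twist_ne_neg_one c.index_two)
      change Cfsg.classInner b (c.tw b) = -1
      linear_combination h
    · exact absurd p (ha.twist_ne_neg_one c.index_two)
  all_goals
    change Cfsg.classInner a (c.tw b) = _ at e
  · have e1 : c.tw a = b := by rw [hab']; exact c.tw_tw b
    rw [e1, hab, e, map_one, show c.tw b = a from hab'.symm, sym0 hab] at h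
    norm_num at h
  · have hab2 : c.tw b = -a := by rw [hab', neg_neg]; rfl
    have e1 : c.tw a = -b := by
      rw [hab']
      funext x
      simp [tw, mul_assoc, sgn, signChar_sq]
    rw [e1, e, hab2, map_neg, map_one, show -b = (-1 : ℂ) • b by simp,
      show -a = (-1 : ℂ) • a by simp, classInner_smul_right, classInner_smul_right, hab,
      sym0 hab] at h
    norm_num at h

/-- The constituents and their orthogonality. -/
theorem exists_family : ∃ a b d : K → ℂ, SIrr a ∧ SIrr b ∧ SIrr d ∧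
    c.ΦA = u1 + a + b ∧ c.tw c.ΦB = c.tw u1 + a + d ∧ Cfsg.classInner c.ΦB a = 0 ∧
    ∃ e : Fin (4 + 4) → K → ℂ, e = Fin.append ![u1, a, b, d] (fun i => c.tw (![u1, a, b, d] i)) ∧
      (∀ i, SIrr (e i)) ∧ Pairwise fun i j => Cfsg.classInner (e i) (e j) = 0 := by
  have hu := u1_sirr (K := K)
  have h1s : Cfsg.classInner (c.tw u1) u1 = 0 := sym0 c.orth_sgn
  have hA1 : Cfsg.classInner u1 c.ΦA = 1 := by rw [classInner_conj_symm, c.A1, map_one]
  have hB1 : Cfsg.classInner u1 c.ΦB = 1 := by rw [classInner_conj_symm, c.B1, map_one]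
  have θθ : Cfsg.classInner (c.ΦA - u1) (c.ΦA - u1) = 2 := by
    rw [classInner_sub_left, classInner_sub_right, classInner_sub_right, c.AA, c.A1, hA1, hu.2]
    norm_num
  have ηη : Cfsg.classInner (c.tw c.ΦB - c.tw u1) (c.tw c.ΦB - c.tw u1) = 2 := by
    rw [classInner_sub_left, classInner_sub_right, classInner_sub_right, c.inner_tw, c.inner_tw,
      c.inner_tw, c.inner_tw, c.BB, c.B1, hB1, hu.2]
    norm_num
  have h1sB : Cfsg.classInner u1 (c.tw c.ΦB) = 0 := by
    rw [← c.inner_tw_left]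
    exact sym0 c.Bs
  have θη : Cfsg.classInner (c.ΦA - u1) (c.tw c.ΦB - c.tw u1) = 1 := by
    rw [classInner_sub_left, classInner_sub_right, classInner_sub_right, c.ABs, c.As, h1sB,
      c.orth_sgn]
    norm_num
  obtain ⟨a, b, d, ha, hb, hd, hab, had, hbd, eθ, eη⟩ := exists_share (isGen_sub c.ΦA_gen hu.1)
    (isGen_sub (c.tw_gen c.ΦB_gen) (c.tw_gen hu.1)) θθ ηη θη
  have eA : c.ΦA = u1 + a + b := by rw [add_assoc, ← eθ, add_sub_cancel]
  have eB : c.tw c.ΦB = c.tw u1 + a + d := by rw [add_assoc, ← eη, add_sub_cancel]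
  -- orthogonality to the linear characters
  have o1 := hu.orth_pair ha hb hab (by
    rw [← eθ, classInner_sub_right, hA1, hu.2, sub_self])
  have o2 := (SIrr.twist c.index_two hu).orth_pair ha hb hab (by
    rw [← eθ]
    change Cfsg.classInner (c.tw u1) (c.ΦA - u1) = 0
    rw [classInner_sub_right, sym0 c.As, h1s, sub_self])
  have o3 := hu.orth_pair ha hd had (by
    rw [← eη, classInner_sub_right, h1sB, c.orth_sgn, sub_self])
  have o4 := (SIrr.twist c.index_two hu).orth_pair ha hd had (by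
    rw [← eη]
    change Cfsg.classInner (c.tw u1) (c.tw c.ΦB - c.tw u1) = 0
    rw [classInner_sub_right, c.inner_tw, c.inner_tw, hB1, hu.2, sub_self])
  -- twists
  have θsθ : Cfsg.classInner (a + b) (c.tw (a + b)) = 0 := by
    rw [← eθ, c.tw_sub, classInner_sub_left, classInner_sub_right, classInner_sub_right,
      c.AAs, c.As, ← c.inner_tw_left, sym0 c.As, c.orth_sgn]
    norm_num
  have ηsη : Cfsg.classInner (a + d) (c.tw (a + d)) = 0 := by
    rw [← eη, c.tw_sub, c.tw_tw, c.tw_tw, classInner_sub_left, classInner_sub_right,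
      classInner_sub_right, c.inner_tw_left, c.inner_tw_left, c.inner_tw_left, c.inner_tw_left,
      c.BBs, c.Bs, h1sB, c.orth_sgn]
    norm_num
  have θsη : Cfsg.classInner (a + b) (c.tw (a + d)) = 0 := by
    rw [← eθ, ← eη, c.tw_sub, c.tw_tw, c.tw_tw, classInner_sub_left, classInner_sub_right,
      classInner_sub_right, c.AB, c.A1, hB1, hu.2]
    norm_num
  obtain ⟨paa, pab, pbb⟩ := c.twist_pair ha hb hab θsθ
  obtain ⟨-, pad, pdd⟩ := c.twist_pair ha hd had ηsη
  have pba : Cfsg.classInner b (c.tw a) = 0 := by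
    rw [← c.inner_tw_left]; exact sym0 pab
  have pbd : Cfsg.classInner b (c.tw d) = 0 := by
    rw [c.tw_add, classInner_add_left, classInner_add_right, classInner_add_right, paa, pad,
      pba] at θsη
    simpa using θsη
  refine ⟨a, b, d, ha, hb, hd, eA, eB, ?_, _, rfl, ?_, ?_⟩
  · have : c.ΦB = u1 + c.tw a + c.tw d := by
      have := congrArg c.tw eB
      rwa [c.tw_tw, c.tw_add, c.tw_add, c.tw_tw] at this
    rw [this, classInner_add_left, classInner_add_left, o1.1, c.inner_tw_left, paa,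
      c.inner_tw_left, sym0 (show Cfsg.classInner (c.tw a) d = 0 by rw [c.inner_tw_left]; exact pad)]
    norm_num
  · have hv : ∀ i, SIrr (![u1, a, b, d] i) := by
      intro i; fin_cases i <;> assumption
    intro i
    refine Fin.addCases (fun i => ?_) (fun i => ?_) i
    · rw [Fin.append_left]; exact hv i
    · rw [Fin.append_right]; exact SIrr.twist c.index_two (hv i)
  · have hbase : ∀ i j, i ≠ j → Cfsg.classInner (![u1, a, b, d] i) (![u1, a, b, d] j) = 0 := by
      intro i j hij
      fin_cases i <;> fin_cases j <;>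
        first
          | exact absurd rfl hij
          | exact o1.1
          | exact o1.2
          | exact o3.2
          | exact hab
          | exact had
          | exact hbd
          | exact sym0 o1.1
          | exact sym0 o1.2
          | exact sym0 o3.2
          | exact sym0 hab
          | exact sym0 had
          | exact sym0 hbd
    have hcross : ∀ i j, Cfsg.classInner (![u1, a, b, d] i) (c.tw (![u1, a, b, d] j)) = 0 := by
      have flip : ∀ {p q : K → ℂ}, Cfsg.classInner p (c.tw q) = 0 →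
          Cfsg.classInner q (c.tw p) = 0 := fun h => by
        rw [← c.inner_tw_left]; exact sym0 h
      have q1 : Cfsg.classInner u1 (c.tw a) = 0 := by rw [← c.inner_tw_left]; exact o2.1
      have q2 : Cfsg.classInner u1 (c.tw b) = 0 := by rw [← c.inner_tw_left]; exact o2.2
      have q3 : Cfsg.classInner u1 (c.tw d) = 0 := by rw [← c.inner_tw_left]; exact o4.2
      intro i j
      fin_cases i <;> fin_cases j <;>
        first
          | exact c.orth_sgn
          | exact q1
          | exact q2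
          | exact q3
          | exact paa
          | exact pab
          | exact pbb
          | exact pad
          | exact pdd
          | exact pbd
          | exact flip q1
          | exact flip q2
          | exact flip q3
          | exact flip pab
          | exact flip pad
          | exact flip pbd
    intro i j hij
    revert hij
    refine Fin.addCases (fun i => ?_) (fun i => ?_) i <;>
      refine Fin.addCases (fun j => ?_) (fun j => ?_) j <;> intro hij <;>
      simp only [Fin.append_left, Fin.append_right]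
    · exact hbase i j fun e => hij (by rw [e])
    · exact hcross i j
    · exact sym0 (hcross j i)
    · rw [c.inner_tw]; exact hbase i j fun e => hij (by rw [e])

theorem cent_card (m : M36) (n : ℕ) (hm : m ^ 4 ≠ 1)
    (hn : Fintype.card {y : M36 // y * m = m * y} = n) :
    Nat.card (Subgroup.centralizer ({c.φ m} : Set K)) = n := by
  have hmem : ∀ x : K, x * c.φ m = c.φ m * x → ∃ y, y * m = m * y ∧ c.φ y = x := by
    intro x hx
    obtain ⟨y, rfl⟩ := c.fus (m ^ 4) (m ^ 4) hm (pow_data m) x (by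
      rw [map_pow, ← conj_pow, hx, mul_inv_cancel_right])
    exact ⟨y, c.inj (by rw [map_mul, map_mul, hx]), rfl⟩
  rw [← hn, ← Nat.card_eq_fintype_card]
  refine (Nat.card_congr (Equiv.ofBijective
    (fun y : {y : M36 // y * m = m * y} => (⟨c.φ y.1, Subgroup.mem_centralizer_singleton_iff.2
      (by rw [← map_mul, ← map_mul, y.2])⟩ : Subgroup.centralizer ({c.φ m} : Set K)))
    ⟨fun y y' h => Subtype.ext (c.inj (congrArg Subtype.val h)), fun x => ?_⟩)).symm
  obtain ⟨y, hy, hyx⟩ := hmem x (Subgroup.mem_centralizer_singleton_iff.1 x.2)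
  exact ⟨⟨y, hy⟩, Subtype.ext hyx⟩

/-- The involutions of the two factors are not conjugate. -/
theorem not_conj_flip (i : ZMod 3) (x : K) :
    x * c.φ (1, .sr 0) * x⁻¹ ≠ c.φ (.sr i, 1) := by
  intro hx
  set T : Subgroup K := Subgroup.centralizer ({c.φ (1, .sr 0)} : Set K) with hT
  have hd : c.φ (.r 1, 1) ∈ T := Subgroup.mem_centralizer_singleton_iff.2 (by
    rw [← map_mul, ← map_mul]; rfl)
  set l : K := x⁻¹ * c.φ (1, .r 1) * x with hl
  have hlT : l ∈ T := Subgroup.mem_centralizer_singleton_iff.2 (by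
    have h1 : c.φ (1, .r 1) * c.φ (.sr i, 1) = c.φ (.sr i, 1) * c.φ (1, .r 1) := by
      rw [← map_mul, ← map_mul]
      congr 1
      exact Prod.ext (by simp) (by simp)
    rw [← hx] at h1
    calc l * c.φ (1, .sr 0) = x⁻¹ * (c.φ (1, .r 1) * (x * c.φ (1, .sr 0) * x⁻¹)) * x := by
          rw [hl]; group
      _ = c.φ (1, .sr 0) * l := by rw [h1, hl]; group)
  set D : Subgroup T := Subgroup.zpowers (⟨_, hd⟩ : T) with hD
  have hord : ∀ (y : M36) (k : K), y * y * y = 1 → y ≠ 1 → k * k * k = c.φ (y * y * y) →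
      k ≠ 1 → orderOf k = 3 := fun y k hy _ hk hk1 =>
    orderOf_eq_prime (by rw [pow_succ, pow_two, hk, hy, map_one]) hk1
  have hd3 : orderOf (⟨_, hd⟩ : T) = 3 := by
    rw [← Subgroup.orderOf_coe]
    exact hord (.r 1, 1) _ (by decide) (by decide) (by rw [map_mul, map_mul])
      (fun h => absurd (c.inj (h.trans (map_one _).symm)) (by decide))
  have hl3 : orderOf (⟨l, hlT⟩ : T) = 3 := by
    rw [← Subgroup.orderOf_coe]
    refine hord (1, .r 1) _ (by decide) (by decide) ?_ fun h => ?_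
    · change l * l * l = _
      rw [show ((1, .r 1) : M36) * (1, .r 1) * (1, .r 1) = 1 from by decide, map_one, hl]
      calc x⁻¹ * c.φ (1, .r 1) * x * (x⁻¹ * c.φ (1, .r 1) * x) * (x⁻¹ * c.φ (1, .r 1) * x)
          = x⁻¹ * c.φ ((1, .r 1) * (1, .r 1) * (1, .r 1)) * x := by
            rw [map_mul, map_mul]; group
        _ = 1 := by
            rw [show ((1, .r 1) : M36) * (1, .r 1) * (1, .r 1) = 1 from by decide, map_one, mul_one,
              inv_mul_cancel]
    · change l = 1 at h
      rw [hl] at h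
      refine absurd (c.inj (a₁ := ((1, .r 1) : M36)) (a₂ := 1) ?_) (by decide)
      rw [map_one, show c.φ (1, .r 1) = x * (x⁻¹ * c.φ (1, .r 1) * x) * x⁻¹ by group, h, mul_one,
        mul_inv_cancel]
  have hD3 : IsPGroup 3 D := IsPGroup.of_card (n := 1) (by rw [hD, Nat.card_zpowers, hd3, pow_one])
  obtain ⟨P, hP⟩ := hD3.exists_le_sylow
  have hPd : (⟨_, hd⟩ : T) ∈ (P : Subgroup T) := hP (Subgroup.mem_zpowers _)
  -- a central element of the Sylow subgroup is a power of `d`
  have hPD : (P : Subgroup T) ≤ D := by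
    haveI : Nontrivial (P : Subgroup T) := ⟨⟨⟨_, hPd⟩, 1, fun h => by
      have := congrArg (fun z : (P : Subgroup T) => orderOf (z : T)) h
      simp [hd3] at this⟩⟩
    haveI := P.isPGroup'.center_nontrivial
    obtain ⟨⟨z, hz⟩, hz1⟩ := exists_ne (1 : Subgroup.center (P : Subgroup T))
    have key : ∀ q : T, q * ⟨_, hd⟩ = ⟨_, hd⟩ * q → q ^ (3 ^ (Nat.log 3 (Nat.card T) + 1)) = 1 →
        q ∈ D := by
      intro q hq hq3
      have hq' : (q : K) * c.φ (.r 1, 1) = c.φ (.r 1, 1) * (q : K) := congrArg Subtype.val hq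
      obtain ⟨y, hy⟩ := c.fus (.r 1, 1) (.r 1, 1) (by decide) (by decide) q (by
        rw [hq', mul_inv_cancel_right])
      have hyT : y * (1, .sr 0) = (1, .sr 0) * y := c.inj (by
        rw [map_mul, map_mul, hy]; exact Subgroup.mem_centralizer_singleton_iff.1 q.2)
      have hy3 : y ^ (3 ^ (Nat.log 3 (Nat.card T) + 1)) = 1 := c.inj (by
        rw [map_pow, hy, ← Subgroup.coe_pow, hq3, map_one, Subgroup.coe_one])
      have hy6 : y ^ 6 = 1 := (show ∀ y : M36, y ^ 6 = 1 by decide +kernel) y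
      have : y ^ 3 = 1 := by
        have h := pow_gcd_eq_one.2 ⟨hy6, hy3⟩
        have hg : Nat.gcd 6 (3 ^ (Nat.log 3 (Nat.card T) + 1)) = 3 := by
          rw [pow_succ, show 6 = 2 * 3 from rfl, Nat.gcd_mul_right,
            Nat.Coprime.pow_right _ (by norm_num : Nat.Coprime 2 3), one_mul]
        rwa [hg] at h
      have hcases := (show ∀ y : M36, y * (1, .sr 0) = (1, .sr 0) * y → y ^ 3 = 1 →
        y = 1 ∨ y = (.r 1, 1) ∨ y = (.r 1, 1) * (.r 1, 1) by decide +kernel) y hyT this
      have hq_eq : ∀ z : T, (z : K) = c.φ y → q = z := fun z hz => Subtype.ext (hy.symm.trans hz.symm)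
      rcases hcases with rfl | rfl | rfl
      · rw [hq_eq 1 (by simp)]; exact one_mem _
      · rw [hq_eq ⟨_, hd⟩ rfl]; exact Subgroup.mem_zpowers _
      · rw [hq_eq (⟨_, hd⟩ * ⟨_, hd⟩) (by rw [Subgroup.coe_mul, map_mul])]
        exact mul_mem (Subgroup.mem_zpowers _) (Subgroup.mem_zpowers _)
    have hexp : ∀ q ∈ (P : Subgroup T), q ^ (3 ^ (Nat.log 3 (Nat.card T) + 1)) = 1 := by
      intro q hq
      obtain ⟨k, hk⟩ := IsPGroup.iff_card.1 P.isPGroup'
      have hkle : k ≤ Nat.log 3 (Nat.card T) :=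
        Nat.le_log_of_pow_le (by norm_num) (hk ▸ Subgroup.card_le_card_group _)
      have h1 : q ^ (3 ^ k) = 1 := by
        have := pow_card_eq_one' (x := (⟨q, hq⟩ : (P : Subgroup T)))
        rw [hk] at this
        exact congrArg Subtype.val this
      obtain ⟨e, he⟩ := Nat.pow_dvd_pow 3 (hkle.trans (Nat.le_succ _))
      rw [he, pow_mul, h1, one_pow]
    have hzc : ∀ q ∈ (P : Subgroup T), q * (z : T) = (z : T) * q := fun q hq =>
      congrArg Subtype.val (Subgroup.mem_center_iff.1 hz ⟨q, hq⟩)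
    have hzD : (z : T) ∈ D := key _ (hzc _ hPd).symm (hexp _ z.2)
    intro q hq
    refine key q ?_ (hexp q hq)
    -- `d` is a power of the central element
    have hz' : (z : T) ≠ 1 := fun h => hz1 (Subtype.ext (Subtype.ext h))
    obtain ⟨j, hj⟩ := Subgroup.mem_zpowers_iff.1 hzD
    have hgen : Subgroup.zpowers (z : T) = D := by
      refine Subgroup.eq_of_le_of_card_ge (Subgroup.zpowers_le.2 hzD) ?_
      have hd0 : (⟨_, hd⟩ : T) ^ 3 = 1 := by
        have h := pow_orderOf_eq_one (⟨_, hd⟩ : T)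
        rwa [hd3] at h
      have h3 : orderOf (z : T) = 3 := orderOf_eq_prime (by
        rw [← hj, ← zpow_natCast, ← zpow_mul, mul_comm, zpow_mul, zpow_natCast, hd0, one_zpow]) hz'
      rw [hD, Nat.card_zpowers, Nat.card_zpowers, h3, hd3]
    have hmz : (⟨_, hd⟩ : T) ∈ Subgroup.zpowers (z : T) := by
      rw [hgen]; exact Subgroup.mem_zpowers _
    obtain ⟨i, hi⟩ := Subgroup.mem_zpowers_iff.1 hmz
    rw [← hi]
    exact ((show Commute q (z : T) from hzc q hq).zpow_right i).eq
  have hL3 : IsPGroup 3 (Subgroup.zpowers (⟨l, hlT⟩ : T)) :=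
    IsPGroup.of_card (n := 1) (by rw [Nat.card_zpowers, hl3, pow_one])
  obtain ⟨Q, hQ⟩ := hL3.exists_le_sylow
  obtain ⟨g, hg⟩ := MulAction.exists_smul_eq T Q P
  have hmem : g * ⟨l, hlT⟩ * g⁻¹ ∈ D := hPD (by
    rw [← hg]
    exact ⟨⟨l, hlT⟩, hQ (Subgroup.mem_zpowers _), by simp [MulAut.conj_apply]⟩)
  obtain ⟨n, hn⟩ := Subgroup.mem_zpowers_iff.1 hmem
  have hn' : (g : K) * x⁻¹ * c.φ (1, .r 1) * ((g : K) * x⁻¹)⁻¹ = c.φ ((.r 1, 1) ^ n) := by
    rw [map_zpow]
    have := congrArg Subtype.val hn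
    simp only [SubgroupClass.coe_zpow, Subgroup.coe_mul, InvMemClass.coe_inv] at this
    rw [this, hl]
    group
  obtain ⟨y, hy⟩ := c.fus _ _ (by decide) (by decide) _ hn'
  rw [← hy, ← map_inv, ← map_mul, ← map_mul] at hn'
  have h1 := c.inj hn'
  have h2 : ((.r 1, 1) : M36) ^ n = 1 ∨ ((.r 1, 1) : M36) ^ n = (.r 1, 1) ∨
      ((.r 1, 1) : M36) ^ n = (.r 2, 1) := by
    rw [zpow_eq_zpow_emod' n (show ((.r 1, 1) : M36) ^ 3 = 1 by decide)]
    rcases (show n % (3 : ℕ) = 0 ∨ n % (3 : ℕ) = 1 ∨ n % (3 : ℕ) = 2 by omega) with h | h | h <;>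
      rw [h] <;> decide
  have h3 := (show ∀ y : M36, y * (1, .r 1) * y⁻¹ ≠ 1 ∧ y * (1, .r 1) * y⁻¹ ≠ (.r 1, 1) ∧
    y * (1, .r 1) * y⁻¹ ≠ (.r 2, 1) by decide +kernel) y
  rcases h2 with h2 | h2 | h2 <;> rw [h2] at h1 <;> simp [h1] at h3

/-- The values of the constituent `a`. -/
theorem val_eq {a b d : K → ℂ} (eA : c.ΦA = u1 + a + b) (eB : c.tw c.ΦB = c.tw u1 + a + d)
    (m : M36) : b (c.φ m) = (fA m : ℂ) - 1 - a (c.φ m) ∧
      d (c.φ m) = ((fB m * par m - par m : ℤ) : ℂ) - a (c.φ m) := by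
  have h1 := congrFun eA (c.φ m)
  have h2 := congrFun eB (c.φ m)
  simp only [Pi.add_apply, c.ΦA_φ, c.tw_φ, c.ΦB_φ, u1, one_mul] at h1 h2
  push_cast
  exact ⟨by linear_combination -h1, by linear_combination -h2⟩

/-- The end of the argument, given the linear character. -/
theorem range_eq_top_of_hom (ψ : K →* ℂˣ)
    (ψm : ∀ m : M36, ψ (c.φ m) = if isR m.1 then 1 else -1) : c.φ.range = ⊤ := by
  haveI := Subgroup.normal_of_index_eq_two c.index_two
  set C1 : Subgroup K := ψ.ker ⊓ c.C with hC1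
  haveI : C1.Normal := by rw [hC1]; infer_instance
  have hC1m : ∀ m, c.φ m ∈ C1 ↔ isW m = true := by
    intro m
    rw [hC1, Subgroup.mem_inf, MonoidHom.mem_ker, c.mem_C, ψm]
    by_cases h : isR m.1 = true
    · rw [if_pos h]
      simp [par, isW, h]
    · rw [if_neg h]
      simp only [Bool.not_eq_true] at h
      simp [isW, h, Units.ext_iff]
      norm_num
  set W : Subgroup K := C1 ⊓ c.φ.range with hW
  have hWcard : Nat.card W = 9 := by
    have : Nat.card W = Nat.card {m : M36 // isW m = true} := by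
      refine (Nat.card_congr (Equiv.ofBijective (fun m : {m : M36 // isW m = true} =>
        (⟨c.φ m.1, (hC1m m.1).2 m.2, ⟨m.1, rfl⟩⟩ : W)) ⟨fun x y h =>
          Subtype.ext (c.inj (congrArg Subtype.val h)), fun x => ?_⟩)).symm
      obtain ⟨m, hm⟩ := x.2.2
      exact ⟨⟨m, (hC1m m).1 (hm ▸ x.2.1)⟩, Subtype.ext hm⟩
    rw [this, Nat.card_eq_fintype_card]
    decide +kernel
  have hWdata : ∀ x ∈ W, ∃ m, isW m = true ∧ c.φ m = x := fun x hx => by
    obtain ⟨m, hm⟩ := hx.2
    exact ⟨m, (hC1m m).1 (hm ▸ hx.1), hm⟩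
  have hWab : IsMulCommutative W := ⟨⟨fun x y => Subtype.ext (by
    obtain ⟨m, hm, hx⟩ := hWdata x x.2
    obtain ⟨n, hn, hy⟩ := hWdata y y.2
    show (x : K) * y = y * x
    rw [← hx, ← hy, ← map_mul, ← map_mul,
      (show ∀ m n : M36, isW m = true → isW n = true → m * n = n * m by decide +kernel) m n hm hn])⟩⟩
  have hWfus : ∀ x ∈ W, x ≠ 1 → ∀ k : K, k * x * k⁻¹ ∈ W → k ∈ c.φ.range := by
    intro x hx hx1 k hk
    obtain ⟨m, hm, rfl⟩ := hWdata x hx
    obtain ⟨n, -, hn⟩ := hWdata _ hk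
    exact c.fus m n (fun h => hx1 (by rw [h, map_one]))
      ((show ∀ m : M36, isW m = true → m * m * m = 1 by decide +kernel) m hm) k hn.symm
  haveI : Nontrivial W := Finite.one_lt_card_iff_nontrivial.1 (by rw [hWcard]; norm_num)
  obtain ⟨⟨x0, hx0⟩, hx01⟩ := exists_ne (1 : W)
  have hx01' : x0 ≠ 1 := fun h => hx01 (Subtype.ext h)
  have hNW : ∀ k ∈ C1, k ∈ Subgroup.normalizer (W : Set K) → k ∈ W := fun k hk hn =>
    ⟨hk, hWfus x0 hx0 hx01' k ((Subgroup.mem_normalizer_iff.1 hn x0).1 hx0)⟩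
  have hC1W : C1 ≤ W := by
    set P : Subgroup C1 := W.subgroupOf C1 with hP
    have hPc : Nat.card P = 9 := by
      rw [hP, Nat.card_congr (Subgroup.subgroupOfEquivOfLe inf_le_left).toEquiv, hWcard]
    have hnorm : ∀ k : C1, k ∈ Subgroup.normalizer (P : Set C1) → k ∈ P := by
      intro k hk
      refine Subgroup.mem_subgroupOf.2 (hNW k k.2 (Subgroup.mem_normalizer_fintype fun y hy => ?_))
      exact Subgroup.mem_subgroupOf.1
        ((Subgroup.mem_normalizer_iff.1 hk ⟨y, hy.1⟩).1 (Subgroup.mem_subgroupOf.2 hy))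
    obtain ⟨M0, hM0n, hcop, hdisj, htop⟩ := exists_normal_complement (p := 3) (P := P)
      (IsPGroup.of_card (n := 2) (by rw [hPc]; norm_num)) (fun k hk _ => hnorm k hk)
      (fun k hk => Subgroup.mem_centralizer_iff.2 fun y hy => Subtype.ext
        (congrArg Subtype.val (hWab.is_comm.comm (⟨y, Subgroup.mem_subgroupOf.1 hy⟩ : W)
          ⟨k, Subgroup.mem_subgroupOf.1 (hnorm k hk)⟩) : (y : K) * k = k * y))
    have hM0 : M0.map C1.subtype ≤ ⊥ := by
      refine Coprime.le_of_forall_inf_centralizer_le (A := W) ?_ ?_ ?_ ?_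
      · intro hcyc
        obtain ⟨⟨y, hy⟩, hy'⟩ := hcyc.exists_generator
        have h3 : (⟨y, hy⟩ : W) ^ 3 = 1 := Subtype.ext (by
          obtain ⟨m, hm, rfl⟩ := hWdata y hy
          push_cast
          rw [← map_pow, (show ∀ m : M36, isW m = true → m ^ 3 = 1 by decide +kernel) m hm, map_one])
        have h9 := orderOf_dvd_of_pow_eq_one h3
        rw [orderOf_eq_card_of_forall_mem_zpowers hy', hWcard] at h9
        norm_num at h9
      · intro k hk
        refine Subgroup.mem_normalizer_fintype ?_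
        rintro _ ⟨y, hy, rfl⟩
        exact ⟨⟨k, hk.1⟩ * y * ⟨k, hk.1⟩⁻¹,
          hM0n.conj_mem y hy _, by simp⟩
      · rw [hWcard, Subgroup.card_map_of_injective C1.subtype_injective, show 9 = 3 ^ 2 from rfl]
        exact Nat.Coprime.pow_left 2 ((Nat.Prime.coprime_iff_not_dvd Nat.prime_three).2 hcop)
      · intro x hx hx1 y hy
        obtain ⟨⟨z, hz, rfl⟩, hy2⟩ := Subgroup.mem_inf.1 hy
        have hyW : (z : K) ∈ W := ⟨z.2, hWfus x hx hx1 z (by
          rw [Subgroup.coe_subtype] at hy2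
          rwa [Subgroup.mem_centralizer_singleton_iff.1 hy2, mul_inv_cancel_right])⟩
        have hmem : z ∈ M0 ⊓ P := Subgroup.mem_inf.2 ⟨hz, Subgroup.mem_subgroupOf.2 hyW⟩
        rw [hdisj, Subgroup.mem_bot] at hmem
        rw [Subgroup.mem_bot, hmem]
        exact map_one _
    intro k hk
    have : M0 = ⊥ := (Subgroup.map_eq_bot_iff_of_injective _ C1.subtype_injective).1 (le_bot_iff.1 hM0)
    rw [this, bot_sup_eq] at htop
    exact Subgroup.mem_subgroupOf.1 (htop ▸ Subgroup.mem_top (⟨k, hk⟩ : C1))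
  refine eq_top_iff.2 fun k _ => hWfus x0 hx0 hx01' k ?_
  have hk : k * x0 * k⁻¹ ∈ C1 := (inferInstance : C1.Normal).conj_mem _ hx0.1 k
  exact hC1W hk


/-- The group is the normaliser. -/
theorem range_eq_top : c.φ.range = ⊤ := by
  classical
  obtain ⟨a, b, d, ha, hb, hd, eA, eB, hBa, e, he, heS, horth⟩ := c.exists_family
  have val := c.val_eq eA eB
  have hpar : ∀ m, (par m : ℝ) * par m = 1 := fun m => by
    rw [← Int.cast_mul, (show ∀ m : M36, par m * par m = 1 by decide) m, Int.cast_one]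
  have hsumN : ∀ m, ∑ i, Complex.normSq (e i (c.φ m)) =
      2 * (1 + Complex.normSq (a (c.φ m)) + Complex.normSq (b (c.φ m)) +
        Complex.normSq (d (c.φ m))) := by
    intro m
    have hp : Complex.normSq (par m : ℂ) = 1 := by
      rw [show ((par m : ℤ) : ℂ) = ((par m : ℝ) : ℂ) by simp, Complex.normSq_ofReal, hpar]
    rw [he, Fin.sum_univ_add]
    simp only [Fin.append_left, Fin.append_right, Fin.sum_univ_four, c.tw_φ, map_mul, hp, mul_one,
      Matrix.cons_val_zero, Matrix.cons_val_one, Matrix.cons_val, u1, map_one]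
    ring
  -- the three columns
  set g : M36 := (.r 1, .sr 0) with hg
  have ag : a (c.φ g) = 1 := by
    have hle := column_le e heS horth (c.φ g)
    rw [hsumN, c.cent_card g 6 (by decide) (by decide +kernel), (val g).1, (val g).2,
      show fA g = 3 from rfl, show fB g * par g - par g = 1 from rfl] at hle
    simp only [Complex.normSq_apply, Complex.sub_re, Complex.sub_im, Int.cast_ofNat, Int.cast_one,
      Complex.one_re, Complex.one_im, Complex.re_ofNat, Complex.im_ofNat, Nat.cast_ofNat] at hle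
    refine Complex.ext ?_ ?_ <;> simp only [Complex.one_re, Complex.one_im] <;>
      nlinarith [sq_nonneg ((a (c.φ g)).re - 1), sq_nonneg (a (c.φ g)).im]
  have adl : a (c.φ (.r 1, .r 1)) = 1 := by
    obtain ⟨z, hz⟩ := ha.int_value (x := c.φ (.r 1, .r 1))
      (by rw [← map_mul, ← map_mul, ← map_one c.φ]; congr 1)
      (fun h => absurd (c.inj (h.trans (map_one _).symm)) (by decide))
      (isConj_iff.2 ⟨c.φ (.sr 0, .sr 0), by
        rw [← map_mul, ← map_inv, ← map_mul, ← map_inv]; congr 1⟩)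
    have hle := column_le e heS horth (c.φ (.r 1, .r 1))
    rw [hsumN, c.cent_card _ 9 (by decide) (by decide +kernel), (val _).1, (val _).2,
      show fA (.r 1, .r 1) = 3 from rfl,
      show fB (.r 1, .r 1) * par (.r 1, .r 1) - par (.r 1, .r 1) = 2 from rfl, hz] at hle
    simp only [Complex.normSq_apply, Complex.sub_re, Complex.sub_im, Int.cast_ofNat,
      Complex.re_ofNat, Complex.im_ofNat, Complex.one_re, Complex.one_im, Complex.intCast_re,
      Complex.intCast_im, Nat.cast_ofNat] at hle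
    have h1 : (z : ℝ) < 2 := by nlinarith
    have h2 : (0 : ℝ) < z := by nlinarith
    have : z = 1 := by
      have h1' : z < 2 := by exact_mod_cast h1
      have h2' : 0 < z := by exact_mod_cast h2
      omega
    rw [hz, this, Int.cast_one]
  have at3 : a (c.φ (.sr 0, .r 1)) = -1 := by
    have hle := column_le e heS horth (c.φ (.sr 0, .r 1))
    rw [hsumN, c.cent_card _ 6 (by decide) (by decide +kernel), (val _).1, (val _).2,
      show fA (.sr 0, .r 1) = 0 from rfl,
      show fB (.sr 0, .r 1) * par (.sr 0, .r 1) - par (.sr 0, .r 1) = -2 from rfl] at hle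
    simp only [Complex.normSq_apply, Complex.sub_re, Complex.sub_im, Int.cast_zero, Int.cast_neg,
      Int.cast_ofNat, Complex.neg_re, Complex.neg_im, Complex.re_ofNat, Complex.im_ofNat,
      Complex.one_re, Complex.one_im, Complex.zero_re, Complex.zero_im, Nat.cast_ofNat] at hle
    refine Complex.ext ?_ ?_ <;> simp only [Complex.neg_re, Complex.neg_im, Complex.one_re,
      Complex.one_im] <;>
      nlinarith [sq_nonneg ((a (c.φ (.sr 0, .r 1))).re + 1), sq_nonneg (a (c.φ (.sr 0, .r 1))).im]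
  -- no products
  set u : M36 := (.sr 0, .sr 0) with hu'
  set w : M36 := (1, .sr 0) with hw'
  haveI : IsEmpty {y : K // IsConj (c.φ u) y ∧ IsConj (c.φ w) (y⁻¹ * c.φ g)} := by
    refine ⟨fun ⟨y, hy1, hy2⟩ => ?_⟩
    obtain ⟨p, rfl⟩ := isConj_iff.1 hy1
    obtain ⟨q, hq⟩ := isConj_iff.1 hy2
    set y := p * c.φ u * p⁻¹ with hy
    have hyy : y * y = 1 := by
      rw [hy, show p * c.φ u * p⁻¹ * (p * c.φ u * p⁻¹) = p * (c.φ u * c.φ u) * p⁻¹ by group,
        ← map_mul, show u * u = 1 from rfl, map_one, mul_one, mul_inv_cancel]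
    have hyi : y⁻¹ = y := inv_eq_of_mul_eq_one_right hyy
    have hq' : q * c.φ w * q⁻¹ = y * c.φ g := by rw [hq, hyi]
    have hz : y * c.φ g * (y * c.φ g) = 1 := by
      rw [← hq', show q * c.φ w * q⁻¹ * (q * c.φ w * q⁻¹) = q * (c.φ w * c.φ w) * q⁻¹ by
        group, ← map_mul, show w * w = 1 from rfl, map_one, mul_one, mul_inv_cancel]
    have hinv : y * c.φ g * y⁻¹ = c.φ g⁻¹ := by
      rw [hyi, map_inv]
      exact eq_inv_of_mul_eq_one_left (by rw [← hz]; group)
    obtain ⟨m, hm⟩ := c.fus (g ^ 4) (g⁻¹ ^ 4) (by decide) (pow_data g) y (by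
      rw [map_pow, map_pow, ← conj_pow, hinv])
    have hm1 : m * m = 1 := c.inj (by rw [map_mul, hm, hyy, map_one])
    have hm2 : m * g * (m * g) = 1 := c.inj (by rw [map_mul, map_mul, hm, hz, map_one])
    have hC : y ∈ c.C := by
      haveI := Subgroup.normal_of_index_eq_two c.index_two
      exact Subgroup.Normal.conj_mem inferInstance _ ((c.mem_C u).2 rfl) p
    have hp := (c.mem_C m).1 (hm ▸ hC)
    have hcase := (show ∀ m : M36, m * m = 1 → m * g * (m * g) = 1 → par m = 1 →
      ∃ i, m * g = (.sr i, 1) by decide +kernel) m hm1 hm2 hp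
    obtain ⟨i, hi⟩ := hcase
    refine c.not_conj_flip i q ?_
    rw [← hi, map_mul, hm, hq, hyi]
  have heq := pairs_of_column e heS horth (c.φ g) (by
    rw [hsumN, c.cent_card g 6 (by decide) (by decide +kernel), (val g).1, (val g).2, ag,
      show fA g = 3 from rfl, show fB g * par g - par g = 1 from rfl]
    norm_num) (c.φ u) (c.φ w)
  rw [(Nat.card_of_isEmpty : Nat.card {y : K // IsConj (c.φ u) y ∧ IsConj (c.φ w) (y⁻¹ * c.φ g)} = 0),
    Nat.cast_zero, mul_zero, eq_comm,
    mul_eq_zero, or_iff_right (Nat.cast_ne_zero.2 Nat.card_pos.ne'), he, Fin.sum_univ_add] at heq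
  simp only [Fin.append_left, Fin.append_right, Fin.sum_univ_four, Matrix.cons_val_zero,
    Matrix.cons_val_one, Matrix.cons_val, c.tw_φ, u1] at heq
  have e1 : ∀ f : K → ℂ, c.tw f 1 = f 1 := fun f => by
    rw [← map_one c.φ, c.tw_φ, show par 1 = 1 from rfl, Int.cast_one, mul_one]
  simp only [e1, show par u = 1 from rfl, show par w = -1 from rfl, show par g = -1 from rfl] at heq
  rw [(val g).1, (val g).2, (val u).1, (val w).1, (val u).2, (val w).2, ag,
    show b 1 = b (c.φ 1) by rw [map_one], (val 1).1, show a (c.φ 1) = a 1 by rw [map_one],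
    show fA g = 3 from rfl, show fB g * par g - par g = 1 from rfl, show fA u = 0 from rfl,
    show fA w = 0 from rfl, show fA 1 = 0 from rfl] at heq
  norm_num at heq
  have hb1 : -1 - a 1 ≠ 0 := by
    have := hb.one_ne_zero
    rwa [← map_one c.φ, (val 1).1, map_one, show fA 1 = 0 from rfl, Int.cast_zero, zero_sub] at this
  have ha1 := ha.one_ne_zero
  have hprod : (a 1 - a (c.φ u)) * (a 1 - a (c.φ w)) = 0 := by
    simp only [u1] at heq
    field_simp at heq
    linear_combination (-1 / 2 : ℂ) * heq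
  -- the degree is one
  haveI := ha.sKer_normal
  have hcomm : ∀ x y : M36, c.φ x ∈ sKer a → c.φ (x * y * x⁻¹ * y⁻¹) ∈ sKer a := by
    intro x y hx
    rw [map_mul, map_mul, map_mul, map_inv, map_inv,
      show c.φ x * c.φ y * (c.φ x)⁻¹ * (c.φ y)⁻¹ = c.φ x * (c.φ y * (c.φ x)⁻¹ * (c.φ y)⁻¹) by group]
    exact mul_mem hx (Subgroup.Normal.conj_mem inferInstance _ (inv_mem hx) _)
  have hker : ∀ m, a (c.φ m) = a 1 → c.φ m ∈ sKer a := fun m hm y => ha.kernel_mul hm y
  have hD : a 1 = 1 := by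
    rcases mul_eq_zero.1 hprod with h | h
    · have hu := hker u (sub_eq_zero.1 h).symm
      have h1 : c.φ (.r 1, .r 1) ∈ sKer a := by
        rw [show ((.r 1, .r 1) : M36) = u * (.r 1, .r 1) * u⁻¹ * (.r 1, .r 1)⁻¹ from by decide]
        exact hcomm u _ hu
      have := h1 1
      rw [one_mul, adl] at this
      exact this.symm
    · have hw := hker w (sub_eq_zero.1 h).symm
      have hl : c.φ (1, .r 1) ∈ sKer a := by
        rw [show ((1, .r 1) : M36) = w * (1, .r 1) * w⁻¹ * (1, .r 1)⁻¹ from by decide]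
        exact hcomm w _ hw
      have key : ∀ m, fB m ≠ 0 → a (c.φ m) =
          if m.1 = 1 then a 1 else (((if isR m.1 then 1 else -1 : ℤ)) : ℂ) := by
        intro m hm
        obtain ⟨j, hj⟩ := (show ∀ m : M36, fB m ≠ 0 → ∃ j : ZMod 3, m.2 = .r j by decide +kernel) m hm
        have hlj : ∀ k : ZMod 3, c.φ (1, .r k) ∈ sKer a := fun k => by
          rw [show ((1, .r k) : M36) = (1, .r 1) ^ k.val from
            (show ∀ k : ZMod 3, ((1, .r k) : M36) = (1, .r 1) ^ k.val by decide) k, map_pow]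
          exact pow_mem hl _
        have hred : a (c.φ m) = a (c.φ (m.1, 1)) := by
          conv_lhs => rw [show m = (m.1, 1) * (1, .r j) from Prod.ext (by simp) (by simp [hj]), map_mul]
          exact hlj j _
        have hred' : ∀ x : D3, a (c.φ (x, 1)) = a (c.φ (x, .r 1)) := fun x => by
          rw [show ((x, .r 1) : M36) = (x, 1) * (1, .r 1) from Prod.ext (by simp) (by simp), map_mul,
            hl]
        rw [hred]
        by_cases h1 : m.1 = 1
        · rw [if_pos h1, h1, show ((1, 1) : M36) = 1 from rfl, map_one]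
        · rw [if_neg h1, hred']
          have hconj := (show ∀ x : D3, x ≠ 1 → ∃ q : M36,
            q * ((if isR x then .r 1 else .sr 0, .r 1) : M36) * q⁻¹ = (x, .r 1) by
              decide +kernel) m.1 h1
          obtain ⟨q, hq⟩ := hconj
          rw [← ha.val_conj (isConj_iff.2 ⟨c.φ q, by rw [← map_inv, ← map_mul, ← map_mul, hq]⟩)]
          by_cases h2 : isR m.1 = true <;> simp [h2, adl, at3]
      have h0 := c.inner_Φ fB (isClassFunction_of_isGen ha.1) _ key
      change Cfsg.classInner c.ΦB a = _ at h0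
      rw [hBa] at h0
      have hsum : ∑ m : M36, (fB m : ℂ) * conj (if m.1 = 1 then a 1 else
          (((if isR m.1 then 1 else -1 : ℤ)) : ℂ)) = 6 * conj (a 1) - 6 := by
        have hs : ∀ m : M36, (fB m : ℂ) * conj (if m.1 = 1 then a 1 else
            (((if isR m.1 then 1 else -1 : ℤ)) : ℂ)) =
            ((if m.1 = 1 then fB m else 0 : ℤ) : ℂ) * conj (a 1) +
              ((if m.1 = 1 then 0 else fB m * (if isR m.1 then 1 else -1) : ℤ) : ℂ) := by
          intro m
          by_cases h1 : m.1 = 1 <;> rcases Bool.eq_false_or_eq_true (isR m.1) with h2 | h2 <;> simp [h1, h2]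
        rw [Finset.sum_congr rfl fun m _ => hs m, Finset.sum_add_distrib, ← Finset.sum_mul,
          ← Int.cast_sum, ← Int.cast_sum,
          show (∑ m : M36, if m.1 = 1 then fB m else 0) = 6 by decide +kernel,
          show (∑ m : M36, if m.1 = 1 then 0 else fB m * (if isR m.1 then 1 else -1)) = -6 by
            decide +kernel]
        push_cast
        ring
      rw [hsum] at h0
      have h6 : conj (a 1) = 1 := by
        field_simp at h0
        linear_combination (-1 / 6 : ℂ) * h0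
      simpa using congrArg conj h6
  -- the linear character
  have hirr : Cfsg.IsIrrCharacter K a := isIrr_of_gen_norm_one ha.1 ha.2 (by rw [hD]; norm_num)
  obtain ⟨ψ, hψ⟩ := exists_hom_of_degree_one (isCharacter_of_isIrr hirr) hD
  have hψv : ∀ x, a x = (ψ x : ℂ) := fun x => congrFun hψ x
  have hone : ∀ m : M36, m * m * m = 1 → (∃ q : M36, q * m * q⁻¹ = m⁻¹) → ψ (c.φ m) = 1 := by
    rintro m h3 ⟨q, hq⟩
    have h2 : ψ (c.φ m) = (ψ (c.φ m))⁻¹ := by
      have := congrArg (fun z => ψ (c.φ z)) hq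
      simp only [map_mul, map_inv, mul_inv_cancel_comm] at this
      exact this
    have h3' := congrArg (fun z => ψ (c.φ z)) h3
    simp only [map_mul, map_one] at h3'
    rwa [eq_inv_iff_mul_eq_one.1 h2, one_mul] at h3'
  have ψd : ψ (c.φ (.r 1, 1)) = 1 := hone _ (by decide) ⟨(.sr 0, 1), by decide⟩
  have ψl : ψ (c.φ (1, .r 1)) = 1 := hone _ (by decide) ⟨(1, .sr 0), by decide⟩
  have ψw : ψ (c.φ (1, .sr 0)) = 1 := by
    refine Units.ext ?_
    have := hψv (c.φ g)
    rw [ag, show g = (.r 1, 1) * (1, .sr 0) from rfl, map_mul, map_mul, ψd, one_mul] at this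
    rw [Units.val_one]; exact this.symm
  have ψt : ψ (c.φ (.sr 0, 1)) = -1 := by
    refine Units.ext ?_
    have := hψv (c.φ (.sr 0, .r 1))
    rw [at3, show ((.sr 0, .r 1) : M36) = (.sr 0, 1) * (1, .r 1) from rfl, map_mul, map_mul, ψl,
      mul_one] at this
    rw [Units.val_neg, Units.val_one]; exact this.symm
  have ψm : ∀ m : M36, ψ (c.φ m) = if isR m.1 then 1 else -1 := by
    have h1 : ∀ x : D3, ψ (c.φ (x, 1)) = if isR x then 1 else -1 := by
      intro x
      obtain ⟨i, j, rfl⟩ := (show ∀ x : D3, ∃ i : Fin 3, ∃ j : Fin 2,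
        x = (.r 1 : D3) ^ (i : ℕ) * (.sr 0 : D3) ^ (j : ℕ) by decide +kernel) x
      rw [show (((.r 1 : D3) ^ (i : ℕ) * (.sr 0 : D3) ^ (j : ℕ), 1) : M36) =
        (.r 1, 1) ^ (i : ℕ) * (.sr 0, 1) ^ (j : ℕ) from Prod.ext (by simp) (by simp), map_mul,
        map_pow, map_pow, map_mul, map_pow, map_pow, ψd, ψt, one_pow, one_mul]
      rw [(show ∀ (i : Fin 3) (j : Fin 2), isR ((.r 1 : D3) ^ (i : ℕ) * (.sr 0 : D3) ^ (j : ℕ)) =
        decide (j = 0) by decide +kernel) i j]
      fin_cases j <;> simp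
    have h2 : ∀ x : D3, ψ (c.φ (1, x)) = 1 := by
      intro x
      obtain ⟨i, j, rfl⟩ := (show ∀ x : D3, ∃ i : Fin 3, ∃ j : Fin 2,
        x = (.r 1 : D3) ^ (i : ℕ) * (.sr 0 : D3) ^ (j : ℕ) by decide +kernel) x
      rw [show ((1, (.r 1 : D3) ^ (i : ℕ) * (.sr 0 : D3) ^ (j : ℕ)) : M36) =
        (1, .r 1) ^ (i : ℕ) * (1, .sr 0) ^ (j : ℕ) from Prod.ext (by simp) (by simp), map_mul,
        map_pow, map_pow, map_mul, map_pow, map_pow, ψl, ψw, one_pow, one_pow, one_mul]
    intro m
    rw [show m = (m.1, 1) * (1, m.2) from Prod.ext (by simp) (by simp), map_mul, map_mul, h1, h2,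
      mul_one]
    simp
  exact c.range_eq_top_of_hom ψ ψm

end Small

end CfsgLib.G2Amalgam
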