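import Cfsg.Agent.G2Amalgam.Flip
import Cfsg.Agent.Coprime.Generation
import Mathlib.GroupTheory.Perm.Fin

/-!
# The amalgam of type `G₂(3)`: the structure of the centraliser of the involution

Assuming that the two four groups generate a normal elementary subgroup of order sixteen, the
centraliser of `t` is `(SL(2,3) ∘ SL(2,3))⟨s⟩`.
-/

set_option autoImplicit false
set_option linter.unusedSectionVars false
set_option linter.style.haveILetI false
set_option maxRecDepth 100000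

namespace CfsgLib.G2Amalgam

open Matrix

attribute [local instance] fact_three'

section Four

variable {X : Type*} [Group X] [Finite X] {V : Subgroup X} {r : X}

/-- An element of order three without fixed points on a four group is transitive on it. -/
theorem orbit_cover (hV : Nat.card V = 4) (r3 : r ^ 3 = 1) (hn : ∀ v ∈ V, r * v * r⁻¹ ∈ V)
    (hf : ∀ v ∈ V, v * r = r * v → v = 1) {v w : X} (hv : v ∈ V) (hv1 : v ≠ 1) (hw : w ∈ V)
    (hw1 : w ≠ 1) : ∃ i : ZMod 3, w = r ^ i.val * v * (r ^ i.val)⁻¹ := by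
  classical
  by_contra hcon
  push_neg at hcon
  have hpn : ∀ k : ℕ, r ^ k * v * (r ^ k)⁻¹ ∈ V := fun k => by
    induction k with
    | zero => simpa using hv
    | succ k ih =>
      have := hn _ ih
      rwa [show r * (r ^ k * v * (r ^ k)⁻¹) * r⁻¹ = r ^ (k + 1) * v * (r ^ (k + 1))⁻¹ by
        rw [pow_succ']; group] at this
  set v₁ := r * v * r⁻¹ with hv₁
  set v₂ := r ^ 2 * v * (r ^ 2)⁻¹ with hv₂
  have hne : ∀ {z : X}, z ≠ 1 → ∀ x : X, x * z * x⁻¹ ≠ 1 := fun hz x h => hz (conj_eq_one_iff.1 h)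
  have h01 : v₁ ≠ v := fun h => hv1 (hf v hv (mul_inv_eq_iff_eq_mul.1 h).symm)
  have h02 : v₂ ≠ v := fun h => by
    refine hv1 (hf v hv ?_)
    have h' : Commute (r ^ 2) v := mul_inv_eq_iff_eq_mul.1 h
    have := h'.pow_left 2
    rw [← pow_mul, show 2 * 2 = 3 + 1 from rfl, pow_succ, r3, one_mul] at this
    exact this.eq.symm
  have h12 : v₂ ≠ v₁ := fun h => h01 (by
    have : r * v₁ * r⁻¹ = r * v * r⁻¹ := by
      rw [← hv₁]
      refine Eq.trans ?_ h
      rw [hv₁, hv₂, pow_two]; group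
    exact mul_left_cancel (mul_right_cancel this))
  have hw0 : w ≠ v := fun h => hcon 0 (by rw [h]; simp)
  have hw1' : w ≠ v₁ := fun h => hcon 1 (by
    rw [h, hv₁, show (1 : ZMod 3).val = 1 from rfl, pow_one])
  have hw2 : w ≠ v₂ := fun h => hcon 2 (by
    rw [h, hv₂, show (2 : ZMod 3).val = 2 from rfl])
  have hcard : ({1, v, v₁, v₂, w} : Finset X).card = 5 := by
    rw [Finset.card_insert_of_notMem, Finset.card_insert_of_notMem, Finset.card_insert_of_notMem,
      Finset.card_pair hw2.symm]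
    · simp only [Finset.mem_insert, Finset.mem_singleton, not_or]
      exact ⟨h12.symm, hw1'.symm⟩
    · simp only [Finset.mem_insert, Finset.mem_singleton, not_or]
      exact ⟨h01.symm, h02.symm, hw0.symm⟩
    · simp only [Finset.mem_insert, Finset.mem_singleton, not_or]
      exact ⟨hv1.symm, (hne hv1 r).symm, (hne hv1 (r ^ 2)).symm, hw1.symm⟩
  haveI := Fintype.ofFinite X
  have hle : ({1, v, v₁, v₂, w} : Finset X).card ≤ Nat.card V := by
    rw [Nat.card_eq_fintype_card, Fintype.card_subtype]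
    refine Finset.card_le_card fun x hx => Finset.mem_filter.2 ⟨Finset.mem_univ _, ?_⟩
    simp only [Finset.mem_insert, Finset.mem_singleton] at hx
    rcases hx with rfl | rfl | rfl | rfl | rfl
    · exact one_mem V
    · exact hv
    · exact hn _ hv
    · exact hpn 2
    · exact hw
  omega

/-- The square of an element acts on a four group as a power of the rotation. -/
theorem sq_act (hV : Nat.card V = 4) (r3 : r ^ 3 = 1) (hn : ∀ v ∈ V, r * v * r⁻¹ ∈ V)
    (hf : ∀ v ∈ V, v * r = r * v → v = 1) {x : X} (hx : ∀ v ∈ V, x * v * x⁻¹ ∈ V) :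
    ∃ k : ℕ, ∀ v ∈ V, x * x * v * (x * x)⁻¹ = r ^ k * v * (r ^ k)⁻¹ := by
  classical
  obtain ⟨v, hv, hv1⟩ : ∃ v ∈ V, v ≠ 1 := by
    by_contra h
    push_neg at h
    have hb : V = ⊥ := V.eq_bot_iff_forall.2 h
    rw [hb, Subgroup.card_bot] at hV
    norm_num at hV
  have hadd : ∀ i j : ZMod 3, r ^ (i + j).val = r ^ i.val * r ^ j.val := fun i j => by
    rw [← pow_add, ZMod.val_add, ← pow_eq_pow_mod _ r3]
  set f : ZMod 3 → X := fun i => r ^ i.val * v * (r ^ i.val)⁻¹ with hf'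
  have hfV : ∀ i, f i ∈ V := fun i => by
    have : ∀ k : ℕ, r ^ k * v * (r ^ k)⁻¹ ∈ V := fun k => by
      induction k with
      | zero => simpa using hv
      | succ k ih =>
        have := hn _ ih
        rwa [show r * (r ^ k * v * (r ^ k)⁻¹) * r⁻¹ = r ^ (k + 1) * v * (r ^ (k + 1))⁻¹ by
          rw [pow_succ']; group] at this
    exact this _
  have hf1 : ∀ i, f i ≠ 1 := fun i h => hv1 (conj_eq_one_iff.1 h)
  have hσ : ∀ i, ∃ j, x * f i * x⁻¹ = f j := fun i =>
    orbit_cover hV r3 hn hf hv hv1 (hx _ (hfV i)) fun h => hf1 i (conj_eq_one_iff.1 h)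
  choose σ hσ using hσ
  have hfinj : ∀ i j, f i = f j → i = j := by
    intro i j h
    by_contra hij
    refine hv1 (hf v hv ?_)
    have hk : r ^ (-i + j).val * v * (r ^ (-i + j).val)⁻¹ = v := by
      have e : r ^ (-i).val * f i * (r ^ (-i).val)⁻¹ = r ^ (-i).val * f j * (r ^ (-i).val)⁻¹ := by
        rw [h]
      simp only [hf'] at e
      rw [show r ^ (-i).val * (r ^ i.val * v * (r ^ i.val)⁻¹) * (r ^ (-i).val)⁻¹ =
          (r ^ (-i).val * r ^ i.val) * v * (r ^ (-i).val * r ^ i.val)⁻¹ by group,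
        show r ^ (-i).val * (r ^ j.val * v * (r ^ j.val)⁻¹) * (r ^ (-i).val)⁻¹ =
          (r ^ (-i).val * r ^ j.val) * v * (r ^ (-i).val * r ^ j.val)⁻¹ by group,
        ← hadd, ← hadd, neg_add_cancel, ZMod.val_zero, pow_zero, one_mul, inv_one, mul_one] at e
      exact e.symm
    have hc : Commute (r ^ (-i + j).val) v := mul_inv_eq_iff_eq_mul.1 hk
    rcases (show ∀ z : ZMod 3, z ≠ 0 → z.val = 1 ∨ z.val = 2 by decide) (-i + j)
      (fun h0 => hij (by rw [neg_add_eq_zero] at h0; exact h0)) with e | e <;> rw [e] at hc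
    · rw [pow_one] at hc; exact hc.eq.symm
    · have := hc.pow_left 2
      rw [← pow_mul, show 2 * 2 = 3 + 1 from rfl, pow_succ, r3, one_mul] at this
      exact this.eq.symm
  have hσinj : ∀ i j, σ i = σ j → i = j := fun i j h => hfinj i j (by
    have : x * f i * x⁻¹ = x * f j * x⁻¹ := by rw [hσ, hσ, h]
    exact mul_left_cancel (mul_right_cancel this))
  obtain ⟨k, hk⟩ := (show ∀ σ : ZMod 3 → ZMod 3, (∀ i j, σ i = σ j → i = j) →
    ∃ k, ∀ a, σ (σ a) = k + a by decide +kernel) σ hσinj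
  refine ⟨k.val, fun w hw => ?_⟩
  by_cases hw1 : w = 1
  · simp [hw1]
  obtain ⟨i, rfl⟩ := orbit_cover hV r3 hn hf hv hv1 hw hw1
  show x * x * f i * (x * x)⁻¹ = r ^ k.val * f i * (r ^ k.val)⁻¹
  rw [show x * x * f i * (x * x)⁻¹ = x * (x * f i * x⁻¹) * x⁻¹ by group, hσ, hσ, hk]
  show r ^ (k + i).val * v * (r ^ (k + i).val)⁻¹ = _
  rw [hadd]
  simp only [hf']
  group

end Four

variable {G : Type*} [Group G]

namespace Setup

variable [Finite G] {c : Setup G}

namespace Frame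

variable (F : c.Frame)

/-- The character-theoretic input. -/
def Core : Prop :=
  (F.xframe.VD ⊔ F.xframe.VY).Normal ∧ Nat.card ↥(F.xframe.VD ⊔ F.xframe.VY) = 16 ∧
    ∀ v ∈ F.xframe.VD, ∀ w ∈ F.xframe.VY, v * w = w * v

/-- The four groups together. -/
noncomputable def MX : Subgroup F.X := F.img F.T.part ⊔ F.img F.partY

/-- The preimage of the four groups. -/
noncomputable def Mh : Subgroup G := F.T.part ⊔ F.partY

/-- The image of `E`. -/
noncomputable def EX : Subgroup F.X := F.img F.E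

variable {F} (hc : F.Core)

include hc

theorem comm_X {v w : F.X} (hv : v ∈ F.img F.T.part) (hw : w ∈ F.img F.partY) : v * w = w * v :=
  hc.2.2 v hv w hw

theorem comm_parts {a b : G} (ha : a ∈ F.T.part) (hb : b ∈ F.partY) : a * b = b * a := by
  classical
  set aH : F.H := ⟨a, F.part_H ha⟩
  have hpair : ∀ w : G, w ∈ F.partY → a * w = w * a ∨ a * w = F.T.t * (w * a) := by
    intro w hw
    set wH : F.H := ⟨w, F.partY_H hw⟩
    have h : ((wH * aH : F.H) : F.X) = ((aH * wH : F.H) : F.X) := by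
      rw [QuotientGroup.mk_mul, QuotientGroup.mk_mul]
      exact (comm_X hc (F.mem_img.2 ⟨aH, ha, rfl⟩) (F.mem_img.2 ⟨wH, hw, rfl⟩)).symm
    rcases F.eq_cases h with e | e
    · exact Or.inl e
    · right
      push_cast at e
      exact e.trans (F.mem_H.1 (wH * aH).2)
  have hnY : ∀ v ∈ F.img F.partY, F.dX * v * F.dX⁻¹ ∈ F.img F.partY := fun v hv =>
    F.xframe.norm_VY F.dX (by
      show F.dX * F.yX * F.dX⁻¹ ∈ Subgroup.zpowers F.yX
      rw [show F.dX * F.yX = F.yX * F.dX from F.xframe.comm, mul_inv_cancel_right]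
      exact Subgroup.mem_zpowers _) v hv
  let f : F.img F.partY → F.img F.partY := fun v =>
    ⟨(v : F.X)⁻¹ * (F.dX * v * F.dX⁻¹), mul_mem (inv_mem v.2) (hnY _ v.2)⟩
  have hinj : Function.Injective f := fun v w h => by
    have e : (v : F.X)⁻¹ * (F.dX * v * F.dX⁻¹) = (w : F.X)⁻¹ * (F.dX * w * F.dX⁻¹) :=
      congrArg Subtype.val h
    have h1 : ((w : F.X) * (v : F.X)⁻¹) * F.dX = F.dX * ((w : F.X) * (v : F.X)⁻¹) := by
      calc ((w : F.X) * (v : F.X)⁻¹) * F.dX
          = (w : F.X) * ((v : F.X)⁻¹ * (F.dX * v * F.dX⁻¹)) * F.dX * (v : F.X)⁻¹ := by group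
        _ = (w : F.X) * ((w : F.X)⁻¹ * (F.dX * w * F.dX⁻¹)) * F.dX * (v : F.X)⁻¹ := by rw [e]
        _ = _ := by group
    exact Subtype.ext (mul_inv_eq_one.1 (F.xframe.fpf_VY _ (mul_mem w.2 (inv_mem v.2)) h1)).symm
  obtain ⟨⟨v, hv⟩, hvb⟩ := Finite.injective_iff_surjective.1 hinj
    ⟨((⟨b, F.partY_H hb⟩ : F.H) : F.X), F.mem_img.2 ⟨_, hb, rfl⟩⟩
  obtain ⟨b₀, hb₀, rfl⟩ := F.mem_img.1 hv
  have he : ((b₀⁻¹ * (⟨c.one.δ, F.δ_H⟩ * b₀ * ⟨c.one.δ, F.δ_H⟩⁻¹) : F.H) : F.X) =
      ((⟨b, F.partY_H hb⟩ : F.H) : F.X) := congrArg Subtype.val hvb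
  set b₁ := c.one.δ * (b₀ : G) * c.one.δ⁻¹ with hb₁
  have hb₁Y : b₁ ∈ F.partY := F.partY_conj (F.T.comm_D₁ c.one.δ_mem).symm
    (Or.inl (by rw [F.W₃_comm F.δ₁_W₃ F.y_W₃, mul_inv_cancel_right])) hb₀
  have hca : Commute c.one.δ a := ha.2.1.symm
  have hat : Commute a F.T.t := ha.1
  have hb0t : Commute (b₀ : G) F.T.t := (F.mem_partY.1 hb₀).1
  have hcom : Commute a ((b₀ : G)⁻¹ * b₁) := by
    rcases hpair _ hb₀ with h0 | h0
    · have h1 : Commute a b₁ := by
        rw [hb₁]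
        exact (hca.symm.mul_right (show Commute a (b₀ : G) from h0)).mul_right hca.symm.inv_right
      exact (show Commute a (b₀ : G) from h0).inv_right.mul_right h1
    · have h1 : a * b₁ = F.T.t * (b₁ * a) := by
        rw [hb₁]
        calc a * (c.one.δ * (b₀ : G) * c.one.δ⁻¹) = c.one.δ * (a * (b₀ : G)) * c.one.δ⁻¹ := by
              rw [← mul_assoc, ← mul_assoc, ← hca.eq]; group
          _ = (c.one.δ * F.T.t) * ((b₀ : G) * (a * c.one.δ⁻¹)) := by rw [h0]; group
          _ = (F.T.t * c.one.δ) * ((b₀ : G) * (c.one.δ⁻¹ * a)) := by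
              rw [F.T.comm_D₁ c.one.δ_mem, hca.symm.inv_right.eq]
          _ = _ := by group
      show a * ((b₀ : G)⁻¹ * b₁) = (b₀ : G)⁻¹ * b₁ * a
      have h2 : a * (b₀ : G)⁻¹ = F.T.t * ((b₀ : G)⁻¹ * a) := by
        calc a * (b₀ : G)⁻¹
            = ((b₀ : G)⁻¹ * F.T.t) * (F.T.t * ((b₀ : G) * a)) * (b₀ : G)⁻¹ := by
              rw [mul_assoc ((b₀ : G)⁻¹), ← mul_assoc F.T.t, F.T.tt, one_mul]; group
          _ = ((b₀ : G)⁻¹ * F.T.t) * (a * (b₀ : G)) * (b₀ : G)⁻¹ := by rw [h0]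
          _ = _ := by rw [hb0t.inv_left.eq]; group
      rw [← mul_assoc, h2, mul_assoc F.T.t, mul_assoc ((b₀ : G)⁻¹), h1, ← mul_assoc ((b₀ : G)⁻¹),
        hb0t.inv_left.eq, mul_assoc F.T.t, ← mul_assoc F.T.t F.T.t, F.T.tt, one_mul, ← mul_assoc]
  rcases F.eq_cases he with e | e <;> push_cast at e <;> rw [e]
  · exact hcom.eq
  · exact (hcom.mul_right hat).eq

theorem mem_MX {q : F.X} : q ∈ F.MX ↔ ∃ v ∈ F.img F.T.part, ∃ w ∈ F.img F.partY, q = v * w := by
  have hn : F.img F.partY ≤ Subgroup.normalizer (F.img F.T.part : Set F.X) := fun w hw =>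
    Subgroup.mem_normalizer_fintype fun v hv => by
      rwa [← comm_X hc hv hw, mul_inv_cancel_right]
  rw [MX, ← SetLike.mem_coe, Subgroup.coe_mul_of_right_le_normalizer_left _ _ hn]
  constructor
  · rintro ⟨v, hv, w, hw, rfl⟩; exact ⟨v, hv, w, hw, rfl⟩
  · rintro ⟨v, hv, w, hw, rfl⟩; exact ⟨v, hv, w, hw, rfl⟩

theorem MX_normal : F.MX.Normal := hc.1

theorem MX_sq {q : F.X} (hq : q ∈ F.MX) : q * q = 1 := by
  obtain ⟨v, hv, w, hw, rfl⟩ := (mem_MX hc).1 hq
  rw [Commute.mul_mul_mul_comm (comm_X hc hv hw).symm, F.xframe.sq_VD v hv, F.xframe.sq_VY w hw,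
    one_mul]

theorem mem_Mh {x : G} : x ∈ F.Mh ↔ ∃ a ∈ F.T.part, ∃ b ∈ F.partY, x = a * b := by
  have hn : F.partY ≤ Subgroup.normalizer (F.T.part : Set G) := fun w hw =>
    Subgroup.mem_normalizer_fintype fun v hv => by
      rwa [← comm_parts hc hv hw, mul_inv_cancel_right]
  rw [Mh, ← SetLike.mem_coe, Subgroup.coe_mul_of_right_le_normalizer_left _ _ hn]
  constructor
  · rintro ⟨v, hv, w, hw, rfl⟩; exact ⟨v, hv, w, hw, rfl⟩
  · rintro ⟨v, hv, w, hw, rfl⟩; exact ⟨v, hv, w, hw, rfl⟩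

theorem MX_lift {x : F.H} (h : (x : F.X) ∈ F.MX) : (x : G) ∈ F.Mh := by
  obtain ⟨v, hv, w, hw, e⟩ := (mem_MX hc).1 h
  obtain ⟨a, ha, rfl⟩ := F.mem_img.1 hv
  obtain ⟨b, hb, rfl⟩ := F.mem_img.1 hw
  rw [← QuotientGroup.mk_mul] at e
  have hab : ((a * b : F.H) : G) ∈ F.Mh := (mem_Mh hc).2 ⟨a, ha, b, hb, rfl⟩
  rcases F.eq_cases e.symm with e' | e' <;> rw [e']
  · exact hab
  · exact mul_mem hab (Subgroup.mem_sup_left F.T.t_part)

/-- The shape of the nontrivial elements of the four groups. -/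
theorem blocks {q v : F.X} (hv : v ∈ F.img F.T.part ∨ v ∈ F.img F.partY) :
    q * v * q⁻¹ ∈ F.img F.T.part ∨ q * v * q⁻¹ ∈ F.img F.partY := by
  by_cases hv1 : v = 1
  · left; rw [hv1, mul_one, mul_inv_cancel]; exact one_mem _
  induction q using QuotientGroup.induction_on with
  | H x =>
    obtain ⟨w, hw, hww, rfl⟩ : ∃ w : F.H, ((w : G) ∈ F.T.part ∨ (w : G) ∈ F.partY) ∧
        (w : G) * w = F.T.t ∧ (w : F.X) = v := by
      rcases hv with hv | hv <;> obtain ⟨w, hw, rfl⟩ := F.mem_img.1 hv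
      · refine ⟨w, Or.inl hw, (F.T.sq_cases hw.1 hw.2.1 hw.2.2).resolve_left fun h => hv1 ?_, rfl⟩
        rw [QuotientGroup.eq_one_iff]
        rcases F.T.part_invol hw h with e | e
        · rw [show w = 1 from Subtype.ext e]; exact one_mem _
        · rw [show w = F.tH from Subtype.ext e]; exact Subgroup.mem_zpowers _
      · refine ⟨w, Or.inr hw, (F.partY_sq hw).resolve_left fun h => hv1 ?_, rfl⟩
        rw [QuotientGroup.eq_one_iff]
        rcases F.partY_invol hw h with e | e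
        · rw [show w = 1 from Subtype.ext e]; exact one_mem _
        · rw [show w = F.tH from Subtype.ext e]; exact Subgroup.mem_zpowers _
    haveI := MX_normal hc
    have hwM : (w : F.X) ∈ F.MX := by
      rcases hw with h | h
      · exact Subgroup.mem_sup_left (F.mem_img.2 ⟨w, h, rfl⟩)
      · exact Subgroup.mem_sup_right (F.mem_img.2 ⟨w, h, rfl⟩)
    have hconj : ((x * w * x⁻¹ : F.H) : F.X) ∈ F.MX := by
      rw [QuotientGroup.mk_mul, QuotientGroup.mk_mul, QuotientGroup.mk_inv]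
      exact Subgroup.Normal.conj_mem inferInstance _ hwM _
    obtain ⟨a, ha, b, hb, e⟩ := (mem_Mh hc).1 (MX_lift hc hconj)
    rw [← QuotientGroup.mk_inv, ← QuotientGroup.mk_mul, ← QuotientGroup.mk_mul]
    have hsq : (a * b) * (a * b) = F.T.t := by
      rw [← e]
      push_cast
      rw [show (x : G) * w * (x : G)⁻¹ * ((x : G) * w * (x : G)⁻¹) = (x : G) * (w * w) * (x : G)⁻¹ by
        group, hww, F.mem_H.1 x.2, mul_inv_cancel_right]
    rw [Commute.mul_mul_mul_comm (comm_parts hc ha hb).symm] at hsq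
    rcases F.T.sq_cases ha.1 ha.2.1 ha.2.2 with ea | ea
    · right
      refine F.mem_img.2 ⟨_, ?_, rfl⟩
      rw [e]
      rcases F.T.part_invol ha ea with e1 | e1 <;> rw [e1]
      · rw [one_mul]; exact hb
      · exact mul_mem F.t_partY hb
    · left
      rw [ea] at hsq
      refine F.mem_img.2 ⟨_, ?_, rfl⟩
      rw [e]
      rcases F.partY_invol hb (mul_left_cancel (hsq.trans (mul_one _).symm)) with e1 | e1 <;> rw [e1]
      · rw [mul_one]; exact ha
      · exact mul_mem ha F.T.t_part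

theorem meet_parts {v : F.X} (h1 : v ∈ F.img F.T.part) (h2 : v ∈ F.img F.partY) : v = 1 :=
  F.xframe.fpf_VD v h1 ((F.xframe.cent_y v).2 ⟨v, h2, 0, 0, by simp⟩)

/-- The square of an element normalises each four group. -/
theorem sq_norm (q : F.X) :
    (∀ v ∈ F.img F.T.part, q * q * v * (q * q)⁻¹ ∈ F.img F.T.part) ∧
      ∀ v ∈ F.img F.partY, q * q * v * (q * q)⁻¹ ∈ F.img F.partY := by
  classical
  have main : ∀ (A B : Subgroup F.X), (A = F.img F.T.part ∧ B = F.img F.partY ∨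
      A = F.img F.partY ∧ B = F.img F.T.part) →
      (∀ v ∈ A, q * v * q⁻¹ ∈ A) ∨ (∀ v ∈ A, q * v * q⁻¹ ∈ B) := by
    intro A B hAB
    have hb : ∀ v ∈ A, q * v * q⁻¹ ∈ A ∨ q * v * q⁻¹ ∈ B := fun v hv => by
      rcases hAB with ⟨rfl, rfl⟩ | ⟨rfl, rfl⟩
      · exact blocks hc (Or.inl hv)
      · exact (blocks hc (Or.inr hv)).symm
    have hcard : ∀ v, v ∈ A → v ∈ B → v = 1 := fun v h1 h2 => by
      rcases hAB with ⟨rfl, rfl⟩ | ⟨rfl, rfl⟩
      · exact meet_parts hc h1 h2
      · exact meet_parts hc h2 h1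
    have hA : A.map (MulAut.conj q).toMonoidHom ≤ A ∨ A.map (MulAut.conj q).toMonoidHom ≤ B := by
      by_contra h
      push_neg at h
      obtain ⟨_, ⟨v, hv, rfl⟩, hvA⟩ := SetLike.not_le_iff_exists.1 h.1
      obtain ⟨_, ⟨w, hw, rfl⟩, hwB⟩ := SetLike.not_le_iff_exists.1 h.2
      change q * v * q⁻¹ ∉ A at hvA
      change q * w * q⁻¹ ∉ B at hwB
      have hvB := (hb v hv).resolve_left hvA
      have hwA := (hb w hw).resolve_right hwB
      rcases hb (v * w) (mul_mem hv hw) with h' | h' <;>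
        rw [show q * (v * w) * q⁻¹ = q * v * q⁻¹ * (q * w * q⁻¹) by group] at h'
      · exact hvA ((Subgroup.mul_mem_cancel_right _ hwA).1 h')
      · exact hwB ((Subgroup.mul_mem_cancel_left _ hvB).1 h')
    exact hA.imp (fun h v hv => h ⟨v, hv, rfl⟩) (fun h v hv => h ⟨v, hv, rfl⟩)
  have step : ∀ (A B : Subgroup F.X), (A = F.img F.T.part ∧ B = F.img F.partY ∨
      A = F.img F.partY ∧ B = F.img F.T.part) → ∀ v ∈ A, q * q * v * (q * q)⁻¹ ∈ A := by
    intro A B hAB v hv
    rw [show q * q * v * (q * q)⁻¹ = q * (q * v * q⁻¹) * q⁻¹ by group]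
    rcases main A B hAB with h | h
    · exact h _ (h v hv)
    · have hBA : B = A.map (MulAut.conj q).toMonoidHom := (Subgroup.eq_of_le_of_card_ge
        (by rintro _ ⟨w, hw, rfl⟩; exact h w hw) (by
          rw [Subgroup.card_map_of_injective (MulAut.conj q).injective]
          rcases hAB with ⟨rfl, rfl⟩ | ⟨rfl, rfl⟩
          · rw [show Nat.card (F.img F.T.part) = 4 from F.xframe.card_VD,
              show Nat.card (F.img F.partY) = 4 from F.xframe.card_VY]
          · rw [show Nat.card (F.img F.T.part) = 4 from F.xframe.card_VD,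
              show Nat.card (F.img F.partY) = 4 from F.xframe.card_VY])).symm
      rcases main B A (hAB.symm.imp (fun h => ⟨h.2, h.1⟩) (fun h => ⟨h.2, h.1⟩)) with h' | h'
      · exfalso
        -- a nontrivial element of `A` would be mapped into itself and into `B`
        have hA1 : ∀ w ∈ A, w = 1 := fun w hw => by
          have hAB' : A ≤ B := by
            intro z hz
            have h1 : q * z * q⁻¹ ∈ B := h z hz
            have hBB : B.map (MulAut.conj q).toMonoidHom = B := Subgroup.eq_of_le_of_card_ge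
              (by rintro _ ⟨u, hu, rfl⟩; exact h' u hu)
              (by rw [Subgroup.card_map_of_injective (MulAut.conj q).injective])
            rw [← hBB] at h1
            obtain ⟨u, hu, hue⟩ := h1
            rwa [← (MulAut.conj q).injective hue]
          rcases hAB with ⟨rfl, rfl⟩ | ⟨rfl, rfl⟩
          · exact meet_parts hc hw (hAB' hw)
          · exact meet_parts hc (hAB' hw) hw
        have hbot : A = ⊥ := A.eq_bot_iff_forall.2 hA1
        have h4 : Nat.card A = 4 := by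
          rcases hAB with ⟨rfl, rfl⟩ | ⟨rfl, rfl⟩
          · exact F.xframe.card_VD
          · exact F.xframe.card_VY
        rw [hbot, Subgroup.card_bot] at h4
        norm_num at h4
      · exact h' _ (h v hv)
  exact ⟨step _ _ (Or.inl ⟨rfl, rfl⟩), step _ _ (Or.inr ⟨rfl, rfl⟩)⟩

theorem mem_EX {q : F.X} : q ∈ F.EX ↔ ∃ i j : ℕ, q = F.dX ^ i * F.yX ^ j := by
  rw [EX, F.mem_img]
  constructor
  · rintro ⟨e, ⟨i, j, he⟩, rfl⟩
    exact ⟨i, j, by rw [F.coe_pow₂]; congr 1; exact Subtype.ext he⟩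
  · rintro ⟨i, j, rfl⟩
    exact ⟨_, F.E_pow, (F.coe_pow₂ i j).symm⟩

theorem dX_EX : F.dX ∈ F.EX := (mem_EX hc).2 ⟨1, 0, by simp⟩

theorem yX_EX : F.yX ∈ F.EX := (mem_EX hc).2 ⟨0, 1, by simp⟩

theorem EX_cube {q : F.X} (hq : q ∈ F.EX) : q ^ 3 = 1 := by
  obtain ⟨e, he, rfl⟩ := F.mem_img.1 hq
  rw [← QuotientGroup.mk_pow, show e ^ 3 = 1 from Subtype.ext (F.E_cube he)]
  rfl

theorem MX_EX {q : F.X} (hm : q ∈ F.MX) (he : q ∈ F.EX) : q = 1 :=
  eq_one_of_sq_cube (MX_sq hc hm) (EX_cube hc he)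

/-- Centralisation of both four groups. -/
theorem cent_both {q : F.X} (h1 : ∀ v ∈ F.img F.T.part, q * v = v * q)
    (h2 : ∀ v ∈ F.img F.partY, q * v = v * q) : q ∈ F.MX := by
  classical
  haveI := MX_normal hc
  set C := Subgroup.centralizer (F.MX : Set F.X) with hC
  have hq : q ∈ C := Subgroup.mem_centralizer_iff.2 fun m hm => by
    obtain ⟨v, hv, w, hw, rfl⟩ := (mem_MX hc).1 hm
    exact ((show Commute q v from h1 v hv).mul_right (show Commute q w from h2 w hw)).eq.symm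
  have hCc : ∀ {z v : F.X}, z ∈ C → v ∈ F.img F.T.part ∨ v ∈ F.img F.partY → Commute z v :=
    fun {z v} hz hv => ((Subgroup.mem_centralizer_iff.1 hz) v (by
      rcases hv with h | h
      · exact Subgroup.mem_sup_left h
      · exact Subgroup.mem_sup_right h)).symm
  -- the elements in `E` part
  have hel : ∀ i j : ℕ, ∀ w ∈ F.img F.partY, w ≠ 1 → Commute (F.dX ^ i * F.yX ^ j) w →
      F.dX ^ i = 1 := by
    intro i j w hw hw1 hcm
    have hyw : Commute F.yX w := ((F.xframe.cent_y w).2 ⟨w, hw, 0, 0, by simp⟩).symm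
    have h := hcm.mul_left (hyw.pow_left j).inv_left
    rw [mul_inv_cancel_right] at h
    by_contra hne
    refine hw1 (F.xframe.fpf_VY w hw ?_)
    have h3 : F.dX ^ 3 = 1 := EX_cube hc (dX_EX hc)
    rw [pow_eq_pow_mod i h3] at h hne
    rcases (show i % 3 = 0 ∨ i % 3 = 1 ∨ i % 3 = 2 by omega) with e | e | e <;> rw [e] at h hne
    · exact absurd (pow_zero _) hne
    · rw [pow_one] at h; exact h.eq.symm
    · have := h.pow_left 2
      rw [← pow_mul, show 2 * 2 = 3 + 1 from rfl, pow_succ, h3, one_mul] at this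
      exact this.eq.symm
  have hel' : ∀ i j : ℕ, ∀ v ∈ F.img F.T.part, v ≠ 1 → Commute (F.dX ^ i * F.yX ^ j) v →
      F.yX ^ j = 1 := by
    intro i j v hv hv1 hcm
    have hdv : Commute F.dX v := ((F.xframe.cent_d v).2 ⟨v, hv, 0, 0, by simp⟩).symm
    have h := (hdv.pow_left i).inv_left.mul_left hcm
    rw [inv_mul_cancel_left] at h
    by_contra hne
    refine hv1 (F.xframe.fpf_VD v hv ?_)
    have h3 : F.yX ^ 3 = 1 := EX_cube hc (yX_EX hc)
    rw [pow_eq_pow_mod j h3] at h hne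
    rcases (show j % 3 = 0 ∨ j % 3 = 1 ∨ j % 3 = 2 by omega) with e | e | e <;> rw [e] at h hne
    · exact absurd (pow_zero _) hne
    · rw [pow_one] at h; exact h.eq.symm
    · have := h.pow_left 2
      rw [← pow_mul, show 2 * 2 = 3 + 1 from rfl, pow_succ, h3, one_mul] at this
      exact this.eq.symm
  obtain ⟨v₀, hv₀, hv₀1⟩ : ∃ v ∈ F.img F.T.part, v ≠ 1 := by
    by_contra h
    push_neg at h
    have := F.xframe.card_VD
    rw [show F.xframe.VD = ⊥ from (Subgroup.eq_bot_iff_forall _).2 h, Subgroup.card_bot] at this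
    norm_num at this
  obtain ⟨w₀, hw₀, hw₀1⟩ : ∃ v ∈ F.img F.partY, v ≠ 1 := by
    by_contra h
    push_neg at h
    have := F.xframe.card_VY
    rw [show F.xframe.VY = ⊥ from (Subgroup.eq_bot_iff_forall _).2 h, Subgroup.card_bot] at this
    norm_num at this
  have hzero : ∀ i j : ℕ, Commute (F.dX ^ i * F.yX ^ j) v₀ → Commute (F.dX ^ i * F.yX ^ j) w₀ →
      F.dX ^ i * F.yX ^ j = 1 := fun i j a b => by
    rw [hel i j w₀ hw₀ hw₀1 b, hel' i j v₀ hv₀ hv₀1 a, one_mul]
  have hd : ∀ z ∈ C, z * F.dX = F.dX * z → z ∈ F.MX := by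
    intro z hz h
    obtain ⟨v, hv, i, j, rfl⟩ := (F.xframe.cent_d z).1 h
    rw [show F.xframe.d = F.dX from rfl, show F.xframe.y = F.yX from rfl, mul_assoc] at hz ⊢
    have hvc : ∀ {u : F.X}, u ∈ F.img F.T.part ∨ u ∈ F.img F.partY →
        Commute (F.dX ^ i * F.yX ^ j) u := by
      intro u hu
      have hvu : Commute v u := by
        rcases hu with h | h
        · exact ((show Commute v u from by
            have hsq : ∀ a ∈ F.img F.T.part, a⁻¹ = a := fun a ha =>
              inv_eq_of_mul_eq_one_right (F.xframe.sq_VD a ha)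
            show v * u = u * v
            rw [← hsq (v * u) (mul_mem hv h), _root_.mul_inv_rev, hsq u h, hsq v hv]))
        · exact comm_X hc hv h
      have := hvu.inv_left.mul_left (hCc hz hu)
      rwa [inv_mul_cancel_left] at this
    rw [hzero i j (hvc (Or.inl hv₀)) (hvc (Or.inr hw₀)), mul_one]
    exact Subgroup.mem_sup_left hv
  have hy : ∀ z ∈ C, z * F.yX = F.yX * z → z ∈ F.MX := by
    intro z hz h
    obtain ⟨v, hv, i, j, rfl⟩ := (F.xframe.cent_y z).1 h
    rw [show F.xframe.d = F.dX from rfl, show F.xframe.y = F.yX from rfl, mul_assoc] at hz ⊢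
    have hvc : ∀ {u : F.X}, u ∈ F.img F.T.part ∨ u ∈ F.img F.partY →
        Commute (F.dX ^ i * F.yX ^ j) u := by
      intro u hu
      have hvu : Commute v u := by
        rcases hu with h | h
        · exact (comm_X hc h hv).symm
        · have hsq : ∀ a ∈ F.img F.partY, a⁻¹ = a := fun a ha =>
            inv_eq_of_mul_eq_one_right (F.xframe.sq_VY a ha)
          show v * u = u * v
          rw [← hsq (v * u) (mul_mem hv h), _root_.mul_inv_rev, hsq u h, hsq v hv]
      have := hvu.inv_left.mul_left (hCc hz hu)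
      rwa [inv_mul_cancel_left] at this
    rw [hzero i j (hvc (Or.inl hv₀)) (hvc (Or.inr hw₀)), mul_one]
    exact Subgroup.mem_sup_right hv
  have hdiag : ∀ e, e = F.dX * F.yX ∨ e = F.dX * F.yX⁻¹ → ∀ z ∈ C, z * e = e * z → z ∈ F.MX := by
    intro e he z hz h
    obtain ⟨i, j, rfl⟩ := F.xframe.cent_diag e he z h
    rw [show F.xframe.d = F.dX from rfl, show F.xframe.y = F.yX from rfl] at hz ⊢
    rw [hzero i j (hCc hz (Or.inl hv₀)) (hCc hz (Or.inr hw₀))]
    exact one_mem _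
  -- no element of order three
  have hC3 : ¬ 3 ∣ Nat.card C := by
    intro h3
    obtain ⟨z, hz⟩ := exists_prime_orderOf_dvd_card' 3 h3
    have hP : IsPGroup 3 F.EX := fun e => ⟨1, Subtype.ext (by rw [pow_one]; exact EX_cube hc e.2)⟩
    obtain ⟨S, hS⟩ := exists_sylow_eq hP fun n hn h3n => by
      induction n using QuotientGroup.induction_on with
      | H x =>
        have hmap : ∀ e ∈ F.E, (x : G) * e * (x : G)⁻¹ ∈ F.E := by
          intro e he
          have heH : e ∈ F.H := F.mem_H.2 (F.E_t he).symm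
          have h1 : ((x * ⟨e, heH⟩ * x⁻¹ : F.H) : F.X) ∈ F.EX := by
            rw [QuotientGroup.mk_mul, QuotientGroup.mk_mul, QuotientGroup.mk_inv]
            exact conj_mem_norm hn (F.mem_img.2 ⟨⟨e, heH⟩, he, rfl⟩)
          obtain ⟨e', he', hee⟩ := F.mem_img.1 h1
          have := F.cube_lift (F.E_cube he') (by push_cast; rw [conj_pow, F.E_cube he, mul_one,
            mul_inv_cancel]) hee
          push_cast at this
          rwa [this]
        have hfix : ∀ w : G, w * F.T.t = F.T.t * w → (∀ e ∈ F.E, w * e * w⁻¹ = e) →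
            w ∈ F.E ∨ w * F.T.t ∈ F.E := by
          intro w hwt hw
          rcases F.cent_E (mul_inv_eq_iff_eq_mul.1 (hw _ F.δ_E))
            (mul_inv_eq_iff_eq_mul.1 (hw _ F.y_E)) with h | h
          · exact Or.inl (F.mem_E_of_fixed h hwt.symm)
          · refine Or.inr ?_
            rw [← hwt] at h
            exact F.mem_E_of_fixed h
              ((show Commute F.T.t w from hwt.symm).mul_right (Commute.refl _)).eq
        have hxt := F.mem_H.1 x.2
        have hcase : ((x : G) ∈ F.E ∨ (x : G) * F.T.t ∈ F.E) → (x : F.X) ∈ F.EX := by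
          rintro (h | h)
          · exact F.mem_img.2 ⟨x, h, rfl⟩
          · refine F.mem_img.2 ⟨x * F.tH, h, ?_⟩
            rw [QuotientGroup.mk_mul, (QuotientGroup.eq_one_iff _).2 (Subgroup.mem_zpowers _), mul_one]
        rcases F.norm_E hxt hmap with h | h
        · exact hcase (hfix _ hxt h)
        · exfalso
          -- an element of odd order cannot invert `δ₁`
          obtain ⟨k, hk⟩ := h3n
          rw [← QuotientGroup.mk_pow, QuotientGroup.eq_one_iff] at hk
          obtain ⟨m, hm⟩ : Odd (3 ^ k) := Odd.pow (by decide)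
          rw [hm] at hk
          have hpow : ∀ l : ℕ, ((x : G) ^ (2 * l)) * c.one.δ * ((x : G) ^ (2 * l))⁻¹ = c.one.δ := by
            intro l
            induction l with
            | zero => simp
            | succ l ih =>
              rw [show 2 * (l + 1) = 2 * l + 2 by ring, pow_add,
                show (x : G) ^ (2 * l) * (x : G) ^ 2 * c.one.δ * ((x : G) ^ (2 * l) * (x : G) ^ 2)⁻¹ =
                  (x : G) ^ (2 * l) * ((x : G) * ((x : G) * c.one.δ * (x : G)⁻¹) * (x : G)⁻¹) *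
                    ((x : G) ^ (2 * l))⁻¹ by rw [pow_two]; group,
                h _ F.δ_E, show (x : G) * c.one.δ⁻¹ * (x : G)⁻¹ = ((x : G) * c.one.δ * (x : G)⁻¹)⁻¹ by
                  group, h _ F.δ_E, inv_inv, ih]
          have hco : ((x : G) ^ (2 * m + 1)) * c.one.δ * ((x : G) ^ (2 * m + 1))⁻¹ = c.one.δ⁻¹ := by
            rw [pow_succ', show (x : G) * (x : G) ^ (2 * m) * c.one.δ * ((x : G) * (x : G) ^ (2 * m))⁻¹ =
              (x : G) * ((x : G) ^ (2 * m) * c.one.δ * ((x : G) ^ (2 * m))⁻¹) * (x : G)⁻¹ by group,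
              hpow, h _ F.δ_E]
          rcases F.mem_tH hk with e | e <;> push_cast at e <;> rw [e] at hco
          · simp only [one_mul, inv_one, mul_one] at hco
            exact c.one.δ_ne (eq_one_of_sq_cube (by nth_rw 1 [hco]; exact inv_mul_cancel _)
              (c.one.D_pow c.one.δ_mem))
          · rw [F.T.comm_D₁ c.one.δ_mem, mul_inv_cancel_right] at hco
            exact c.one.δ_ne (eq_one_of_sq_cube (by nth_rw 1 [hco]; exact inv_mul_cancel _)
              (c.one.D_pow c.one.δ_mem))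
    have hzp : IsPGroup 3 (Subgroup.zpowers (z : F.X)) := IsPGroup.of_card (n := 1) (by
      rw [Nat.card_zpowers, Subgroup.orderOf_coe, hz, pow_one])
    obtain ⟨P, hP'⟩ := hzp.exists_le_sylow
    obtain ⟨g, hg⟩ := MulAction.exists_smul_eq F.X P S
    have hgE : g * (z : F.X) * g⁻¹ ∈ F.EX := by
      rw [← hS, ← hg]
      exact ⟨z, hP' (Subgroup.mem_zpowers _), by simp [MulAut.conj_apply]⟩
    have hgC : g * (z : F.X) * g⁻¹ ∈ C := Subgroup.Normal.conj_mem inferInstance _ z.2 g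
    obtain ⟨i, j, e⟩ := (mem_EX hc).1 hgE
    have hcd : g * (z : F.X) * g⁻¹ * F.dX = F.dX * (g * (z : F.X) * g⁻¹) := by
      rw [e]
      exact (((Commute.refl F.dX).pow_left i).mul_left
        ((show Commute F.yX F.dX from F.xframe.comm.symm).pow_left j)).eq
    have h1 : g * (z : F.X) * g⁻¹ = 1 := MX_EX hc (hd _ hgC hcd) hgE
    rw [show z = 1 from Subtype.ext (conj_eq_one_iff.1 h1), orderOf_one] at hz
    exact absurd hz (by norm_num)
  haveI : IsMulCommutative F.EX := ⟨⟨fun a b => Subtype.ext (by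
    obtain ⟨i, j, e1⟩ := (mem_EX hc).1 a.2
    obtain ⟨k, l, e2⟩ := (mem_EX hc).1 b.2
    show (a : F.X) * b = b * a
    rw [e1, e2]
    have hdy : Commute F.dX F.yX := F.xframe.comm
    exact (((((Commute.refl F.dX).pow_pow i k).mul_right (hdy.pow_pow i l))).mul_left
      ((hdy.symm.pow_pow j k).mul_right ((Commute.refl F.yX).pow_pow j l))).eq)⟩⟩
  have hA : ¬ IsCyclic F.EX := fun hcyc => F.xframe.y_notMem (by
    obtain ⟨⟨g, hg⟩, hgen⟩ := hcyc.exists_generator
    have h1 : Nat.card F.EX ≤ 3 := by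
      rw [← orderOf_eq_card_of_forall_mem_zpowers hgen]
      exact orderOf_le_of_pow_eq_one (by norm_num) (Subtype.ext (EX_cube hc hg))
    have heq : Subgroup.zpowers F.dX = F.EX := Subgroup.eq_of_le_of_card_ge
      (Subgroup.zpowers_le.2 (dX_EX hc)) (by
        rw [Nat.card_zpowers, show orderOf F.dX = 3 from F.xframe.d_ord]; exact h1)
    show F.yX ∈ Subgroup.zpowers F.dX
    rw [heq]
    exact yX_EX hc)
  have hAn : F.EX ≤ Subgroup.normalizer (C : Set F.X) := fun z _ =>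
    Subgroup.mem_normalizer_fintype fun w hw => Subgroup.Normal.conj_mem inferInstance _ hw z
  have hcop : (Nat.card F.EX).Coprime (Nat.card C) := by
    obtain ⟨k, hk⟩ := IsPGroup.iff_card.1 (show IsPGroup 3 F.EX from
      fun e => ⟨1, Subtype.ext (by rw [pow_one]; exact EX_cube hc e.2)⟩)
    rw [hk]
    exact Nat.Coprime.pow_left k ((Nat.Prime.coprime_iff_not_dvd Nat.prime_three).2 hC3)
  refine Coprime.le_of_forall_inf_centralizer_le hA hAn hcop (fun a ha ha1 z hz => ?_) hq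
  obtain ⟨hzC, hza⟩ := Subgroup.mem_inf.1 hz
  have hza' : Commute z a := Subgroup.mem_centralizer_singleton_iff.1 hza
  obtain ⟨i, j, rfl⟩ := (mem_EX hc).1 ha
  have hdy : Commute F.dX F.yX := F.xframe.comm
  have h3d : F.dX ^ 3 = 1 := EX_cube hc (dX_EX hc)
  have h3y : F.yX ^ 3 = 1 := EX_cube hc (yX_EX hc)
  have h2 := hza'.pow_right 2
  rw [(hdy.pow_pow i j).mul_pow, ← pow_mul, ← pow_mul, pow_eq_pow_mod (i * 2) h3d,
    pow_eq_pow_mod (j * 2) h3y, Nat.mul_mod i, Nat.mul_mod j] at h2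
  rw [pow_eq_pow_mod i h3d, pow_eq_pow_mod j h3y] at hza' ha1
  have hyinv : F.yX⁻¹ = F.yX ^ 2 := inv_eq_of_mul_eq_one_right (by rw [← pow_succ']; exact h3y)
  rcases (show i % 3 = 0 ∨ i % 3 = 1 ∨ i % 3 = 2 by omega) with ei | ei | ei <;>
    rcases (show j % 3 = 0 ∨ j % 3 = 1 ∨ j % 3 = 2 by omega) with ej | ej | ej <;>
      simp only [ei, ej, pow_zero, pow_one, one_mul, mul_one,
        Nat.one_mod, Nat.zero_mod, Nat.mul_mod_left, show (2 * 2 : ℕ) % 3 = 1 from rfl,
        show (1 * (2 % 3) : ℕ) % 3 = 2 from rfl, show (2 * (2 % 3) : ℕ) % 3 = 1 from rfl,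
        show (0 * (2 % 3) : ℕ) % 3 = 0 from rfl] at hza' h2 ha1
  · exact absurd rfl ha1
  · exact hy z hzC hza'.eq
  · exact hy z hzC h2.eq
  · exact hd z hzC hza'.eq
  · exact hdiag _ (Or.inl rfl) z hzC hza'.eq
  · exact hdiag _ (Or.inr (by rw [hyinv])) z hzC hza'.eq
  · exact hd z hzC h2.eq
  · exact hdiag _ (Or.inr (by rw [hyinv])) z hzC h2.eq
  · exact hdiag _ (Or.inl rfl) z hzC h2.eq

theorem MX_mem_sup {q : F.X} (hq : q ∈ F.MX ⊔ F.EX) : ∃ m ∈ F.MX, ∃ e ∈ F.EX, q = m * e := by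
  haveI := MX_normal hc
  obtain ⟨m, hm, e, he, rfl⟩ := Subgroup.mem_sup_of_normal_left.1 hq
  exact ⟨m, hm, e, he, rfl⟩

/-- Fourth powers lie in `M E`. -/
theorem four_mem (q : F.X) : q * q * (q * q) ∈ F.MX ⊔ F.EX := by
  obtain ⟨hD, hY⟩ := sq_norm hc q
  have hdy : Commute F.dX F.yX := F.xframe.comm
  obtain ⟨k, hk⟩ := sq_act (V := F.img F.T.part) F.xframe.card_VD (EX_cube hc (yX_EX hc))
    (fun v hv => F.xframe.norm_VD F.yX (by
      show F.yX * F.dX * F.yX⁻¹ ∈ Subgroup.zpowers F.dX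
      rw [← hdy.eq, mul_inv_cancel_right]; exact Subgroup.mem_zpowers _) v hv)
    (fun v hv => F.xframe.fpf_VD v hv) hD
  obtain ⟨l, hl⟩ := sq_act (V := F.img F.partY) F.xframe.card_VY (EX_cube hc (dX_EX hc))
    (fun v hv => F.xframe.norm_VY F.dX (by
      show F.dX * F.yX * F.dX⁻¹ ∈ Subgroup.zpowers F.yX
      rw [hdy.eq, mul_inv_cancel_right]; exact Subgroup.mem_zpowers _) v hv)
    (fun v hv => F.xframe.fpf_VY v hv) hY
  set e := F.dX ^ l * F.yX ^ k with he
  have heE : e ∈ F.EX := (mem_EX hc).2 ⟨l, k, rfl⟩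
  have hm : e⁻¹ * (q * q * (q * q)) ∈ F.MX := by
    refine cent_both hc (fun v hv => ?_) (fun v hv => ?_)
    · have hdv : ∀ u ∈ F.img F.T.part, Commute (F.dX ^ l) u := fun u hu =>
        (show Commute F.dX u from ((F.xframe.cent_d u).2 ⟨u, hu, 0, 0, by simp⟩).symm).pow_left l
      rw [← mul_inv_eq_iff_eq_mul]
      calc e⁻¹ * (q * q * (q * q)) * v * (e⁻¹ * (q * q * (q * q)))⁻¹
          = e⁻¹ * ((q * q * (q * q)) * v * (q * q * (q * q))⁻¹) * e := by group
        _ = e⁻¹ * (F.yX ^ k * v * (F.yX ^ k)⁻¹) * e := by rw [hk v hv]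
        _ = (F.yX ^ k)⁻¹ * ((F.dX ^ l)⁻¹ * (F.yX ^ k * v * (F.yX ^ k)⁻¹) * F.dX ^ l) * F.yX ^ k := by
            rw [he]; group
        _ = v := by
            rw [(hdv _ (hk v hv ▸ (by
              have := hD _ (hD v hv)
              rwa [show q * q * (q * q * v * (q * q)⁻¹) * (q * q)⁻¹ =
                q * q * (q * q) * v * (q * q * (q * q))⁻¹ by group] at this))).inv_left.eq,
              inv_mul_cancel_right]
            group
    · have hyv : ∀ u ∈ F.img F.partY, Commute (F.yX ^ k) u := fun u hu =>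
        (show Commute F.yX u from ((F.xframe.cent_y u).2 ⟨u, hu, 0, 0, by simp⟩).symm).pow_left k
      rw [← mul_inv_eq_iff_eq_mul]
      calc e⁻¹ * (q * q * (q * q)) * v * (e⁻¹ * (q * q * (q * q)))⁻¹
          = e⁻¹ * ((q * q * (q * q)) * v * (q * q * (q * q))⁻¹) * e := by group
        _ = e⁻¹ * (F.dX ^ l * v * (F.dX ^ l)⁻¹) * e := by rw [hl v hv]
        _ = (F.yX ^ k)⁻¹ * v * F.yX ^ k := by rw [he]; group
        _ = v := by rw [(hyv v hv).inv_left.eq, inv_mul_cancel_right]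
  have := mul_mem (Subgroup.mem_sup_right (S := F.MX) heE) (Subgroup.mem_sup_left (T := F.EX) hm)
  rwa [mul_inv_cancel_left] at this

theorem three_mem {q : F.X} {k : ℕ} (hq : q ^ (3 ^ k) = 1) : q ∈ F.MX ⊔ F.EX := by
  obtain ⟨m, hm⟩ : Odd (3 ^ k) := Odd.pow (by decide)
  rw [hm] at hq
  refine mem_of_odd_power hq (mem_of_odd_power (k := m) ?_ (four_mem hc q))
  rw [← pow_two, ← pow_mul, mul_comm, pow_mul, hq, one_pow]

/-- The whole quotient. -/
theorem cover_X (q : F.X) : q ∈ F.MX ⊔ F.EX ∨ q * F.sX ∈ F.MX ⊔ F.EX := by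
  classical
  set ME := F.MX ⊔ F.EX with hME
  have hE3 : IsPGroup 3 F.EX := fun e => ⟨1, Subtype.ext (by rw [pow_one]; exact EX_cube hc e.2)⟩
  have hEle : F.EX ≤ ME := le_sup_right
  have hq1 : (F.EX.map (MulAut.conj q).toMonoidHom) ≤ ME := by
    rintro _ ⟨e, he, rfl⟩
    exact three_mem hc (k := 1) (by
      show (q * e * q⁻¹) ^ 3 = 1
      rw [conj_pow, EX_cube hc he, mul_one, mul_inv_cancel])
  have hnorm : ∀ n : F.X, (∀ e ∈ F.EX, n * e * n⁻¹ ∈ F.EX) → n ∈ F.EX ∨ n * F.sX ∈ F.EX := by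
    intro n hn
    induction n using QuotientGroup.induction_on with
    | H x =>
      have hxt := F.mem_H.1 x.2
      have hmap : ∀ e ∈ F.E, (x : G) * e * (x : G)⁻¹ ∈ F.E := by
        intro e he
        have heH : e ∈ F.H := F.mem_H.2 (F.E_t he).symm
        have h1 : ((x * ⟨e, heH⟩ * x⁻¹ : F.H) : F.X) ∈ F.EX := by
          rw [QuotientGroup.mk_mul, QuotientGroup.mk_mul, QuotientGroup.mk_inv]
          exact hn _ (F.mem_img.2 ⟨⟨e, heH⟩, he, rfl⟩)
        obtain ⟨e', he', hee⟩ := F.mem_img.1 h1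
        have := F.cube_lift (F.E_cube he') (by push_cast; rw [conj_pow, F.E_cube he, mul_one,
          mul_inv_cancel]) hee
        push_cast at this
        rwa [this]
      have key : ∀ z : F.H, (∀ e ∈ F.E, (z : G) * e * (z : G)⁻¹ = e) → (z : F.X) ∈ F.EX := by
        intro z hz
        have hzt := F.mem_H.1 z.2
        rcases F.cent_E (mul_inv_eq_iff_eq_mul.1 (hz _ F.δ_E))
          (mul_inv_eq_iff_eq_mul.1 (hz _ F.y_E)) with h | h
        · exact F.mem_img.2 ⟨z, F.mem_E_of_fixed h hzt.symm, rfl⟩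
        · refine F.mem_img.2 ⟨z * F.tH, ?_, ?_⟩
          · show (z : G) * F.T.t ∈ F.E
            rw [← hzt] at h
            exact F.mem_E_of_fixed h
              ((show Commute F.T.t (z : G) from hzt.symm).mul_right (Commute.refl _)).eq
          · rw [QuotientGroup.mk_mul, (QuotientGroup.eq_one_iff _).2 (Subgroup.mem_zpowers _), mul_one]
      rcases F.norm_E hxt hmap with h | h
      · exact Or.inl (key x h)
      · refine Or.inr (show ((x * ⟨F.T.s, F.s_H⟩ : F.H) : F.X) ∈ F.EX from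
          key (x * ⟨F.T.s, F.s_H⟩) fun e he => ?_)
        show (x : G) * F.T.s * e * ((x : G) * F.T.s)⁻¹ = e
        rw [show (x : G) * F.T.s * e * ((x : G) * F.T.s)⁻¹ = (x : G) * (F.T.s * e * F.T.s⁻¹) * (x : G)⁻¹
          by group, F.E_s he, h _ (inv_mem he), inv_inv]
  obtain ⟨S, hS⟩ := exists_sylow_eq hE3 fun n hn h3 => by
    rcases hnorm n (fun e he => conj_mem_norm hn he) with h | h
    · exact h
    · exfalso
      obtain ⟨k, hk⟩ := h3
      obtain ⟨m, hm⟩ : Odd (3 ^ k) := Odd.pow (by decide)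
      rw [hm] at hk
      obtain ⟨e, he, hes⟩ : ∃ e ∈ F.EX, n = e * F.sX⁻¹ := ⟨_, h, (mul_inv_cancel_right n _).symm⟩
      have hsinv : F.sX⁻¹ = F.sX := inv_eq_of_mul_eq_one_right (by
        have := pow_orderOf_eq_one F.sX
        rwa [show orderOf F.sX = 2 from F.xframe.s_ord, pow_two] at this)
      have hse : F.sX * e * F.sX = e⁻¹ := by
        obtain ⟨i, j, rfl⟩ := (mem_EX hc).1 he
        have h1 : F.sX * F.dX * F.sX⁻¹ = F.dX⁻¹ := by rw [hsinv]; exact F.xframe.s_inv_d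
        have h2 : F.sX * F.yX * F.sX⁻¹ = F.yX⁻¹ := by rw [hsinv]; exact F.xframe.s_inv_y
        conv_lhs => arg 2; rw [← hsinv]
        rw [show F.sX * (F.dX ^ i * F.yX ^ j) * F.sX⁻¹ =
          (F.sX * F.dX ^ i * F.sX⁻¹) * (F.sX * F.yX ^ j * F.sX⁻¹) by group, ← conj_pow, ← conj_pow,
          h1, h2, inv_pow, inv_pow, _root_.mul_inv_rev]
        exact (((show Commute F.dX F.yX from F.xframe.comm).pow_pow i j).inv_inv).eq
      have hnn : n * n = 1 := by
        rw [hes, hsinv, show e * F.sX * (e * F.sX) = e * (F.sX * e * F.sX) by group, hse, mul_inv_cancel]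
      rw [pow_succ, pow_mul, pow_two, hnn, one_pow, one_mul] at hk
      rw [hk, one_mul] at h
      have h3 := EX_cube hc h
      have h2 : F.sX * F.sX = 1 := by nth_rw 1 [← hsinv]; exact inv_mul_cancel _
      have h1 : F.sX = 1 := eq_one_of_sq_cube h2 h3
      have hord : orderOf F.sX = 2 := F.xframe.s_ord
      rw [h1, orderOf_one] at hord
      exact absurd hord (by norm_num)
  obtain ⟨P, hP⟩ : ∃ P : Sylow 3 ME, (P : Subgroup ME) = F.EX.subgroupOf ME := by
    refine ⟨S.subtype (hS ▸ hEle), ?_⟩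
    rw [Sylow.coe_subtype, hS]
  have hQ : IsPGroup 3 ((F.EX.map (MulAut.conj q).toMonoidHom).subgroupOf ME) :=
    (hE3.map _).comap_of_injective ME.subtype ME.subtype_injective
  obtain ⟨P', hP'⟩ := hQ.exists_le_sylow
  obtain ⟨g, hg⟩ := MulAction.exists_smul_eq ME P' P
  have key : ∀ e ∈ F.EX, (g : F.X) * q * e * ((g : F.X) * q)⁻¹ ∈ F.EX := fun e he => by
    have hin : (⟨q * e * q⁻¹, hq1 ⟨e, he, rfl⟩⟩ : ME) ∈ (P' : Subgroup ME) :=
      hP' (Subgroup.mem_subgroupOf.2 ⟨e, he, rfl⟩)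
    have : g * ⟨q * e * q⁻¹, hq1 ⟨e, he, rfl⟩⟩ * g⁻¹ ∈ (P : Subgroup ME) := by
      rw [← hg]
      exact ⟨_, hin, by simp [MulAut.conj_apply]⟩
    rw [hP, Subgroup.mem_subgroupOf] at this
    convert this using 1
    push_cast
    group
  rcases hnorm _ key with h | h
  · left
    have := mul_mem (inv_mem g.2) (hEle h)
    rwa [inv_mul_cancel_left] at this
  · right
    have := mul_mem (inv_mem g.2) (hEle h)
    rwa [← mul_assoc, inv_mul_cancel_left] at this

theorem sX_notMem : F.sX ∉ F.MX ⊔ F.EX := by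
  intro h
  obtain ⟨m, hm, e, he, hse⟩ := MX_mem_sup hc h
  haveI := MX_normal hc
  have hed : Commute e F.dX := by
    obtain ⟨i, j, rfl⟩ := (mem_EX hc).1 he
    exact ((Commute.refl F.dX).pow_left i).mul_left
      ((show Commute F.yX F.dX from F.xframe.comm.symm).pow_left j)
  have hs : F.sX * F.dX * F.sX⁻¹ = F.dX⁻¹ := by
    have hsinv : F.sX⁻¹ = F.sX := inv_eq_of_mul_eq_one_right (by
      have := pow_orderOf_eq_one F.sX
      rwa [show orderOf F.sX = 2 from F.xframe.s_ord, pow_two] at this)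
    rw [hsinv]; exact F.xframe.s_inv_d
  rw [hse, show m * e * F.dX * (m * e)⁻¹ = m * (e * F.dX * e⁻¹) * m⁻¹ by group, hed.eq,
    mul_inv_cancel_right] at hs
  have h1 : m * F.dX * m⁻¹ * F.dX⁻¹ ∈ F.MX := by
    rw [show m * F.dX * m⁻¹ * F.dX⁻¹ = m * (F.dX * m⁻¹ * F.dX⁻¹) by group]
    exact mul_mem hm (Subgroup.Normal.conj_mem inferInstance _ (inv_mem hm) _)
  rw [hs] at h1
  have h2 := MX_EX hc h1 (mul_mem (inv_mem (dX_EX hc)) (inv_mem (dX_EX hc)))
  have h3 : F.dX * F.dX = 1 := by rw [← inv_eq_one, _root_.mul_inv_rev]; exact h2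
  have h4 := eq_one_of_sq_cube h3 (EX_cube hc (dX_EX hc))
  have hord : orderOf F.dX = 3 := F.xframe.d_ord
  rw [h4, orderOf_one] at hord
  exact absurd hord (by norm_num)

end Frame

end Setup

end CfsgLib.G2Amalgam
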