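import Cfsg.Agent.G2Amalgam.Setup

/-!
# The amalgam of type `G₂(3)`: the torus and the elementary subgroup of order nine in its centraliser
-/

set_option autoImplicit false
set_option linter.unusedSectionVars false
set_option maxRecDepth 100000

namespace CfsgLib.G2Amalgam

open Matrix

attribute [local instance] fact_three'

variable {G : Type*} [Group G]

theorem vec_neg_self : ∀ v : Vec, v = -v → v = 0 := by decide +kernel

theorem vec_double : ∀ v : Vec, v ≠ 0 → v + v ≠ 0 := by decide +kernel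

theorem eq_one_of_sq_cube {x : G} (h2 : x * x = 1) (h3 : x ^ 3 = 1) : x = 1 := by
  rwa [pow_succ, pow_two, h2, one_mul] at h3

namespace Setup

variable [Finite G] (c : Setup G)

/-- An element of `A₁` fixing the line `K/Z₁` is a product with an element of `U`. -/
theorem mem_U_of_fix {x : G} (hx : x ∈ c.one.A)
    (h3 : c.one.P.ρ x * c.one.P.ρ x * c.one.P.ρ x = 1) {k : G} (hk : k ∈ c.K) (hk1 : k ∉ c.one.Z)
    (hfix : c.one.P.ρ x *ᵥ c.one.P.v k = c.one.P.v k) : x ∈ c.U := by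
  have hv : c.one.P.v k ≠ 0 := fun e => hk1 ((c.one.P.v_ker _ hk.1).1 e)
  obtain ⟨i, hi⟩ : ∃ i : ℕ, c.one.P.ρ x = c.one.P.ρ c.u₀ ^ i := by
    rcases line_cubes _ _ (c.one.P.three c.u₀_A (c.U_pow c.u₀_U)) c.P_u₀_ne h3 _ hv
      (c.P_fix c.u₀_U hk) hfix with e | e | e
    · exact ⟨0, by rw [e, pow_zero]⟩
    · exact ⟨1, by rw [e, pow_one]⟩
    · exact ⟨2, by rw [e, pow_two]⟩
  have hA : (c.u₀ ^ i)⁻¹ * x ∈ c.one.A := mul_mem (inv_mem (pow_mem c.u₀_A i)) hx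
  have hq : (c.u₀ ^ i)⁻¹ * x ∈ c.one.Q := (c.one.P.ρ_ker _ hA).1 (by
    rw [c.one.P.ρ_mul _ (inv_mem (pow_mem c.u₀_A i)) x hx, hi, ← c.one.P.ρ_pow c.u₀_A i,
      c.one.P.ρ_inv' (pow_mem c.u₀_A i)])
  have := mul_mem (pow_mem c.u₀_U i) (c.Q_le_U hq)
  rwa [mul_inv_cancel_left] at this

theorem exists_K_notZ : ∃ k ∈ c.K, k ∉ c.one.Z :=
  SetLike.not_le_iff_exists.1 fun h => by
    have := Subgroup.card_le_of_le h
    rw [c.card_K, c.one.card_Z] at this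
    omega

/-- An element of `A₁` normalising `K` normalises `U`. -/
theorem norm_U_of_norm_K {n : G} (hn : n ∈ c.one.A) (h : ∀ k ∈ c.K, n * k * n⁻¹ ∈ c.K) :
    n ∈ Subgroup.normalizer (c.U : Set G) := by
  refine Subgroup.mem_normalizer_fintype fun u hu => ?_
  obtain ⟨k, hk, hk1⟩ := c.exists_K_notZ
  have hxA : n * u * n⁻¹ ∈ c.one.A := mul_mem (mul_mem hn (c.U_le₁ hu)) (inv_mem hn)
  have hnK : n ∈ Subgroup.normalizer (c.K : Set G) := Subgroup.mem_normalizer_fintype h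
  have hk' : n⁻¹ * k * n⁻¹⁻¹ ∈ c.K := conj_mem_norm (inv_mem hnK) hk
  refine c.mem_U_of_fix hxA (c.one.P.three hxA ?_) hk hk1 ?_
  · rw [conj_pow, c.U_pow hu, mul_one, mul_inv_cancel]
  · rw [c.one.P.ρ_mul _ (mul_mem hn (c.U_le₁ hu)) _ (inv_mem hn), c.one.P.ρ_mul n hn u (c.U_le₁ hu),
      ← Matrix.mulVec_mulVec, ← Matrix.mulVec_mulVec, ← c.one.P.v_conj _ (inv_mem hn) k hk.1,
      c.P_fix hu hk', ← c.one.P.v_conj n hn _ hk'.1]
    congr 1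
    group

/-- The two commuting involutions. -/
structure Torus where
  t : G
  s : G
  t₁ : t ∈ c.one.A
  t₂ : t ∈ c.two.A
  s₁ : s ∈ c.one.A
  s₂ : s ∈ c.two.A
  tt : t * t = 1
  ss : s * s = 1
  ts : t * s = s * t
  ρt : c.one.P.ρ t = -1
  ρs : c.two.P.ρ s = -1
  tU : t ∈ Subgroup.normalizer (c.U : Set G)
  sU : s ∈ Subgroup.normalizer (c.U : Set G)

theorem exists_Torus : Nonempty c.Torus := by
  obtain ⟨t, s, h1, h2, h3, h4, h5, h6, h7, h8, h9, h10, h11⟩ := c.exists_torus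
  exact ⟨⟨t, s, h1, h2, h3, h4, h5, h6, h7, h8, h9, h10, h11⟩⟩

namespace Torus

variable {c} (T : c.Torus)

/-- Exchange of the two sides. -/
def swap : c.swap.Torus where
  t := T.s
  s := T.t
  t₁ := T.s₂
  t₂ := T.s₁
  s₁ := T.t₂
  s₂ := T.t₁
  tt := T.ss
  ss := T.tt
  ts := T.ts.symm
  ρt := T.ρs
  ρs := T.ρt
  tU := T.sU
  sU := T.tU

theorem ti : T.t⁻¹ = T.t := inv_eq_of_mul_eq_one_right T.tt
theorem si : T.s⁻¹ = T.s := inv_eq_of_mul_eq_one_right T.ss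

theorem det_t₁ : (c.one.P.ρ T.t).det = 1 := by rw [T.ρt]; decide

theorem St : c.one.S.ρ T.t = -1 := c.one.neg_one T.t₁ T.ρt

theorem comm_D₁ {d : G} (hd : d ∈ c.one.D) : T.t * d = d * T.t := c.one.comm_D T.t₁ hd T.det_t₁

/-- The first involution inverts `D₂`. -/
theorem inv_D₂ {d : G} (hd : d ∈ c.two.D) : T.t * d * T.t⁻¹ = d⁻¹ := by
  have hz := c.D₂_le_Z hd
  have hc := c.one.conj_Z T.t₁ hz
  have h1 : T.t * d * T.t⁻¹ * d ∈ c.one.D := by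
    rw [← c.one.S.v_ker _ (mul_mem hc hz), c.one.S.v_mul _ hc _ hz, c.one.S.v_conj _ T.t₁ _ hz,
      T.St, neg_mulVec, one_mulVec, neg_add_cancel]
  exact eq_inv_of_mul_eq_one_left (c.D_disjoint h1 (mul_mem (c.two.conj_D T.t₂ hd) hd))

theorem det_t₂ : (c.two.P.ρ T.t).det = -1 := by
  refine (det_cases _ (c.two.P.ρ_det _ T.t₂)).resolve_left fun e => c.two.δ_ne ?_
  have h := T.inv_D₂ c.two.δ_mem
  rw [c.two.comm_D T.t₂ c.two.δ_mem e, mul_inv_cancel_right] at h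
  exact eq_one_of_sq_cube (by nth_rw 2 [h]; exact mul_inv_cancel _) (c.two.D_pow c.two.δ_mem)

theorem det_ts₁ : (c.one.P.ρ (T.t * T.s)).det = -1 := by
  rw [c.one.P.ρ_mul _ T.t₁ _ T.s₁, det_mul, T.det_t₁, one_mul]
  exact T.swap.det_t₂

/-- Elements of `Q₁` fixed by `t` lie in `D₁`. -/
theorem cent_Q₁ {q : G} (hq : q ∈ c.one.Q) (h : T.t * q = q * T.t) : q ∈ c.one.D := by
  have e : T.t * q * T.t⁻¹ = q := by rw [h, mul_inv_cancel_right]
  have hz : q ∈ c.one.Z := (c.one.P.v_ker _ hq).1 (vec_neg_self _ (by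
    conv_lhs => rw [← e, c.one.P.v_conj _ T.t₁ _ hq, T.ρt, neg_mulVec, one_mulVec]))
  exact (c.one.S.v_ker _ hz).1 (vec_neg_self _ (by
    conv_lhs => rw [← e, c.one.S.v_conj _ T.t₁ _ hz, T.St, neg_mulVec, one_mulVec]))

/-- Elements of `Z₂` fixed by `t` lie in `D₁`. -/
theorem cent_Z₂ {z : G} (hz : z ∈ c.two.Z) (h : T.t * z = z * T.t) : z ∈ c.one.D := by
  have hd := c.one.δ_mem
  have hdz : c.one.δ ∈ c.two.Z := c.D₁_le_Z hd
  have hdet : (c.two.S.ρ T.t).det = -1 := by rw [c.two.det_eq T.t₂, T.det_t₂]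
  have h1 : c.two.S.ρ T.t *ᵥ c.two.S.v z = c.two.S.v z := by
    rw [← c.two.S.v_conj _ T.t₂ _ hz, h, mul_inv_cancel_right]
  have h2 : c.two.S.ρ T.t *ᵥ c.two.S.v c.one.δ = c.two.S.v c.one.δ := by
    rw [← c.two.S.v_conj _ T.t₂ _ hdz, T.comm_D₁ hd, mul_inv_cancel_right]
  obtain ⟨i, hi⟩ := invol_lines _ (c.two.S.ρ_sq_one T.t₂ T.tt) hdet _ _
    (fun e => c.one.δ_ne (c.D_disjoint hd ((c.two.S.v_ker _ hdz).1 e))) h2 h1
  have hp : c.one.δ ^ i.val ∈ c.two.Z := pow_mem hdz _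
  have hw : z * (c.one.δ ^ i.val)⁻¹ ∈ c.two.D := by
    rw [← c.two.S.v_ker _ (mul_mem hz (inv_mem hp)), c.two.S.v_mul _ hz _ (inv_mem hp),
      c.two.S.v_inv hp, c.two.S.v_pow hdz, ZMod.natCast_zmod_val, hi, add_neg_cancel]
  have hw1 : z * (c.one.δ ^ i.val)⁻¹ = 1 := by
    have h3 := T.inv_D₂ hw
    have h4 : T.t * (z * (c.one.δ ^ i.val)⁻¹) = z * (c.one.δ ^ i.val)⁻¹ * T.t :=
      ((show Commute T.t z from h).mul_right
        ((show Commute T.t c.one.δ from T.comm_D₁ hd).pow_right _).inv_right).eq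
    rw [h4, mul_inv_cancel_right] at h3
    exact eq_one_of_sq_cube (by nth_rw 2 [h3]; exact mul_inv_cancel _) (c.two.D_pow hw)
  rw [mul_inv_eq_one] at hw1
  rw [hw1]
  exact pow_mem hd _

/-- Elements of `Z₁` inverted by `t` are conjugate to `δ₂`. -/
theorem inv_conj {z : G} (hz : z ∈ c.one.Z) (hz1 : z ∉ c.one.D) (h : T.t * z * T.t⁻¹ = z⁻¹) :
    ∃ a ∈ c.one.A, a * c.two.δ * a⁻¹ = z := by
  obtain ⟨P, hP, hPv⟩ := trans_vec _ (c.one.S.v z) c.S_δ₂_ne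
    (fun e => hz1 ((c.one.S.v_ker _ hz).1 e))
  obtain ⟨a, ha, haρ⟩ := c.one.S.ρ_surj P (by rw [hP]; decide)
  have hat : a * T.t * a⁻¹ ∈ c.one.A := mul_mem (mul_mem ha T.t₁) (inv_mem ha)
  obtain ⟨k, hk, hkt⟩ := c.one.exists_conj T.t₁ hat T.tt
    (by rw [show a * T.t * a⁻¹ * (a * T.t * a⁻¹) = a * (T.t * T.t) * a⁻¹ by group, T.tt, mul_one,
      mul_inv_cancel])
    (by rw [c.one.P.ρ_mul _ (mul_mem ha T.t₁) _ (inv_mem ha), c.one.P.ρ_mul a ha _ T.t₁, T.ρt,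
      mul_neg_one, neg_mul, c.one.P.ρ_inv ha])
  set x := k⁻¹ * a with hx
  have hxA : x ∈ c.one.A := mul_mem (inv_mem (c.one.Q_le hk)) ha
  have hxt : x * T.t * x⁻¹ = T.t := by
    rw [hx, show k⁻¹ * a * T.t * (k⁻¹ * a)⁻¹ = k⁻¹ * (a * T.t * a⁻¹) * k by group, ← hkt]
    group
  set z' := x * c.two.δ * x⁻¹ with hz'
  have hz'Z : z' ∈ c.one.Z := c.one.conj_Z hxA c.δ₂_mem_Z
  have hv : c.one.S.v z' = c.one.S.v z := by
    rw [hz', c.one.S.v_conj x hxA _ c.δ₂_mem_Z, hx,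
      c.one.S.ρ_Q_mul ha (inv_mem (c.one.Q_le hk)) (inv_mem hk), haρ, hPv]
  refine ⟨x, hxA, ?_⟩
  show z' = z
  have hd : z'⁻¹ * z ∈ c.one.D := (c.one.S.v_eq_iff hz'Z hz).1 hv
  have hinv : T.t * z' * T.t⁻¹ = z'⁻¹ := by
    calc T.t * z' * T.t⁻¹ = (x * T.t * x⁻¹) * (x * c.two.δ * x⁻¹) * (x * T.t * x⁻¹)⁻¹ := by
          rw [hxt]
      _ = x * (T.t * c.two.δ * T.t⁻¹) * x⁻¹ := by group
      _ = z'⁻¹ := by rw [T.inv_D₂ c.two.δ_mem, hz']; group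
  have h5 : T.t * (z'⁻¹ * z) * T.t⁻¹ = (z'⁻¹ * z)⁻¹ := by
    rw [show T.t * (z'⁻¹ * z) * T.t⁻¹ = (T.t * z' * T.t⁻¹)⁻¹ * (T.t * z * T.t⁻¹) by group, hinv, h,
      inv_inv, _root_.mul_inv_rev, inv_inv, c.one.Z_comm hz'Z (c.one.Z_le (inv_mem hz))]
  rw [T.comm_D₁ hd, mul_inv_cancel_right] at h5
  have := eq_one_of_sq_cube (by nth_rw 2 [h5]; exact mul_inv_cancel _) (c.one.D_pow hd)
  exact inv_mul_eq_one.1 this

/-- An element of `Z₁` inverted by `t` and fixed by `ts`. -/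
theorem exists_l : ∃ l ∈ c.one.Z, l ∉ c.one.D ∧ T.t * l * T.t⁻¹ = l⁻¹ ∧
    T.t * T.s * l = l * (T.t * T.s) := by
  set u := T.t * T.s with hu
  have hu1 : u ∈ c.one.A := mul_mem T.t₁ T.s₁
  have huu : u * u = 1 := by
    rw [hu, show T.t * T.s * (T.t * T.s) = T.t * (T.s * T.t) * T.s by group, ← T.ts,
      show T.t * (T.t * T.s) * T.s = T.t * T.t * (T.s * T.s) by group, T.tt, T.ss, one_mul]
  have hui : u⁻¹ = u := inv_eq_of_mul_eq_one_right huu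
  obtain ⟨v, hv, hfix⟩ := (invol_fixed _ (c.one.S.ρ_sq_one hu1 huu)
    (by rw [c.one.det_eq hu1, hu, T.det_ts₁])).1
  obtain ⟨z, hz, rfl⟩ := c.one.S.v_surj v
  have hz' := c.one.conj_Z hu1 hz
  set l := z * (u * z * u⁻¹) with hl
  have hlZ : l ∈ c.one.Z := mul_mem hz hz'
  have hlv : c.one.S.v l = c.one.S.v z + c.one.S.v z := by
    rw [hl, c.one.S.v_mul _ hz _ hz', c.one.S.v_conj _ hu1 _ hz, hfix]
  have hul : u * l * u⁻¹ = l := by
    rw [hl, show u * (z * (u * z * u⁻¹)) * u⁻¹ = (u * z * u⁻¹) * ((u * u) * z * (u * u)⁻¹) by group,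
      huu, inv_one, one_mul, mul_one]
    exact (c.one.Z_comm hz' (c.one.Z_le hz))
  have htl := c.one.conj_Z T.t₁ hlZ
  have hd : T.t * l * T.t⁻¹ * l ∈ c.one.D := by
    rw [← c.one.S.v_ker _ (mul_mem htl hlZ), c.one.S.v_mul _ htl _ hlZ,
      c.one.S.v_conj _ T.t₁ _ hlZ, T.St, neg_mulVec, one_mulVec, neg_add_cancel]
  refine ⟨l, hlZ, fun h => vec_double _ hv (hlv ▸ (c.one.S.v_ker _ hlZ).2 h), ?_,
    mul_inv_eq_iff_eq_mul.1 hul⟩
  have htu : u * T.t = T.t * u := by rw [hu, mul_assoc, ← T.ts]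
  have hud : u * (T.t * l * T.t⁻¹ * l) * u⁻¹ = T.t * l * T.t⁻¹ * l := by
    rw [show u * (T.t * l * T.t⁻¹ * l) * u⁻¹ =
      (u * T.t) * l * (u * T.t)⁻¹ * (u * l * u⁻¹) by group, hul, htu,
      show T.t * u * l * (T.t * u)⁻¹ = T.t * (u * l * u⁻¹) * T.t⁻¹ by group, hul]
  rw [c.one.inv_D hu1 hd (hu ▸ T.det_ts₁)] at hud
  exact eq_inv_of_mul_eq_one_left
    (eq_one_of_sq_cube (by nth_rw 1 [← hud]; exact inv_mul_cancel _) (c.one.D_pow hd))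

/-- The element `y` and the conjugating elements. -/
theorem exists_y : ∃ y h : G, y ∈ c.two.Q ∧ y ∉ c.two.Z ∧ y ^ 3 = 1 ∧ T.t * y = y * T.t ∧
    T.s * y * T.s⁻¹ = y⁻¹ ∧ h * T.s * h⁻¹ = T.t ∧ h * c.two.δ * h⁻¹ = y := by
  obtain ⟨l, hl, hlD, hlt, hlu⟩ := T.exists_l
  obtain ⟨a, ha, hal⟩ := T.inv_conj hl hlD hlt
  set u := T.t * T.s with hu
  have hu2 : u ∈ c.two.A := mul_mem T.t₂ T.s₂
  have huu : u * u = 1 := by
    rw [hu, show T.t * T.s * (T.t * T.s) = T.t * (T.s * T.t) * T.s by group, ← T.ts,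
      show T.t * (T.t * T.s) * T.s = T.t * T.t * (T.s * T.s) by group, T.tt, T.ss, one_mul]
  have hdu : (c.two.P.ρ u).det = -1 := by
    rw [hu, c.two.P.ρ_mul _ T.t₂ _ T.s₂, det_mul, T.det_t₂, show (c.two.P.ρ T.s).det = 1 from T.swap.det_t₁, mul_one]
  obtain ⟨P, hP, hPe⟩ := invol_conj _ (c.two.P.ρ_sq_one T.t₂ T.tt) T.det_t₂
  obtain ⟨R, hR, hRe⟩ := invol_conj _ (c.two.P.ρ_sq_one hu2 huu) hdu
  obtain ⟨p, hp, rfl⟩ := c.two.P.ρ_surj P hP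
  obtain ⟨r, hr, rfl⟩ := c.two.P.ρ_surj R hR
  have hρ : c.two.P.ρ (r * u * r⁻¹) = c.two.P.ρ (p * T.t * p⁻¹) := by
    rw [c.two.P.ρ_mul _ (mul_mem hr hu2) _ (inv_mem hr), c.two.P.ρ_mul r hr u hu2, hRe,
      c.two.P.ρ_mul _ (mul_mem hp T.t₂) _ (inv_mem hp), c.two.P.ρ_mul p hp _ T.t₂, hPe,
      Matrix.mul_assoc, c.two.P.ρ_inv hr, Matrix.mul_assoc, c.two.P.ρ_inv hp]
  obtain ⟨k, hk, hke⟩ := c.two.exists_conj (mul_mem (mul_mem hr hu2) (inv_mem hr))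
    (mul_mem (mul_mem hp T.t₂) (inv_mem hp))
    (by rw [show r * u * r⁻¹ * (r * u * r⁻¹) = r * (u * u) * r⁻¹ by group, huu, mul_one,
      mul_inv_cancel])
    (by rw [show p * T.t * p⁻¹ * (p * T.t * p⁻¹) = p * (T.t * T.t) * p⁻¹ by group, T.tt, mul_one,
      mul_inv_cancel]) hρ
  set g := p⁻¹ * k * r with hg
  have hgA : g ∈ c.two.A := mul_mem (mul_mem (inv_mem hp) (c.two.Q_le hk)) hr
  have hgu : g * u * g⁻¹ = T.t := by
    rw [hg, show p⁻¹ * k * r * u * (p⁻¹ * k * r)⁻¹ = p⁻¹ * (k * (r * u * r⁻¹) * k⁻¹) * p by group,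
      hke]
    group
  set y := g * l * g⁻¹ with hy
  have hyQ : y ∈ c.two.Q := c.two.conj_Q hgA (c.Z₁_le_K hl).2
  have hyt : T.t * y = y * T.t := by
    rw [hy, ← hgu, show g * u * g⁻¹ * (g * l * g⁻¹) = g * (u * l) * g⁻¹ by group, hlu]
    group
  have hya : (g * a) * c.two.δ * (g * a)⁻¹ = y := by rw [hy, ← hal]; group
  have hy3 : y ^ 3 = 1 := by
    rw [← hya, conj_pow, c.two.D_pow c.two.δ_mem, mul_one, mul_inv_cancel]
  have hyZ : y ∉ c.two.Z := fun h => by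
    have h1 := T.cent_Z₂ h hyt
    refine c.D_not_conj (g * a)⁻¹ h1 (fun e => c.two.δ_ne ?_) ?_
    · rw [← hya] at e; exact conj_eq_one_iff.1 e
    · rw [← hya, show (g * a)⁻¹ * (g * a * c.two.δ * (g * a)⁻¹) * (g * a)⁻¹⁻¹ = c.two.δ by group]
      exact c.two.δ_mem
  have hsy : T.s * y * T.s⁻¹ = y⁻¹ := by
    have hy' := c.two.conj_Q T.s₂ hyQ
    have hwZ : y * (T.s * y * T.s⁻¹) ∈ c.two.Z := by
      rw [← c.two.P.v_ker _ (mul_mem hyQ hy'), c.two.P.v_mul _ hyQ _ hy', c.two.P.v_conj _ T.s₂ _ hyQ,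
        T.ρs, neg_mulVec, one_mulVec, add_neg_cancel]
    have hcy : Commute T.t (T.s * y * T.s⁻¹) :=
      ((show Commute T.t T.s from T.ts).mul_right hyt).mul_right
        (show Commute T.t T.s from T.ts).inv_right
    have hwD := T.cent_Z₂ hwZ ((show Commute T.t y from hyt).mul_right hcy).eq
    set w := y * (T.s * y * T.s⁻¹) with hw
    have hy'eq : T.s * y * T.s⁻¹ = y⁻¹ * w := (inv_mul_cancel_left _ _).symm
    have hinv : T.s * w * T.s⁻¹ = w⁻¹ := c.one.inv_D T.s₁ hwD T.swap.det_t₂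
    have hsw : T.s * w * T.s⁻¹ = (T.s * y * T.s⁻¹) * y := by
      rw [hw, show T.s * (y * (T.s * y * T.s⁻¹)) * T.s⁻¹ =
        (T.s * y * T.s⁻¹) * ((T.s * T.s) * y * (T.s * T.s)⁻¹) by group, T.ss, inv_one, one_mul,
        mul_one]
    have hcomm : y⁻¹ * w * y = w := by
      rw [mul_assoc, (c.two.Z_comm (c.D₁_le_Z hwD) hyQ), inv_mul_cancel_left]
    rw [hy'eq, hcomm, hinv] at hsw
    have hw1 : w = 1 :=
      eq_one_of_sq_cube (by nth_rw 1 [← hsw]; exact inv_mul_cancel _) (c.one.D_pow hwD)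
    rw [hy'eq, hw1, mul_one]
  -- the conjugating element
  set m := g * a with hm
  have hti : m⁻¹ * T.t * m * c.two.δ = c.two.δ * (m⁻¹ * T.t * m) := by
    rw [← hya] at hyt
    calc m⁻¹ * T.t * m * c.two.δ = m⁻¹ * (T.t * (m * c.two.δ * m⁻¹)) * m := by group
      _ = m⁻¹ * ((m * c.two.δ * m⁻¹) * T.t) * m := by rw [hyt]
      _ = c.two.δ * (m⁻¹ * T.t * m) := by group
  set t' := m⁻¹ * T.t * m with ht'
  have ht'A : t' ∈ c.two.A := c.two.mem_A_of_comm fun d hd => by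
    obtain ⟨i, rfl⟩ := c.two.exists_pow_δ hd
    exact ((show Commute t' c.two.δ from hti).pow_right _).eq
  have ht'2 : t' * t' = 1 := by
    rw [ht', show m⁻¹ * T.t * m * (m⁻¹ * T.t * m) = m⁻¹ * (T.t * T.t) * m by group, T.tt, mul_one,
      inv_mul_cancel]
  have hρ' : c.two.P.ρ t' = c.two.P.ρ T.s := by
    rw [T.ρs]
    refine (invol_det_one _ (c.two.P.ρ_sq_one ht'A ht'2)
      (c.two.det_of_comm ht'A c.two.δ_mem c.two.δ_ne hti)).resolve_left fun e => ?_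
    have hq := (c.two.P.ρ_ker _ ht'A).1 e
    have h1 : t' = 1 := by
      have h243 := c.two.Q_pow hq
      rwa [show 243 = 2 * 121 + 1 from rfl, pow_succ, pow_mul, pow_two, ht'2, one_pow, one_mul]
        at h243
    have ht1 : T.t = 1 := by
      rw [ht', show m⁻¹ * T.t * m = m⁻¹ * T.t * m⁻¹⁻¹ by group] at h1
      exact conj_eq_one_iff.1 h1
    have := T.ρt
    rw [ht1, c.one.P.ρ_one] at this
    exact absurd this (by decide)
  obtain ⟨q, hq, hqe⟩ := c.two.exists_conj T.s₂ ht'A T.ss ht'2 hρ'.symm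
  refine ⟨y, m * q, hyQ, hyZ, hy3, hyt, hsy, ?_, ?_⟩
  · rw [show m * q * T.s * (m * q)⁻¹ = m * (q * T.s * q⁻¹) * m⁻¹ by group, hqe, ht']
    group
  · rw [show m * q * c.two.δ * (m * q)⁻¹ = m * (q * c.two.δ * q⁻¹) * m⁻¹ by group,
      ← c.two.Z_comm (c.two.D_le c.two.δ_mem) hq, mul_inv_cancel_right, hya]

end Torus

end Setup

end CfsgLib.G2Amalgam
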