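import Cfsg.Agent.G2Amalgam.NormK
import Cfsg.Agent.G2Amalgam.Small

/-!
# The amalgam of type `G₂(3)`: the centraliser of a diagonal element

The kernel of the transfer to `E` in the centraliser of a diagonal element `e`, extended by an
involution inverting `e`, is `S₃ × S₃`; hence the centraliser of `⟨t, e⟩` is `E × ⟨t⟩`.
-/

set_option autoImplicit false
set_option linter.unusedSectionVars false
set_option linter.style.haveILetI false
set_option maxRecDepth 100000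

namespace CfsgLib.G2Amalgam

open Matrix

attribute [local instance] fact_three'

variable {G : Type*} [Group G]

namespace Setup

variable [Finite G] {c : Setup G}

namespace Frame

variable (F : c.Frame)

theorem W₃_sq {x : G} (hx : x ∈ F.W₃) (h : x * x = 1) : x = 1 := by
  have h729 := c.U_pow (c.Q₂_le_U (F.W₃_le_Q hx))
  rwa [show 729 = 2 * 364 + 1 from rfl, pow_succ, pow_mul, pow_two, h, one_pow, one_mul] at h729

/-- The retraction of `W₃` onto `E`. -/
def ret (w : G) : G := (w * (F.T.t * w * F.T.t⁻¹)) ^ 2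

theorem ret_mem {w : G} (hw : w ∈ F.W₃) : F.ret w ∈ F.E := by
  have hw' := F.t_norm_W₃ hw
  refine F.mem_E_of_fixed (pow_mem (mul_mem hw hw') 2) ?_
  have h : Commute F.T.t (w * (F.T.t * w * F.T.t⁻¹)) := by
    show F.T.t * (w * (F.T.t * w * F.T.t⁻¹)) = w * (F.T.t * w * F.T.t⁻¹) * F.T.t
    calc F.T.t * (w * (F.T.t * w * F.T.t⁻¹))
        = (F.T.t * w * F.T.t⁻¹) * (F.T.t * F.T.t * w * (F.T.t * F.T.t)⁻¹) * F.T.t := by group
      _ = (F.T.t * w * F.T.t⁻¹) * w * F.T.t := by rw [F.T.tt, one_mul, inv_one, mul_one]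
      _ = _ := by rw [F.W₃_comm hw' hw]
  exact (h.pow_right 2).eq

theorem ret_mul {u w : G} (hu : u ∈ F.W₃) (hw : w ∈ F.W₃) :
    F.ret (u * w) = F.ret u * F.ret w := by
  have hu' := F.t_norm_W₃ hu
  have hw' := F.t_norm_W₃ hw
  rw [ret, ret, ret, ← (show Commute (u * (F.T.t * u * F.T.t⁻¹)) (w * (F.T.t * w * F.T.t⁻¹)) from
    F.W₃_comm (mul_mem hu hu') (mul_mem hw hw')).mul_pow]
  congr 1
  rw [show F.T.t * (u * w) * F.T.t⁻¹ = (F.T.t * u * F.T.t⁻¹) * (F.T.t * w * F.T.t⁻¹) by group]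
  exact Commute.mul_mul_mul_comm (F.W₃_comm hw hu') _ _

theorem ret_E {e : G} (he : e ∈ F.E) : F.ret e = e := by
  rw [ret, F.E_t he, mul_inv_cancel_right, ← pow_two, ← pow_mul, show 2 * 2 = 3 + 1 from rfl,
    pow_succ, F.E_cube he, one_mul]

theorem ret_split {w : G} (hw : w ∈ F.W₃) :
    F.T.t * ((F.ret w)⁻¹ * w) * F.T.t⁻¹ = ((F.ret w)⁻¹ * w)⁻¹ := by
  have hw' := F.t_norm_W₃ hw
  have hE := F.ret_mem hw
  set v := w * (F.T.t * w * F.T.t⁻¹) with hv
  have hv3 : v ^ 3 = 1 := F.W₃_sq (pow_mem (mul_mem hw hw') 3) (by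
    rw [← pow_two, ← pow_mul, mul_comm, pow_mul]
    exact F.E_cube hE)
  have hr : F.ret w = v ^ 2 := rfl
  rw [show F.T.t * ((F.ret w)⁻¹ * w) * F.T.t⁻¹ =
      (F.T.t * (F.ret w)⁻¹ * F.T.t⁻¹) * (F.T.t * w * F.T.t⁻¹) by group,
    F.E_t (inv_mem hE), mul_inv_cancel_right, _root_.mul_inv_rev, inv_inv]
  have hc : Commute w (F.ret w) := F.W₃_comm hw (F.E_le_W₃ hE)
  rw [hc.inv_left.eq, inv_mul_eq_iff_eq_mul, ← mul_assoc, eq_mul_inv_iff_mul_eq, ← pow_two (F.ret w),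
    hr, ← pow_mul, show 2 * 2 = 3 + 1 from rfl, pow_succ, hv3, one_mul, hv]
  exact (F.W₃_comm hw hw').symm

variable {e : G}

/-- The kernel of the transfer. -/
theorem exists_kernel (he : F.Diag e) : ∃ C₀ : Subgroup G, (∀ x ∈ C₀, x * e = e * x) ∧
    (∀ w ∈ F.W₃, w ∈ C₀ ↔ ∃ i : ℕ, ∃ d ∈ c.two.D, w = F.p ^ i * d) ∧ F.T.t ∈ C₀ ∧
    (∀ x ∈ C₀, F.T.s * x * F.T.s⁻¹ ∈ C₀) ∧ ∀ x, x * e = e * x → ∃ f ∈ F.E, x * f ∈ C₀ := by
  classical
  set C := Subgroup.centralizer ({e} : Set G) with hC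
  have mem_C : ∀ {x : G}, x ∈ C ↔ x * e = e * x := Subgroup.mem_centralizer_singleton_iff
  have hWC : F.W₃ ≤ C := fun u hu => mem_C.2 (F.W₃_comm hu (F.E_le_W₃ he.1))
  have htC : F.T.t ∈ C := mem_C.2 (F.E_t he.1)
  have hsC : ∀ x ∈ C, F.T.s * x * F.T.s⁻¹ ∈ C := fun x hx => mem_C.2 (by
    have h : Commute (F.T.s * x * F.T.s⁻¹) e⁻¹ := by
      show F.T.s * x * F.T.s⁻¹ * e⁻¹ = e⁻¹ * (F.T.s * x * F.T.s⁻¹)
      rw [← F.E_s he.1, show F.T.s * x * F.T.s⁻¹ * (F.T.s * e * F.T.s⁻¹) =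
        F.T.s * (x * e) * F.T.s⁻¹ by group, mem_C.1 hx]
      group
    have := h.inv_right
    rwa [inv_inv] at this)
  set P := F.W₃.subgroupOf C with hP
  have hmap : ∀ n : C, n ∈ Subgroup.normalizer (P : Set C) →
      ∀ u ∈ F.W₃, (n : G) * u * (n : G)⁻¹ ∈ F.W₃ := fun n hn u hu =>
    Subgroup.mem_subgroupOf.1 ((Subgroup.mem_normalizer_iff.1 hn ⟨u, hWC hu⟩).1
      (Subgroup.mem_subgroupOf.2 hu))
  have hP3 : IsPGroup 3 P := IsPGroup.of_card (n := 4) (by
    rw [hP, Nat.card_congr (Subgroup.subgroupOfEquivOfLe hWC).toEquiv, F.card_W₃]; norm_num)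
  obtain ⟨S, hS⟩ := exists_sylow_eq hP3 fun n hn h3 => Subgroup.mem_subgroupOf.2
    (F.three_norm_W₃ he (mem_C.1 n.2) (hmap n hn) (by
      obtain ⟨k, hk⟩ := h3
      exact ⟨k, by rw [← Subgroup.coe_pow, hk, Subgroup.coe_one]⟩))
  have hn3 : ¬ 3 ∣ P.index := hS ▸ S.not_dvd_index
  letI : CommGroup F.E := { (inferInstance : Group F.E) with
    mul_comm := fun a b => Subtype.ext (F.W₃_comm (F.E_le_W₃ a.2) (F.E_le_W₃ b.2)) }
  let ϕ : P →* F.E := MonoidHom.mk' (fun w => ⟨F.ret ((w : C) : G), F.ret_mem w.2⟩)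
    fun u w => Subtype.ext (by simpa using F.ret_mul u.2 w.2)
  let τ : C →* F.E := MonoidHom.transfer ϕ
  have hτE : ∀ f (hf : f ∈ F.E), (τ ⟨f, hWC (F.E_le_W₃ hf)⟩ : G) = f ^ P.index := by
    intro f hf
    have key : ∀ (k : ℕ) (g₀ : C), g₀⁻¹ * (⟨f, hWC (F.E_le_W₃ hf)⟩ : C) ^ k * g₀ ∈ P →
        g₀⁻¹ * (⟨f, hWC (F.E_le_W₃ hf)⟩ : C) ^ k * g₀ = (⟨f, hWC (F.E_le_W₃ hf)⟩ : C) ^ k := by
      intro k g₀ hk
      set z := (⟨f, hWC (F.E_le_W₃ hf)⟩ : C) ^ k with hz
      have hzP : z ∈ P := pow_mem (show (⟨f, hWC (F.E_le_W₃ hf)⟩ : C) ∈ P from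
        Subgroup.mem_subgroupOf.2 (F.E_le_W₃ hf)) k
      have hPc : ∀ a ∈ P, a ∈ Subgroup.centralizer ((S : Subgroup C) : Set C) := fun a ha =>
        Subgroup.mem_centralizer_iff.2 fun b hb => Subtype.ext (F.W₃_comm
          (Subgroup.mem_subgroupOf.1 (hS ▸ hb : b ∈ P)) (Subgroup.mem_subgroupOf.1 ha))
      obtain ⟨n, hn, hne⟩ := S.conj_eq_normalizer_conj_of_mem_centralizer z g₀ (hPc _ hzP) (hPc _ hk)
      rw [hne]
      have hn' : n ∈ Subgroup.normalizer (P : Set C) := by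
        rw [← hS]; exact hn
      have hzE : (z : G) ∈ F.E := by rw [hz, Subgroup.coe_pow]; exact pow_mem hf k
      have hcomm : (n : G) * (z : G) = (z : G) * (n : G) := by
        rcases F.norm_W₃_diag he (mem_C.1 n.2) (hmap n hn') with h | h
        · exact F.W₃_comm h (F.E_le_W₃ hzE)
        · have h1 : Commute ((n : G) * F.T.t) (z : G) := F.W₃_comm h (F.E_le_W₃ hzE)
          have h2 := h1.mul_left (show Commute F.T.t (z : G) from F.E_t hzE)
          rw [mul_assoc, F.T.tt, mul_one] at h2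
          exact h2.eq
      refine Subtype.ext ?_
      push_cast
      rw [mul_assoc, ← hcomm, inv_mul_cancel_left]
    show ((MonoidHom.transfer ϕ _ : F.E) : G) = _
    rw [MonoidHom.transfer_eq_pow ϕ _ key]
    show F.ret (((⟨f, hWC (F.E_le_W₃ hf)⟩ : C) ^ P.index : C) : G) = _
    rw [Subgroup.coe_pow, F.ret_E (pow_mem hf _)]
  -- homomorphisms to `E` kill the inverted elements
  have hkill : ∀ (r : C →* F.E) (w : C), F.T.t * (w : G) * F.T.t⁻¹ = (w : G)⁻¹ → r w = 1 := by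
    intro r w hw
    have h : r (⟨F.T.t, htC⟩ * w * ⟨F.T.t, htC⟩⁻¹) = r w⁻¹ := congrArg r (Subtype.ext hw)
    rw [map_mul, map_mul, map_inv, map_inv, mul_comm (r ⟨F.T.t, htC⟩) (r w), mul_inv_cancel_right] at h
    exact eq_one_of_sq_cube (by nth_rw 1 [h]; exact inv_mul_cancel _)
      (Subtype.ext (F.E_cube (r w).2))
  have hr3 : ∀ f ∈ F.E, ∀ n : ℕ, ¬ 3 ∣ n → (f ^ n) ^ n = f := by
    intro f hf n hn
    rw [← pow_mul, pow_eq_pow_mod _ (F.E_cube hf)]
    rcases (show n % 3 = 1 ∨ n % 3 = 2 by omega) with h | h <;> simp [Nat.mul_mod, h]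
  refine ⟨τ.ker.map C.subtype, ?_, ?_, ?_, ?_, ?_⟩
  · rintro _ ⟨x, -, rfl⟩
    exact mem_C.1 x.2
  · intro w hw
    constructor
    · rintro ⟨x, hx, hxw⟩
      have hsplit := F.ret_split hw
      have hr : F.ret w ∈ F.E := F.ret_mem hw
      have hxe : x = (⟨F.ret w, hWC (F.E_le_W₃ hr)⟩ : C) *
          ⟨(F.ret w)⁻¹ * w, hWC (mul_mem (inv_mem (F.E_le_W₃ hr)) hw)⟩ :=
        Subtype.ext (hxw.trans (mul_inv_cancel_left _ _).symm)
      have h1 : τ ⟨F.ret w, hWC (F.E_le_W₃ hr)⟩ = 1 := by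
        have := MonoidHom.mem_ker.1 hx
        rwa [hxe, map_mul, hkill τ (⟨(F.ret w)⁻¹ * w, hWC (mul_mem (inv_mem (F.E_le_W₃ hr)) hw)⟩ : C) hsplit, mul_one] at this
      have h2 := hτE _ hr
      rw [h1, OneMemClass.coe_one] at h2
      have h3 : F.ret w = 1 := by rw [← hr3 _ hr _ hn3, ← h2, one_pow]
      rw [h3, inv_one, one_mul] at hsplit
      exact F.inverted_W₃ hw hsplit
    · rintro ⟨i, d, hd, rfl⟩
      refine ⟨⟨_, hWC hw⟩, hkill τ _ ?_, rfl⟩
      show F.T.t * (F.p ^ i * d) * F.T.t⁻¹ = (F.p ^ i * d)⁻¹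
      rw [show F.T.t * (F.p ^ i * d) * F.T.t⁻¹ =
        (F.T.t * F.p ^ i * F.T.t⁻¹) * (F.T.t * d * F.T.t⁻¹) by group, ← conj_pow, F.tp,
        F.T.inv_D₂ hd, inv_pow, ← _root_.mul_inv_rev,
        c.two.Z_comm (c.two.D_le hd) (c.two.Z_le (pow_mem F.p_mem i))]
  · exact ⟨⟨_, htC⟩, hkill τ _ (mul_inv_cancel_right _ _ |>.trans F.T.ti.symm), rfl⟩
  · rintro _ ⟨x, hx, rfl⟩
    let σ : C →* C := MonoidHom.mk' (fun z => ⟨F.T.s * z * F.T.s⁻¹, hsC _ z.2⟩)
      fun a b => Subtype.ext (by push_cast; group)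
    let r : C →* F.E := (τ.comp σ)⁻¹ * τ⁻¹
    have hr : ∀ z, r z = (τ (σ z))⁻¹ * (τ z)⁻¹ := fun z => rfl
    have hPker : P ≤ r.ker := by
      intro u hu
      have huW : (u : G) ∈ F.W₃ := Subgroup.mem_subgroupOf.1 hu
      have hf : F.ret u ∈ F.E := F.ret_mem huW
      have hue : u = (⟨F.ret u, hWC (F.E_le_W₃ hf)⟩ : C) *
          ⟨(F.ret u)⁻¹ * u, hWC (mul_mem (inv_mem (F.E_le_W₃ hf)) huW)⟩ :=
        Subtype.ext (mul_inv_cancel_left _ _).symm
      rw [MonoidHom.mem_ker, hue, map_mul, hkill r (⟨(F.ret u)⁻¹ * u, hWC (mul_mem (inv_mem (F.E_le_W₃ hf)) huW)⟩ : C) (F.ret_split huW), mul_one, hr]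
      have hσ : σ ⟨F.ret u, hWC (F.E_le_W₃ hf)⟩ = (⟨F.ret u, hWC (F.E_le_W₃ hf)⟩ : C)⁻¹ :=
        Subtype.ext (F.E_s hf)
      rw [hσ, map_inv, inv_inv, mul_inv_cancel]
    have h1 : Nat.card r.range ∣ P.index := by
      rw [← Subgroup.index_ker]; exact Subgroup.index_dvd_of_le hPker
    obtain ⟨k, hk⟩ := IsPGroup.iff_card.1 ((show IsPGroup 3 F.E from fun z =>
      ⟨1, Subtype.ext (by rw [pow_one]; exact F.E_cube z.2)⟩).to_subgroup r.range)
    have hbot : r.range = ⊥ := Subgroup.eq_bot_of_card_eq _ (by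
      rcases Nat.eq_zero_or_pos k with h | h
      · rw [hk, h, pow_zero]
      · exact absurd ((dvd_pow_self 3 h.ne').trans (hk ▸ h1)) hn3)
    have h2 : r x = 1 := by
      rw [← Subgroup.mem_bot, ← hbot]; exact ⟨x, rfl⟩
    rw [hr, MonoidHom.mem_ker.1 hx, inv_one, mul_one, inv_eq_one] at h2
    exact ⟨σ x, h2, rfl⟩
  · intro x hx
    have ha : (τ ⟨x, mem_C.2 hx⟩ : G)⁻¹ ∈ F.E := inv_mem (τ ⟨x, mem_C.2 hx⟩).2
    have hf : (τ ⟨x, mem_C.2 hx⟩ : G)⁻¹ ^ P.index ∈ F.E := pow_mem ha _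
    refine ⟨_, hf, ⟨⟨x, mem_C.2 hx⟩ * ⟨_, hWC (F.E_le_W₃ hf)⟩, ?_, rfl⟩⟩
    rw [SetLike.mem_coe, MonoidHom.mem_ker, map_mul]
    refine Subtype.ext ?_
    rw [Subgroup.coe_mul, hτE _ hf, hr3 _ ha _ hn3, mul_inv_cancel, OneMemClass.coe_one]

/-- The centraliser of `t` and a diagonal element. -/
theorem cent_diag (he : F.Diag e) {x : G} (hxt : x * F.T.t = F.T.t * x) (hxe : x * e = e * x) :
    x ∈ F.E ∨ x * F.T.t ∈ F.E := by
  classical
  obtain ⟨C₀, hC₀e, hC₀W, htC₀, hC₀s, hC₀E⟩ := F.exists_kernel he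
  obtain ⟨f, hf, hxf⟩ := hC₀E x hxe
  have hne : e ≠ 1 := fun h => he.2.1 (h ▸ one_mem _)
  have hsC₀ : F.T.s ∉ C₀ := fun h => hne (eq_one_of_sq_cube (by
    have h1 := F.E_s he.1
    rw [hC₀e _ h, mul_inv_cancel_right] at h1
    nth_rw 1 [h1]; exact inv_mul_cancel _) (F.E_cube he.1))
  have hsym : ∀ {z : G}, z ∈ C₀ → F.T.s * z * F.T.s ∈ C₀ := fun {z} hz => by
    have := hC₀s z hz
    rwa [F.T.si] at this
  let Ks : Subgroup G :=
    { carrier := {z | z ∈ C₀ ∨ z * F.T.s ∈ C₀}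
      one_mem' := Or.inl (one_mem _)
      mul_mem' := fun {a b} ha hb => by
        rcases ha with ha | ha <;> rcases hb with hb | hb
        · exact Or.inl (mul_mem ha hb)
        · exact Or.inr (by rw [mul_assoc]; exact mul_mem ha hb)
        · refine Or.inr ?_
          rw [show a * b * F.T.s = (a * F.T.s) * (F.T.s⁻¹ * b * F.T.s) by group, F.T.si]
          exact mul_mem ha (hsym hb)
        · refine Or.inl ?_
          have := mul_mem ha (hsym hb)
          rwa [show (a * F.T.s) * (F.T.s * (b * F.T.s) * F.T.s) =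
            a * (F.T.s * F.T.s) * b * (F.T.s * F.T.s) by group, F.T.ss, mul_one, mul_one] at this
      inv_mem' := fun {a} ha => by
        rcases ha with ha | ha
        · exact Or.inl (inv_mem ha)
        · refine Or.inr ?_
          have := hsym (inv_mem ha)
          rwa [_root_.mul_inv_rev, F.T.si, ← mul_assoc, F.T.ss, one_mul] at this }
  have hCK : C₀ ≤ Ks := fun z hz => Or.inl hz
  have hsK : F.T.s ∈ Ks := Or.inr (by rw [F.T.ss]; exact one_mem _)
  have hδC : c.two.δ ∈ C₀ := (hC₀W _ (F.Z₂_le_W₃ (c.two.D_le c.two.δ_mem))).2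
    ⟨0, _, c.two.δ_mem, by rw [pow_zero, one_mul]⟩
  have hpC : F.p ∈ C₀ := (hC₀W _ F.p_W₃).2 ⟨1, 1, one_mem _, by rw [pow_one, mul_one]⟩
  have hsδ : F.T.s * c.two.δ = c.two.δ * F.T.s := F.T.swap.comm_D₁ c.two.δ_mem
  set d₁ : Ks := ⟨c.two.δ, hCK hδC⟩ with hd₁
  set d₂ : Ks := ⟨F.p, hCK hpC⟩ with hd₂
  set s₁ : Ks := ⟨F.T.t * F.T.s, mul_mem (hCK htC₀) hsK⟩ with hs₁
  set s₂ : Ks := ⟨F.T.s, hsK⟩ with hs₂
  have hd₁3 : d₁ ^ 3 = 1 := Subtype.ext (c.two.D_pow c.two.δ_mem)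
  have hd₂3 : d₂ ^ 3 = 1 := Subtype.ext F.p_cube
  have hs₁2 : s₁ * s₁ = 1 := Subtype.ext (by
    show F.T.t * F.T.s * (F.T.t * F.T.s) = 1
    rw [show F.T.t * F.T.s * (F.T.t * F.T.s) = F.T.t * (F.T.s * F.T.t) * F.T.s by group, ← F.T.ts,
      show F.T.t * (F.T.t * F.T.s) * F.T.s = F.T.t * F.T.t * (F.T.s * F.T.s) by group, F.T.tt,
      F.T.ss, one_mul])
  have hs₂2 : s₂ * s₂ = 1 := Subtype.ext F.T.ss
  have hi₁ : s₁ * d₁ * s₁ = d₁⁻¹ := Subtype.ext (by
    show F.T.t * F.T.s * c.two.δ * (F.T.t * F.T.s) = c.two.δ⁻¹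
    rw [show F.T.t * F.T.s * c.two.δ * (F.T.t * F.T.s) =
        F.T.t * (F.T.s * c.two.δ) * (F.T.t * F.T.s) by group, hsδ,
      show F.T.t * (c.two.δ * F.T.s) * (F.T.t * F.T.s) =
        F.T.t * c.two.δ * (F.T.s * F.T.t) * F.T.s by group, ← F.T.ts,
      show F.T.t * c.two.δ * (F.T.t * F.T.s) * F.T.s = F.T.t * c.two.δ * F.T.t * (F.T.s * F.T.s) by
        group, F.T.ss, mul_one]
    conv_lhs => arg 2; rw [← F.T.ti]
    exact F.T.inv_D₂ c.two.δ_mem)
  have hi₂ : s₂ * d₂ * s₂ = d₂⁻¹ := Subtype.ext (by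
    show F.T.s * F.p * F.T.s = F.p⁻¹
    conv_lhs => arg 2; rw [← F.T.si]
    exact F.sp)
  have hsp' : Commute (F.T.t * F.T.s) F.p := by
    show F.T.t * F.T.s * F.p = F.p * (F.T.t * F.T.s)
    rw [← mul_inv_eq_iff_eq_mul, show F.T.t * F.T.s * F.p * (F.T.t * F.T.s)⁻¹ =
      F.T.t * (F.T.s * F.p * F.T.s⁻¹) * F.T.t⁻¹ by group, F.sp,
      show F.T.t * F.p⁻¹ * F.T.t⁻¹ = (F.T.t * F.p * F.T.t⁻¹)⁻¹ by group, F.tp, inv_inv]
  have hdp : Commute c.two.δ F.p :=
    c.two.Z_comm (c.two.D_le c.two.δ_mem) (c.two.Z_le F.p_mem)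
  have hcomm : ∀ a b : D3, Commute (dihHom d₁ s₁ hd₁3 hs₁2 hi₁ a) (dihHom d₂ s₂ hd₂3 hs₂2 hi₂ b) := by
    have h11 : Commute d₁ d₂ := Subtype.ext hdp.eq
    have h12 : Commute d₁ s₂ := Subtype.ext hsδ.symm
    have h21 : Commute s₁ d₂ := Subtype.ext hsp'.eq
    have h22 : Commute s₁ s₂ := Subtype.ext
      ((show Commute F.T.t F.T.s from F.T.ts).mul_left (Commute.refl _)).eq
    rintro (i | i) (j | j)
    · exact h11.pow_pow _ _
    · exact (h12.pow_left _).mul_right (h11.pow_pow _ _)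
    · exact (h21.pow_right _).mul_left (h11.pow_pow _ _)
    · exact (h22.mul_right (h21.pow_right _)).mul_left ((h12.pow_left _).mul_right (h11.pow_pow _ _))
  let φ : M36 →* Ks := MonoidHom.noncommCoprod _ _ hcomm
  -- values of `φ` modulo the rotations
  let W : D3 → D3 → G := fun a b => (if isR a then 1 else F.T.t * F.T.s) * (if isR b then 1 else F.T.s)
  let rpow : D3 → ℕ := fun a => match a with | .r i => i.val | .sr i => i.val
  have hval : ∀ a b, ((φ (a, b) : Ks) : G) =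
      W a b * (c.two.δ ^ rpow a * F.p ^ rpow b) := by
    have h12 : ∀ n : ℕ, Commute (c.two.δ ^ n) F.T.s := fun n =>
      (show Commute c.two.δ F.T.s from hsδ.symm).pow_left n
    rintro (i | i) (j | j)
    · show c.two.δ ^ i.val * F.p ^ j.val = 1 * 1 * (c.two.δ ^ i.val * F.p ^ j.val)
      rw [one_mul, one_mul]
    · show c.two.δ ^ i.val * (F.T.s * F.p ^ j.val) = 1 * F.T.s * (c.two.δ ^ i.val * F.p ^ j.val)
      rw [one_mul, ← mul_assoc, (h12 _).eq, mul_assoc]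
    · show F.T.t * F.T.s * c.two.δ ^ i.val * F.p ^ j.val =
        F.T.t * F.T.s * 1 * (c.two.δ ^ i.val * F.p ^ j.val)
      rw [mul_one, mul_assoc]
    · show F.T.t * F.T.s * c.two.δ ^ i.val * (F.T.s * F.p ^ j.val) =
        F.T.t * F.T.s * F.T.s * (c.two.δ ^ i.val * F.p ^ j.val)
      rw [mul_assoc _ _ (F.T.s * _), ← mul_assoc (c.two.δ ^ i.val), (h12 _).eq,
        mul_assoc F.T.s (c.two.δ ^ i.val), ← mul_assoc (F.T.t * F.T.s) F.T.s]
  have hrot : ∀ a b, c.two.δ ^ rpow a * F.p ^ rpow b ∈ C₀ := fun a b =>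
    mul_mem (pow_mem hδC _) (pow_mem hpC _)
  have hW : ∀ a b, W a b ∈ C₀ ↔ isR a = isR b := by
    intro a b
    rcases Bool.eq_false_or_eq_true (isR a) with ha | ha <;>
      rcases Bool.eq_false_or_eq_true (isR b) with hb | hb <;>
      simp only [W, ha, hb, if_true, if_false, Bool.false_eq_true, one_mul, mul_one, iff_true,
        Bool.true_eq_false, iff_false]
    · exact one_mem _
    · exact hsC₀
    · exact fun h => hsC₀ (by
        have := mul_mem (inv_mem htC₀) h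
        rwa [inv_mul_cancel_left] at this)
    · rw [mul_assoc, F.T.ss, mul_one]; exact htC₀
  have hmemC : ∀ m, φ m ∈ C₀.subgroupOf Ks ↔ par m = 1 := by
    rintro ⟨a, b⟩
    rw [Subgroup.mem_subgroupOf, hval, Subgroup.mul_mem_cancel_right _ (hrot a b), hW]
    simp only [par]
    split_ifs with h <;> simp [h]
  have hinj : Function.Injective φ := by
    refine (injective_iff_map_eq_one φ).2 ?_
    rintro ⟨a, b⟩ hm
    have hm' : W a b * (c.two.δ ^ rpow a * F.p ^ rpow b) = 1 := by rw [← hval, hm, Subgroup.coe_one]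
    have hmem : W a b ∈ C₀ := by
      rw [eq_inv_of_mul_eq_one_left hm']; exact inv_mem (hrot a b)
    have hab := (hW a b).1 hmem
    have hWW : W a b ∈ F.W₃ := by
      rw [eq_inv_of_mul_eq_one_left hm']
      exact inv_mem (mul_mem (pow_mem (F.Z₂_le_W₃ (c.two.D_le c.two.δ_mem)) _) (pow_mem F.p_W₃ _))
    have hR : isR a = true := by
      by_contra h
      have ha : isR a = false := by simpa using h
      have hb : isR b = false := hab ▸ ha
      simp only [W, ha, hb, Bool.false_eq_true, if_false, mul_assoc, F.T.ss, mul_one] at hWW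
      have ht1 := F.W₃_sq hWW F.T.tt
      have := F.T.ρt
      rw [ht1, c.one.P.ρ_one] at this
      exact absurd this (by decide)
    have hR' : isR b = true := hab ▸ hR
    simp only [W, hR, hR', if_true, one_mul] at hm'
    rcases a with i | i
    · rcases b with j | j
      · change c.two.δ ^ i.val * F.p ^ j.val = 1 at hm'
        have hj : j = 0 := by
          have hp : F.p ^ j.val ∈ c.two.D := by
            rw [eq_inv_of_mul_eq_one_right hm']; exact inv_mem (pow_mem c.two.δ_mem _)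
          rcases (show ∀ j : ZMod 3, j = 0 ∨ j.val = 1 ∨ j.val = 2 by decide) j with h | h | h
          · exact h
          · rw [h, pow_one] at hp; exact absurd hp F.p_notMem₂
          · rw [h] at hp
            refine absurd ?_ F.p_notMem₂
            have := pow_mem hp 2
            rwa [← pow_mul, show 2 * 2 = 3 + 1 from rfl, pow_succ, F.p_cube, one_mul] at this
        subst hj
        rw [ZMod.val_zero, pow_zero, mul_one] at hm'
        rw [pow_val_eq_one (c.two.D_pow c.two.δ_mem) c.two.δ_ne hm']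
        rfl
      · exact absurd hR' (by simp [isR])
    · exact absurd hR (by simp [isR])
  have hfus : ∀ w w' : M36, w ≠ 1 → w * w * w = 1 → ∀ z : Ks, z * φ w * z⁻¹ = φ w' → z ∈ φ.range := by
    -- elements of order three
    have hrotw : ∀ w : M36, w * w * w = 1 → ∃ i : ℕ, ∃ d ∈ c.two.D, ((φ w : Ks) : G) = F.p ^ i * d := by
      rintro ⟨a, b⟩ hw
      obtain ⟨ha, hb⟩ := (show ∀ a b : D3, ((a, b) : M36) * (a, b) * (a, b) = 1 →
        isR a = true ∧ isR b = true by decide +kernel) a b hw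
      refine ⟨rpow b, c.two.δ ^ rpow a, pow_mem c.two.δ_mem _, ?_⟩
      rw [hval]
      simp only [W, ha, hb, if_true, one_mul]
      exact (hdp.pow_pow _ _).eq
    have main : ∀ w w' : M36, w ≠ 1 → w * w * w = 1 → ∀ z : Ks, (z : G) ∈ C₀ →
        z * φ w * z⁻¹ = φ w' → z ∈ φ.range := by
      intro w w' hw1 hw z hz heq
      have hw'1 : w' ≠ 1 := fun h => hw1 (hinj (by
        rw [map_one]; rw [h, map_one, conj_eq_one_iff] at heq; exact heq))
      have hw' : w' * w' * w' = 1 := hinj (by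
        rw [map_mul, map_mul, map_one, ← heq,
          show z * φ w * z⁻¹ * (z * φ w * z⁻¹) * (z * φ w * z⁻¹) = z * (φ w * φ w * φ w) * z⁻¹ by
            group, ← map_mul, ← map_mul, hw, map_one, mul_one, mul_inv_cancel])
      obtain ⟨i, d, hd, hv⟩ := hrotw w' hw'
      obtain ⟨i', d', hd', hv'⟩ := hrotw w hw
      have hne' : F.p ^ i * d ≠ 1 := fun h => hw'1 (hinj (Subtype.ext (by
        rw [hv, h, map_one, Subgroup.coe_one])))
      have hW' : ∀ u ∈ F.W₃, (z : G) * u * (z : G)⁻¹ ∈ F.W₃ := fun u hu => by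
        refine F.cent_W₂_diag he hd hne' ?_ ?_
        · exact (((show Commute (z : G) e from hC₀e _ hz).mul_left
            (show Commute u e from F.W₃_comm hu (F.E_le_W₃ he.1))).mul_left
            (show Commute (z : G) e from hC₀e _ hz).inv_left).eq
        · rw [← hv, ← heq]
          push_cast
          rw [hv', show (z : G) * u * (z : G)⁻¹ * ((z : G) * (F.p ^ i' * d') * (z : G)⁻¹) =
            (z : G) * (u * (F.p ^ i' * d')) * (z : G)⁻¹ by group,
            F.W₃_comm hu (mul_mem (pow_mem F.p_W₃ i') (F.Z₂_le_W₃ (c.two.D_le hd')))]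
          group
      have hfin : ∀ u : Ks, (u : G) ∈ F.W₃ → (u : G) ∈ C₀ → u ∈ φ.range := by
        intro u hu huC
        obtain ⟨i, d, hd, hu'⟩ := (hC₀W _ hu).1 huC
        obtain ⟨j, rfl⟩ := c.two.exists_pow_δ hd
        refine ⟨(.r j, .r (i : ZMod 3)), Subtype.ext ?_⟩
        rw [hval, hu']
        show 1 * 1 * (c.two.δ ^ j.val * F.p ^ (i : ZMod 3).val) = _
        rw [one_mul, one_mul, ZMod.val_natCast, ← pow_eq_pow_mod _ F.p_cube]
        exact (hdp.pow_pow _ _).eq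
      rcases F.norm_W₃_diag he (hC₀e _ hz) hW' with h | h
      · exact hfin z h hz
      · obtain ⟨m, hm⟩ := hfin (z * ⟨F.T.t, hCK htC₀⟩) h (mul_mem hz htC₀)
        refine ⟨m * (.sr 0, .sr 0), Subtype.ext ?_⟩
        rw [map_mul, hm, Subgroup.coe_mul, Subgroup.coe_mul, hval]
        show (z : G) * F.T.t * (F.T.t * F.T.s * F.T.s * (c.two.δ ^ 0 * F.p ^ 0)) = (z : G)
        rw [pow_zero, pow_zero, mul_one, mul_one, mul_assoc F.T.t, F.T.ss, mul_one, mul_assoc,
          F.T.tt, mul_one]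
    intro w w' hw1 hw z heq
    rcases z.2 with hz | hz
    · exact main w w' hw1 hw z hz heq
    · set u : M36 := (1, .sr 0) with hu
      have hu1 : φ u = s₂ := Subtype.ext (by
        rw [hval]
        show 1 * F.T.s * (c.two.δ ^ 0 * F.p ^ 0) = F.T.s
        simp)
      have huu : u * u = 1 := by decide
      obtain ⟨m, hm⟩ := main (u⁻¹ * w * u) w'
        (fun h => hw1 (by
          have := congrArg (fun a => u * a * u⁻¹) h
          simpa [mul_assoc] using this))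
        (by rw [show u⁻¹ * w * u * (u⁻¹ * w * u) * (u⁻¹ * w * u) = u⁻¹ * (w * w * w) * u by group, hw,
          mul_one, inv_mul_cancel])
        (z * φ u) (by rw [hu1]; exact hz)
        (by rw [← heq, map_mul, map_mul, map_inv]; group)
      exact ⟨m * u, by rw [map_mul, hm, mul_assoc, ← map_mul, huu, map_one, mul_one]⟩
  letI : Fintype Ks := Fintype.ofFinite _
  have hidx : (C₀.subgroupOf Ks).index = 2 := Subgroup.index_eq_two_iff.2 ⟨s₂, fun b => by
    simp only [Subgroup.mem_subgroupOf, Subgroup.coe_mul]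
    rcases b.2 with hb | hb
    · exact Or.inr ⟨hb, fun h => hsC₀ (by
        have := mul_mem (inv_mem hb) h
        rwa [inv_mul_cancel_left] at this)⟩
    · exact Or.inl ⟨hb, fun h => hsC₀ (by
        have := mul_mem (inv_mem h) hb
        rwa [inv_mul_cancel_left] at this)⟩⟩
  have htop := (Small.mk φ hinj (C₀.subgroupOf Ks) hidx hmemC hfus).range_eq_top
  obtain ⟨m, hm⟩ : (⟨x * f, hCK hxf⟩ : Ks) ∈ φ.range := htop ▸ Subgroup.mem_top _
  have hφt : ((φ (.sr 0, .sr 0) : Ks) : G) = F.T.t := by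
    rw [hval]
    show F.T.t * F.T.s * F.T.s * (c.two.δ ^ 0 * F.p ^ 0) = F.T.t
    rw [pow_zero, pow_zero, mul_one, mul_one, mul_assoc, F.T.ss, mul_one]
  have hxft : x * f * F.T.t = F.T.t * (x * f) :=
    ((show Commute x F.T.t from hxt).mul_left (show Commute f F.T.t from (F.E_t hf).symm)).eq
  have hpar : par m = 1 := (hmemC m).1 (by rw [hm, Subgroup.mem_subgroupOf]; exact hxf)
  have hmc : m * (.sr 0, .sr 0) = (.sr 0, .sr 0) * m := hinj (Subtype.ext (by
    rw [map_mul, map_mul, Subgroup.coe_mul, Subgroup.coe_mul, hφt, hm]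
    exact hxft))
  have hm2 : m = 1 ∨ m = (.sr 0, .sr 0) := (show ∀ m : M36, par m = 1 →
    m * (.sr 0, .sr 0) = (.sr 0, .sr 0) * m → m = 1 ∨ m = (.sr 0, .sr 0) by decide +kernel) m hpar hmc
  have hval' : x * f = 1 ∨ x * f = F.T.t := by
    rcases hm2 with rfl | rfl
    · left
      have := congrArg Subtype.val hm
      rw [map_one] at this
      exact this.symm
    · right
      have := congrArg Subtype.val hm
      rw [hφt] at this
      exact this.symm
  rcases hval' with h | h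
  · left
    rw [eq_inv_of_mul_eq_one_left h]
    exact inv_mem hf
  · right
    rw [eq_mul_inv_of_mul_eq h, mul_assoc, ← F.E_t (inv_mem hf), ← mul_assoc, F.T.tt, one_mul]
    exact inv_mem hf

end Frame

end Setup

end CfsgLib.G2Amalgam
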