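import Cfsg.Agent.G2Amalgam.XPhi
import Cfsg.Agent.G2Amalgam.Burnside
import Cfsg.Agent.Coprime.Generation
import Cfsg.Agent.Coprime.Action

/-!
# The two four groups of an `XFrame` generate a normal subgroup of order sixteen

The four generalised characters `Φ k` share a constituent `a`; the class equation at a diagonal
element puts the involutions of the four groups in its kernel, and Burnside's transfer theorem
gives a normal subgroup of order prime to three containing both four groups.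
-/

set_option autoImplicit false
set_option linter.style.haveILetI false
set_option linter.unusedSectionVars false
set_option maxRecDepth 100000

open scoped ComplexConjugate

namespace CfsgLib.G2Amalgam

open CfsgLib.Characters

universe u

theorem eq_zero_of_inner {G : Type u} [Group G] [Fintype G] {N : G → ℂ}
    (h : Cfsg.classInner N N = 0) : N = 0 := by
  rw [Cfsg.classInner, mul_eq_zero, or_iff_right (inv_ne_zero natCard_ne_zero)] at h
  simp only [Complex.mul_conj, ← Complex.ofReal_sum, Complex.ofReal_eq_zero] at h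
  funext g
  exact Complex.normSq_eq_zero.1
    ((Finset.sum_eq_zero_iff_of_nonneg fun g _ => Complex.normSq_nonneg _).1 h g (Finset.mem_univ g))

theorem pairwise_six {α : Type*} {R : α → α → Prop} (hs : ∀ {x y}, R x y → R y x) {u a : α}
    {b : Fin 4 → α} (h1a : R u a) (h1b : ∀ k, R u (b k)) (hab : ∀ k, R a (b k))
    (hbb : ∀ k l, k ≠ l → R (b k) (b l)) :
    Pairwise fun i j : Fin 6 => R (![u, a, b 0, b 1, b 2, b 3] i) (![u, a, b 0, b 1, b 2, b 3] j) := by
  intro i j hij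
  fin_cases i <;> fin_cases j <;>
    first
      | exact absurd rfl hij
      | exact h1a
      | exact hs h1a
      | exact h1b _
      | exact hs (h1b _)
      | exact hab _
      | exact hs (hab _)
      | exact hbb _ _ (by decide)

/-- The subgroup of order nine of `M18`. -/
def E18 : Subgroup M18 where
  carrier := {m | inE m = true}
  one_mem' := rfl
  mul_mem' := fun {a b} => (show ∀ a b : M18, inE a = true → inE b = true → inE (a * b) = true by
    decide +kernel) a b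
  inv_mem' := fun {a} => inE_inv a

instance : DecidablePred (· ∈ E18) := fun m => decEq (inE m) true

attribute [local instance] fact_three

namespace XFrame

variable {X : Type u} [Group X] (f : XFrame X)

/-- The subgroup of order nine. -/
def eE : Subgroup X := E18.map f.φ

theorem mem_eE {x : X} : x ∈ f.eE ↔ ∃ m, inE m = true ∧ f.φ m = x := Iff.rfl

theorem card_eE : Nat.card f.eE = 9 := by
  rw [eE, Subgroup.card_map_of_injective f.φ_injective, Nat.card_eq_fintype_card]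
  decide +kernel

theorem eE_comm {x y : X} (hx : x ∈ f.eE) (hy : y ∈ f.eE) : x * y = y * x := by
  obtain ⟨m, hm, rfl⟩ := f.mem_eE.1 hx
  obtain ⟨n, hn, rfl⟩ := f.mem_eE.1 hy
  rw [← map_mul, ← map_mul, (show ∀ m n : M18, inE m = true → inE n = true → m * n = n * m by
    decide +kernel) m n hm hn]

theorem eE_noncyclic : ¬ IsCyclic f.eE := by
  intro h
  obtain ⟨⟨y, hy⟩, hgen⟩ := h.exists_generator
  have h9 := orderOf_eq_card_of_forall_mem_zpowers hgen
  obtain ⟨m, hm, hm'⟩ := f.mem_eE.1 hy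
  have h3 : orderOf (⟨y, hy⟩ : f.eE) ∣ 3 := orderOf_dvd_of_pow_eq_one (Subtype.ext (by
    rw [Subgroup.coe_pow, Subgroup.coe_one]
    show y ^ 3 = 1
    rw [← hm', ← map_pow,
      (show ∀ m : M18, inE m = true → m ^ 3 = 1 by decide +kernel) m hm, map_one]))
  rw [h9, f.card_eE] at h3
  norm_num at h3

/-- The centraliser of the subgroup of order nine is itself. -/
theorem cent_eE {g : X} (hd : g * f.φ (rr 1 0) = f.φ (rr 1 0) * g)
    (hy : g * f.φ (rr 0 1) = f.φ (rr 0 1) * g) : g ∈ f.eE := by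
  obtain ⟨v, hv, n, hn, rfl⟩ := f.sideD.cent (rr 1 0) rfl (by decide +kernel)
    (show psi 0 (rr 1 0) = 1 by decide +kernel) g hd
  have hv1 : v * f.φ (rr 0 1) = f.φ (rr 0 1) * v := by
    have h : f.φ n * f.φ (rr 0 1) = f.φ (rr 0 1) * f.φ n :=
      f.eE_comm ⟨n, hn, rfl⟩ ⟨_, rfl, rfl⟩
    refine mul_right_cancel (b := f.φ n) ?_
    rw [mul_assoc, ← h, ← mul_assoc, hy, mul_assoc]
  rw [f.sideD.fpf (rr 0 1) rfl (show psi 0 (rr 0 1) ≠ 1 by decide +kernel) v hv hv1, one_mul]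
  exact ⟨n, hn, rfl⟩

/-- The normaliser of the subgroup of order nine. -/
theorem norm_eE {g : X} (hg : ∀ x ∈ f.eE, g * x * g⁻¹ ∈ f.eE) : ∃ m, f.φ m = g := by
  have hconj : ∀ m : M18, inE m = true → m ≠ 1 →
      g * f.φ m * g⁻¹ = f.φ m ∨ g * f.φ m * g⁻¹ = f.φ m⁻¹ := by
    intro m hm hm1
    obtain ⟨n, hn, hn'⟩ := f.mem_eE.1 (hg _ ⟨m, hm, rfl⟩)
    rcases f.fuse hm hn hm1 hn'.symm with rfl | rfl
    · exact Or.inl hn'.symm
    · exact Or.inr hn'.symm
  have hprod : g * f.φ (rr 1 1) * g⁻¹ =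
      (g * f.φ (rr 1 0) * g⁻¹) * (g * f.φ (rr 0 1) * g⁻¹) := by
    rw [show rr 1 1 = rr 1 0 * rr 0 1 from rfl, map_mul]; group
  have key : ∀ g : X, g * f.φ (rr 1 0) * g⁻¹ = f.φ (rr 1 0) →
      g * f.φ (rr 0 1) * g⁻¹ = f.φ (rr 0 1) → ∃ m, f.φ m = g := fun g h1 h2 => by
    obtain ⟨m, -, hm⟩ := f.mem_eE.1 (f.cent_eE (g := g)
      (by conv_rhs => rw [← h1]
          group)
      (by conv_rhs => rw [← h2]
          group))
    exact ⟨m, hm⟩
  have hne : ∀ m n : M18, m ≠ n → f.φ m ≠ f.φ n := fun m n h e => h (f.φ_injective e)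
  rcases hconj (rr 1 0) rfl (by decide +kernel) with h1 | h1 <;>
    rcases hconj (rr 0 1) rfl (by decide +kernel) with h2 | h2
  · exact key g h1 h2
  · rw [h1, h2, ← map_mul] at hprod
    rcases hconj (rr 1 1) rfl (by decide +kernel) with h3 | h3 <;> rw [h3] at hprod <;>
      exact absurd hprod (hne _ _ (by decide +kernel))
  · rw [h1, h2, ← map_mul] at hprod
    rcases hconj (rr 1 1) rfl (by decide +kernel) with h3 | h3 <;> rw [h3] at hprod <;>
      exact absurd hprod (hne _ _ (by decide +kernel))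
  · have hc : ∀ m, inE m = true → g * f.φ m * g⁻¹ = f.φ m⁻¹ →
        (f.φ (ff 0 0) * g) * f.φ m * (f.φ (ff 0 0) * g)⁻¹ = f.φ m := fun m hm h => by
      rw [show f.φ (ff 0 0) * g * f.φ m * (f.φ (ff 0 0) * g)⁻¹ =
          f.φ (ff 0 0) * (g * f.φ m * g⁻¹) * (f.φ (ff 0 0))⁻¹ by group, h, ← map_inv f.φ (ff 0 0),
        ← map_mul, ← map_mul, flip_inv _ (inE_inv m hm), inv_inv]
    obtain ⟨m, hm⟩ := key _ (hc _ rfl h1) (hc _ rfl h2)
    exact ⟨(ff 0 0)⁻¹ * m, by rw [map_mul, map_inv, hm, inv_mul_cancel_left]⟩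

/-- Two involutions of a four group do not multiply to a diagonal element. -/
theorem no_pair (S : f.Side) {v : X} (hv : v ∈ S.V) {m : M18} (hm : inE m = true)
    (h0 : psi 0 m ≠ 1) (h1 : psi 1 m ≠ 1) (w : X) (hw : IsConj v w)
    (hw' : IsConj v (w⁻¹ * f.φ m)) : False := by
  have hsq : ∀ z : X, IsConj v z → z * z = 1 := by
    intro z hz
    obtain ⟨c, rfl⟩ := isConj_iff.1 hz
    rw [show c * v * c⁻¹ * (c * v * c⁻¹) = c * (v * v) * c⁻¹ by group, S.sq v hv, mul_one,
      mul_inv_cancel]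
  have hww := hsq w hw
  have hwi : w⁻¹ = w := inv_eq_of_mul_eq_one_right hww
  have h2 := hsq _ hw'
  rw [hwi] at h2
  have hinv : w * f.φ m * w⁻¹ = f.φ m⁻¹ := by
    rw [map_inv, hwi]
    exact eq_inv_of_mul_eq_one_left (by rw [← h2]; group)
  have hm1 : m ≠ 1 := fun h => h0 (by rw [h, map_one])
  have hc : (f.φ (ff 0 0) * w) * f.φ m = f.φ m * (f.φ (ff 0 0) * w) := by
    have h3 : (f.φ (ff 0 0) * w) * f.φ m * (f.φ (ff 0 0) * w)⁻¹ = f.φ m := by
      rw [show f.φ (ff 0 0) * w * f.φ m * (f.φ (ff 0 0) * w)⁻¹ =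
          f.φ (ff 0 0) * (w * f.φ m * w⁻¹) * (f.φ (ff 0 0))⁻¹ by group, hinv,
        ← map_inv f.φ (ff 0 0), ← map_mul, ← map_mul, flip_inv _ (inE_inv m hm), inv_inv]
    conv_rhs => rw [← h3]
    group
  obtain ⟨n, hn, hn'⟩ := f.diag_cent hm h0 h1 hc
  obtain ⟨q, hq⟩ := (show ∀ n : M18, inE n = true →
      ∃ q, q * ff 0 0 * q⁻¹ = (ff 0 0)⁻¹ * n by decide +kernel) n hn
  have hws : IsConj f.s w := isConj_iff.2 ⟨f.φ q, by
    rw [← f.φ_s, ← map_inv, ← map_mul, ← map_mul, hq, map_mul, map_inv, ← hn', inv_mul_cancel_left]⟩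
  exact S.nconj v hv (hws.trans hw.symm)

theorem cent_diag_card {m : M18} (hm : inE m = true) (h0 : psi 0 m ≠ 1) (h1 : psi 1 m ≠ 1) :
    Nat.card (Subgroup.centralizer ({f.φ m} : Set X)) = 9 := by
  rw [show Subgroup.centralizer ({f.φ m} : Set X) = f.eE from ?_, f.card_eE]
  refine le_antisymm (fun x hx => ?_) fun x hx => ?_
  · obtain ⟨n, hn, rfl⟩ := f.diag_cent hm h0 h1 (Subgroup.mem_centralizer_singleton_iff.1 hx)
    exact ⟨n, hn, rfl⟩
  · exact Subgroup.mem_centralizer_singleton_iff.2 (f.eE_comm hx ⟨m, hm, rfl⟩)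

variable [Fintype X]

/-- The six constituents. -/
theorem exists_family : ∃ (a : X → ℂ) (b : Fin 4 → X → ℂ), SIrr a ∧ (∀ k, SIrr (b k)) ∧
    (∀ k, f.Φ k = (fun _ => 1) + a + b k) ∧ (∀ k, Cfsg.classInner (f.Φ k) a = 1) ∧
    Pairwise fun i j : Fin 6 => Cfsg.classInner
      (![(fun _ => 1), a, b 0, b 1, b 2, b 3] i) (![(fun _ => 1), a, b 0, b 1, b 2, b 3] j) = 0 := by
  set u1 : X → ℂ := fun _ => 1 with hu1
  have hu : SIrr u1 := SIrr.one
  have h1Φ : ∀ k, Cfsg.classInner u1 (f.Φ k) = 1 := fun k => by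
    rw [classInner_conj_symm, f.Φ_one, map_one]
  set θ : Fin 4 → X → ℂ := fun k => f.Φ k - u1 with hθdef
  have hθg : ∀ k, Cfsg.IsGeneralizedCharacter X (θ k) := fun k => isGen_sub (f.Φ_gen k) hu.1
  have θθ : ∀ k l, Cfsg.classInner (θ k) (θ l) = if k = l then 2 else 1 := fun k l => by
    simp only [hθdef, classInner_sub_left, classInner_sub_right, f.ΦΦ, hu1, f.Φ_one]
    rw [← hu1, h1Φ, hu.2]
    split_ifs <;> norm_num
  have θ2 : ∀ k, Cfsg.classInner (θ k) (θ k) = 2 := fun k => by rw [θθ, if_pos rfl]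
  obtain ⟨a, p, q, ha, hp, hq, hap, haq, hpq, e0, e1⟩ :=
    exists_share (hθg 0) (hθg 1) (θ2 0) (θ2 1) (by rw [θθ, if_neg (by decide)])
  have sym : ∀ {x y : X → ℂ} {z : ℂ}, Cfsg.classInner x y = z → conj z = z →
      Cfsg.classInner y x = z := fun h h' => by rw [classInner_conj_symm, h, h']
  have hfix : conj (0 : ℂ) = 0 ∧ conj (1 : ℂ) = 1 := by simp
  -- the product with a further member
  have hx : ∀ k, k ≠ 0 → k ≠ 1 → Cfsg.classInner p (θ k) = 1 - Cfsg.classInner a (θ k) ∧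
      Cfsg.classInner q (θ k) = 1 - Cfsg.classInner a (θ k) := by
    intro k k0 k1
    have h0 := θθ 0 k
    have h1 := θθ 1 k
    rw [if_neg (Ne.symm k0), e0, classInner_add_left] at h0
    rw [if_neg (Ne.symm k1), e1, classInner_add_left] at h1
    exact ⟨by linear_combination h0, by linear_combination h1⟩
  have hone : ∀ k l, k ≠ 0 → k ≠ 1 → l ≠ 0 → l ≠ 1 → k ≠ l → Cfsg.classInner a (θ k) = 1 := by
    intro k l k0 k1 l0 l1 hkl
    rcases ha.inner_norm2 (hθg k) (θ2 k) with e | e | e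
    · exfalso
      obtain ⟨hpk, hqk⟩ := hx k k0 k1
      rw [e, sub_zero] at hpk hqk
      have hkp := sym hpk hfix.2
      have hkq := sym hqk hfix.2
      have hqp := sym hpq hfix.1
      have hN : θ k = p + q := by
        refine sub_eq_zero.1 (eq_zero_of_inner ?_)
        simp only [classInner_sub_left, classInner_sub_right, classInner_add_left,
          classInner_add_right, θ2, hp.2, hq.2, hpk, hqk, hkp, hkq, hpq, hqp]
        norm_num
      obtain ⟨hpl, hql⟩ := hx l l0 l1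
      have hkl' := θθ k l
      rw [if_neg hkl, hN, classInner_add_left, hpl, hql] at hkl'
      rcases ha.inner_norm2 (hθg l) (θ2 l) with e' | e' | e' <;> rw [e'] at hkl' <;>
        norm_num at hkl'
    · exact e
    · exfalso
      obtain ⟨hpk, -⟩ := hx k k0 k1
      rcases hp.inner_norm2 (hθg k) (θ2 k) with e' | e' | e' <;> rw [e', e] at hpk <;>
        norm_num at hpk
  have haθ : ∀ k, Cfsg.classInner a (θ k) = 1 := by
    intro k
    fin_cases k
    · change Cfsg.classInner a (θ 0) = 1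
      rw [e0, classInner_add_right, ha.2, hap, add_zero]
    · change Cfsg.classInner a (θ 1) = 1
      rw [e1, classInner_add_right, ha.2, haq, add_zero]
    · exact hone 2 3 (by decide) (by decide) (by decide) (by decide) (by decide)
    · exact hone 3 2 (by decide) (by decide) (by decide) (by decide) (by decide)
  have hθa : ∀ k, Cfsg.classInner (θ k) a = 1 := fun k => sym (haθ k) hfix.2
  set b : Fin 4 → X → ℂ := fun k => θ k - a with hb
  have hbS : ∀ k, SIrr (b k) := fun k => ⟨isGen_sub (hθg k) ha.1, by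
    simp only [hb, classInner_sub_left, classInner_sub_right, θ2, haθ, hθa, ha.2]
    norm_num⟩
  have h1θ : ∀ k, Cfsg.classInner u1 (θ k) = 0 := fun k => by
    simp only [hθdef, classInner_sub_right, h1Φ, hu.2, sub_self]
  have h1a : Cfsg.classInner u1 a = 0 := (hu.orth_pair ha hp hap (by rw [← e0]; exact h1θ 0)).1
  have h1b : ∀ k, Cfsg.classInner u1 (b k) = 0 := fun k => by
    simp only [hb, classInner_sub_right, h1θ, h1a, sub_self]
  have hab : ∀ k, Cfsg.classInner a (b k) = 0 := fun k => by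
    simp only [hb, classInner_sub_right, haθ, ha.2, sub_self]
  have hbb : ∀ k l, k ≠ l → Cfsg.classInner (b k) (b l) = 0 := fun k l hkl => by
    simp only [hb, classInner_sub_left, classInner_sub_right, θθ, if_neg hkl, haθ, hθa, ha.2]
    norm_num
  refine ⟨a, b, ha, hbS, fun k => ?_, fun k => ?_, ?_⟩
  · funext x
    simp only [hb, hθdef, hu1, Pi.add_apply, Pi.sub_apply]
    ring
  · have h := hθa k
    rw [hθdef, classInner_sub_left, h1a, sub_zero] at h
    exact h
  · exact pairwise_six (R := fun x y => Cfsg.classInner x y = 0) (fun h => sym h hfix.1) h1a h1b hab hbb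

/-- The elements of a normal `3'`-subgroup centralising an element of order three. -/
theorem inter_cent {M : Subgroup X} (hD : f.VD ≤ M) (hY : f.VY ≤ M) (h3 : ¬ 3 ∣ Nat.card M)
    {m : M18} (hm : inE m = true) (hm1 : m ≠ 1) {x : X} (hxM : x ∈ M)
    (hx : x * f.φ m = f.φ m * x) : x ∈ f.VD ∨ x ∈ f.VY := by
  have hone : ∀ n, inE n = true → f.φ n ∈ M → n = 1 := by
    intro n hn hnM
    by_contra hn1
    have h : orderOf (f.φ n) = 3 := by
      rw [orderOf_injective f.φ f.φ_injective]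
      exact orderOf_eq_prime ((show ∀ n : M18, inE n = true → n ^ 3 = 1 by decide +kernel) n hn) hn1
    exact h3 (h ▸ Subgroup.orderOf_dvd_natCard M hnM)
  by_cases h0 : psi 0 m = 1
  · obtain ⟨v, hv, n, hn, rfl⟩ := f.sideD.cent m hm hm1 h0 x hx
    rw [hone n hn (by simpa using mul_mem (inv_mem (hD hv)) hxM), map_one, mul_one]
    exact Or.inl hv
  · by_cases h1 : psi 1 m = 1
    · obtain ⟨v, hv, n, hn, rfl⟩ := f.sideY.cent m hm hm1 h1 x hx
      rw [hone n hn (by simpa using mul_mem (inv_mem (hY hv)) hxM), map_one, mul_one]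
      exact Or.inr hv
    · obtain ⟨n, hn, rfl⟩ := f.diag_cent hm h0 h1 hx
      rw [hone n hn hxM, map_one]
      exact Or.inl (one_mem _)

/-- The end of the argument. -/
theorem core_of_coprime {M : Subgroup X} (hMn : M.Normal) (hD : f.VD ≤ M) (hY : f.VY ≤ M)
    (h3 : ¬ 3 ∣ Nat.card M) : (f.VD ⊔ f.VY).Normal ∧ Nat.card ↥(f.VD ⊔ f.VY) = 16 ∧
      ∀ v ∈ f.VD, ∀ w ∈ f.VY, v * w = w * v := by
  haveI hEc : IsMulCommutative f.eE := ⟨⟨fun x y => Subtype.ext (f.eE_comm x.2 y.2)⟩⟩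
  have hcop : ∀ H : Subgroup X, H ≤ M → (Nat.card f.eE).Coprime (Nat.card H) := fun H hH => by
    rw [f.card_eE, show 9 = 3 ^ 2 from rfl]
    exact Nat.Coprime.pow_left 2 ((Nat.Prime.coprime_iff_not_dvd Nat.prime_three).2 fun h =>
      h3 (h.trans (Subgroup.card_dvd_of_le hH)))
  have hnormM : f.eE ≤ Subgroup.normalizer (M : Set X) := fun e _ =>
    Subgroup.mem_normalizer_fintype fun z hz => hMn.conj_mem z hz e
  -- generation
  have hle : M ≤ f.VD ⊔ f.VY := by
    refine Coprime.le_of_forall_inf_centralizer_le f.eE_noncyclic hnormM (hcop M le_rfl) ?_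
    intro x hx hx1 y hy
    obtain ⟨hy1, hy2⟩ := Subgroup.mem_inf.1 hy
    obtain ⟨m, hm, rfl⟩ := f.mem_eE.1 hx
    rcases f.inter_cent hD hY h3 hm (fun h => hx1 (by rw [h, map_one])) hy1
      (Subgroup.mem_centralizer_singleton_iff.1 hy2) with h | h
    · exact le_sup_left (α := Subgroup X) h
    · exact le_sup_right (α := Subgroup X) h
  have heq : f.VD ⊔ f.VY = M := le_antisymm (sup_le hD hY) hle
  -- a `2`-group
  have hodd : ∀ q : ℕ, q.Prime → q ∣ Nat.card M → q = 2 := by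
    intro q hq hdvd
    by_contra hq2
    haveI := Fact.mk hq
    obtain ⟨P, hP⟩ := Coprime.exists_invariant_sylow hnormM (hcop M le_rfl)
      (Or.inl (Group.isSolvable_of_comm fun a b => hEc.is_comm.comm a b)) q
    set Q := (P : Subgroup M).map M.subtype with hQ
    have hQM : Q ≤ M := Subgroup.map_subtype_le _
    have hQ1 : Q ≤ ⊥ := by
      refine Coprime.le_of_forall_inf_centralizer_le f.eE_noncyclic hP (hcop Q hQM) ?_
      intro x hx hx1 y hy
      obtain ⟨hy1, hy2⟩ := Subgroup.mem_inf.1 hy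
      obtain ⟨m, hm, rfl⟩ := f.mem_eE.1 hx
      have hyy : y * y = 1 := by
        rcases f.inter_cent hD hY h3 hm (fun h => hx1 (by rw [h, map_one])) (hQM hy1)
          (Subgroup.mem_centralizer_singleton_iff.1 hy2) with h | h
        · exact f.sq_VD y h
        · exact f.sq_VY y h
      obtain ⟨k, hk⟩ := (P.isPGroup'.map M.subtype) ⟨y, hy1⟩
      have hy3 : y ^ Nat.gcd 2 (q ^ k) = 1 :=
        pow_gcd_eq_one.2 ⟨by rw [pow_two, hyy], congrArg Subtype.val hk⟩
      rw [Nat.Coprime.pow_right k ((Nat.coprime_primes Nat.prime_two hq).2 (Ne.symm hq2)),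
        pow_one] at hy3
      exact Subgroup.mem_bot.2 hy3
    have hP1 : (P : Subgroup M) = ⊥ :=
      (Subgroup.map_eq_bot_iff_of_injective _ M.subtype_injective).1 (le_bot_iff.1 hQ1)
    have := P.dvd_card_of_dvd_card hdvd
    rw [hP1, Subgroup.card_bot, Nat.dvd_one] at this
    exact hq.one_lt.ne' this
  have hM2 : IsPGroup 2 M := IsPGroup.of_card
    (Nat.eq_prime_pow_of_unique_prime_dvd Nat.card_pos.ne' fun {d} hd hdvd => hodd d hd hdvd)
  -- commuting
  haveI : Nontrivial M := by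
    haveI : Nontrivial f.VD := Finite.one_lt_card_iff_nontrivial.1 (by rw [f.card_VD]; norm_num)
    obtain ⟨⟨v, hv⟩, hv1⟩ := exists_ne (1 : f.VD)
    exact ⟨⟨v, hD hv⟩, 1, fun h => hv1 (Subtype.ext (congrArg (fun t : M => (t : X)) h :))⟩
  set Z : Subgroup X := M ⊓ Subgroup.centralizer (M : Set X) with hZ
  have hZ1 : Z ≠ ⊥ := by
    haveI := hM2.center_nontrivial
    obtain ⟨⟨z, hz⟩, hz1⟩ := exists_ne (1 : Subgroup.center M)
    intro h
    have hzZ : (z : X) ∈ Z := Subgroup.mem_inf.2 ⟨z.2, Subgroup.mem_centralizer_iff.2 fun w hw =>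
      congrArg Subtype.val (Subgroup.mem_center_iff.1 hz ⟨w, hw⟩)⟩
    rw [h, Subgroup.mem_bot] at hzZ
    exact hz1 (Subtype.ext (Subtype.ext hzZ))
  have hZn : Z.Normal := by
    haveI := hMn
    rw [hZ]
    infer_instance
  obtain ⟨m, z, hm, hm1, hzZ, hzm, hz1⟩ : ∃ m z, inE m = true ∧ m ≠ 1 ∧ z ∈ Z ∧
      z * f.φ m = f.φ m * z ∧ z ≠ 1 := by
    by_contra hcon
    refine hZ1 (le_bot_iff.1 (Coprime.le_of_forall_inf_centralizer_le f.eE_noncyclic
      (fun e _ => Subgroup.mem_normalizer_fintype fun z hz => hZn.conj_mem z hz e)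
      (hcop Z inf_le_left) ?_))
    intro x hx hx1 y hy
    obtain ⟨hy1, hy2⟩ := Subgroup.mem_inf.1 hy
    obtain ⟨m, hm, rfl⟩ := f.mem_eE.1 hx
    by_contra hy0
    exact hcon ⟨m, y, hm, fun h => hx1 (by rw [h, map_one]), hy1,
      Subgroup.mem_centralizer_singleton_iff.1 hy2, fun h => hy0 (Subgroup.mem_bot.2 h)⟩
  have hfull : ∀ S : f.Side, z ∈ S.V → ∀ n : M18, inE n = true → psi S.k n ≠ 1 → S.V ≤ Z := by
    intro S hz n hn hk
    set W := Z ⊓ S.V with hW
    have hzW : z ∈ W := ⟨hzZ, hz⟩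
    have hz' : f.φ n * z * (f.φ n)⁻¹ ∈ W := ⟨hZn.conj_mem z hzZ _, S.norm n z hz⟩
    have hdvd : Nat.card W ∣ 4 := S.card ▸ Subgroup.card_dvd_of_le inf_le_right
    by_cases h4 : Nat.card W = 4
    · have : W = S.V := Subgroup.eq_of_le_of_card_ge inf_le_right (by rw [S.card, h4])
      exact this ▸ inf_le_left
    · exfalso
      haveI : Nontrivial W := ⟨⟨z, hzW⟩, 1, fun h => hz1 (congrArg Subtype.val h)⟩
      have h2 : Nat.card W = 2 := by
        have h := Finite.one_lt_card (α := W)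
        have hle4 := Nat.le_of_dvd (by norm_num) hdvd
        interval_cases hc : Nat.card W <;> norm_num at *
      obtain ⟨w, -, huniq⟩ := (Nat.card_eq_two_iff' (1 : W)).1 h2
      have e1 : (⟨z, hzW⟩ : W) = w := huniq _ fun h => hz1 (congrArg Subtype.val h)
      have e2 : (⟨_, hz'⟩ : W) = w := huniq _ fun h => hz1 (conj_eq_one_iff.1 (congrArg Subtype.val h))
      have e3 : f.φ n * z * (f.φ n)⁻¹ = z := congrArg Subtype.val (e2.trans e1.symm)
      refine hz1 (S.fpf n hn hk z hz ?_)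
      conv_lhs => rw [← e3]
      group
  have hcomm : ∀ v ∈ f.VD, ∀ w ∈ f.VY, v * w = w * v := by
    intro v hv w hw
    rcases f.inter_cent hD hY h3 hm hm1 hzZ.1 hzm with h | h
    · have hvZ := hfull f.sideD h (rr 0 1) rfl (show psi 0 (rr 0 1) ≠ 1 by decide +kernel) hv
      exact (Subgroup.mem_centralizer_iff.1 hvZ.2 w (hY hw)).symm
    · have hwZ := hfull f.sideY h (rr 1 0) rfl (show psi 1 (rr 1 0) ≠ 1 by decide +kernel) hw
      exact Subgroup.mem_centralizer_iff.1 hwZ.2 v (hD hv)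
  refine ⟨by rw [heq]; exact hMn, ?_, hcomm⟩
  let c : f.VD × f.VY →* X := MonoidHom.noncommCoprod f.VD.subtype f.VY.subtype
    fun v w => hcomm v v.2 w w.2
  have hc : Function.Injective c := by
    rw [injective_iff_map_eq_one]
    rintro ⟨⟨v, hv⟩, ⟨w, hw⟩⟩ h
    have h' : v * w = 1 := h
    have hwv : w = v := by
      rw [eq_inv_of_mul_eq_one_right h', inv_eq_of_mul_eq_one_right (f.sq_VD v hv)]
    subst hwv
    have hvd : w = 1 := f.fpf_VD w hv (f.VY_comm hw)
    subst hvd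
    rfl
  have hr : c.range = f.VD ⊔ f.VY := by
    exact (MonoidHom.noncommCoprod_range _ _ _).trans
      (by rw [Subgroup.range_subtype, Subgroup.range_subtype])
  rw [← hr, Nat.card_congr (MonoidHom.ofInjective hc).toEquiv.symm, Nat.card_prod, f.card_VD,
    f.card_VY]

/-- A normal subgroup of order prime to three containing both four groups. -/
theorem exists_coprime_normal :
    ∃ M : Subgroup X, M.Normal ∧ f.VD ≤ M ∧ f.VY ≤ M ∧ ¬ 3 ∣ Nat.card M := by
  classical
  obtain ⟨a, b, ha, hb, eΦ, hΦa, horth⟩ := f.exists_family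
  set e : Fin 6 → X → ℂ := ![(fun _ => 1), a, b 0, b 1, b 2, b 3] with he
  have heS : ∀ i, SIrr (e i) := by
    intro i
    fin_cases i
    exacts [SIrr.one, ha, hb 0, hb 1, hb 2, hb 3]
  have hbv : ∀ k x, b k x = f.Φ k x - 1 - a x := fun k x => by
    rw [eΦ]; simp only [Pi.add_apply]; ring
  -- a column
  have hsumN : ∀ m, inE m = true → m ≠ 1 → ∑ i, Complex.normSq (e i (f.φ m)) =
      1 + Complex.normSq (a (f.φ m)) + ∑ k, Complex.normSq ((fW k m : ℂ) - 1 - a (f.φ m)) := by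
    intro m hm hm1
    rw [he, Fin.sum_univ_six, Fin.sum_univ_four]
    simp only [Matrix.cons_val_zero, Matrix.cons_val_one, Matrix.cons_val, map_one, hbv,
      f.Φ_φ _ hm hm1]
    ring
  have hdiag : ∀ m, inE m = true → psi 0 m ≠ 1 → psi 1 m ≠ 1 →
      a (f.φ m) = 1 ∧ ∑ i, Complex.normSq (e i (f.φ m)) = 9 := by
    intro m hm h0 h1
    have hm1 : m ≠ 1 := fun h => h0 (by rw [h, map_one])
    have hle := column_le e heS horth (f.φ m)
    rw [hsumN m hm hm1, f.cent_diag_card hm h0 h1, Fin.sum_univ_four] at hle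
    have hW := (show ∀ m : M18, inE m = true → psi 0 m ≠ 1 → psi 1 m ≠ 1 →
      fW 0 m = 3 ∧ fW 1 m = 3 ∧ (fW 2 m = 0 ∧ fW 3 m = 3 ∨ fW 2 m = 3 ∧ fW 3 m = 0) by
        decide +kernel) m hm h0 h1
    have ha1 : a (f.φ m) = 1 := by
      obtain ⟨w0, w1, ⟨w2, w3⟩ | ⟨w2, w3⟩⟩ := hW <;>
        simp only [w0, w1, w2, w3, Complex.normSq_apply, Complex.sub_re, Complex.sub_im,
          Int.cast_ofNat, Int.cast_zero, Complex.re_ofNat, Complex.im_ofNat, Complex.zero_re,
          Complex.zero_im, Complex.one_re, Complex.one_im, Nat.cast_ofNat] at hle <;>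
        refine Complex.ext ?_ ?_ <;> simp only [Complex.one_re, Complex.one_im] <;>
        nlinarith [sq_nonneg ((a (f.φ m)).re - 1), sq_nonneg (a (f.φ m)).im]
    refine ⟨ha1, ?_⟩
    rw [hsumN m hm hm1, Fin.sum_univ_four, ha1]
    obtain ⟨w0, w1, ⟨w2, w3⟩ | ⟨w2, w3⟩⟩ := hW <;> simp only [w0, w1, w2, w3] <;> norm_num
  have hd11 := hdiag (rr 1 1) rfl (by decide +kernel) (by decide +kernel)
  -- the involutions lie in the kernel
  haveI hNn := ha.sKer_normal
  have hker : ∀ x, a x = a 1 → x ∈ sKer a := fun x hx y => ha.kernel_mul hx y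
  have h1Φ : ∀ k, f.Φ k 1 = 0 := fun k => f.Φ_two k (one_pow 4)
  have hb1 : -1 - a 1 ≠ 0 := by
    have := (hb 0).one_ne_zero
    rwa [hbv, h1Φ, zero_sub] at this
  have hV : ∀ S : f.Side, ∀ v ∈ S.V, v ∈ sKer a := by
    intro S v hv
    refine hker v ?_
    haveI : IsEmpty {w : X // IsConj v w ∧ IsConj v (w⁻¹ * f.φ (rr 1 1))} :=
      ⟨fun ⟨w, h1, h2⟩ => f.no_pair S hv rfl (by decide +kernel) (by decide +kernel) w h1 h2⟩
    have heq := pairs_of_column e heS horth (f.φ (rr 1 1)) (by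
      rw [hd11.2, f.cent_diag_card rfl (by decide +kernel) (by decide +kernel)]; norm_num) v v
    rw [(Nat.card_of_isEmpty :
        Nat.card {w : X // IsConj v w ∧ IsConj v (w⁻¹ * f.φ (rr 1 1))} = 0),
      Nat.cast_zero, mul_zero, eq_comm, mul_eq_zero,
      or_iff_right (Nat.cast_ne_zero.2 Nat.card_pos.ne'), he, Fin.sum_univ_six] at heq
    have hv4 : v ^ 4 = 1 := by
      rw [show 4 = 2 * 2 from rfl, pow_mul, pow_two v, S.sq v hv, one_pow]
    simp only [Matrix.cons_val_zero, Matrix.cons_val_one, Matrix.cons_val, hbv, h1Φ,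
      f.Φ_two _ hv4, f.Φ_φ _ (show inE (rr 1 1) = true from rfl) (by decide +kernel), hd11.1,
      show fW 0 (rr 1 1) = 3 from rfl, show fW 1 (rr 1 1) = 3 from rfl,
      show fW 2 (rr 1 1) = 0 from rfl, show fW 3 (rr 1 1) = 3 from rfl] at heq
    norm_num [map_ofNat] at heq
    have ha1 := ha.one_ne_zero
    have hsq : (a v - a 1) ^ 2 = 0 := by
      field_simp at heq
      linear_combination -heq
    exact sub_eq_zero.1 (pow_eq_zero_iff (by norm_num : (2 : ℕ) ≠ 0) |>.1 hsq)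
  have hDN : f.VD ≤ sKer a := hV f.sideD
  have hYN : f.VY ≤ sKer a := hV f.sideY
  have hcoset : ∀ S : f.Side, ∀ v ∈ S.V, ∀ x, a (v * x) = a x := fun S v hv x => by
    rw [show v * x = x * (x⁻¹ * v * x⁻¹⁻¹) by group]
    exact hNn.conj_mem v (hV S v hv) x⁻¹ x
  -- the value one on the subgroup of order nine
  have hinv : ∀ m, inE m = true → a (f.φ m⁻¹) = a (f.φ m) := fun m hm =>
    (ha.val_conj (isConj_iff.2 ⟨f.φ (ff 0 0), by
      rw [← map_inv, ← map_mul, ← map_mul, flip_inv m hm]⟩)).symm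
  have hline : ∀ (k : Fin 4) (m0 : M18), (k = 0 ∧ m0 = rr 0 1 ∨ k = 1 ∧ m0 = rr 1 0) → a (f.φ m0) = 1 := by
    intro k m0 hk
    set A := a (f.φ m0) with hA
    have h := f.inner_Φ k (isClassFunction_of_isGen ha.1)
      (fun m => if m = m0 ∨ m = m0⁻¹ then A else 1) fun S _ v hv m hm => by
        obtain ⟨hE, hm1, -⟩ := fW_supp k m hm
        rw [hcoset S v hv]
        by_cases hc : m = m0 ∨ m = m0⁻¹
        · rw [if_pos hc]
          rcases hc with rfl | rfl
          · rfl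
          · exact hinv _ (by rcases hk with ⟨-, rfl⟩ | ⟨-, rfl⟩ <;> rfl)
        · rw [if_neg hc]
          refine (hdiag m hE ?_ ?_).1 <;> rcases hk with ⟨rfl, rfl⟩ | ⟨rfl, rfl⟩
          · exact (fW_supp 0 m hm).2.2
          · exact fun h => hc ((show ∀ m : M18, inE m = true → m ≠ 1 → psi 0 m = 1 →
              m = rr 1 0 ∨ m = (rr 1 0)⁻¹ by decide +kernel) m hE hm1 h)
          · exact fun h => hc ((show ∀ m : M18, inE m = true → m ≠ 1 → psi 1 m = 1 →
              m = rr 0 1 ∨ m = (rr 0 1)⁻¹ by decide +kernel) m hE hm1 h)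
          · exact (fW_supp 1 m hm).2.2
    rw [hΦa] at h
    have hs : ∀ m, (fW k m : ℂ) * conj (if m = m0 ∨ m = m0⁻¹ then A else 1) =
        ((if m = m0 ∨ m = m0⁻¹ then fW k m else 0 : ℤ) : ℂ) * conj A +
          ((if m = m0 ∨ m = m0⁻¹ then 0 else fW k m : ℤ) : ℂ) := by
      intro m
      by_cases hc : m = m0 ∨ m = m0⁻¹ <;> simp [hc]
    rw [Finset.sum_congr rfl fun m _ => hs m, Finset.sum_add_distrib, ← Finset.sum_mul,
      ← Int.cast_sum, ← Int.cast_sum] at h
    have hsum : (∑ m : M18, if m = m0 ∨ m = m0⁻¹ then fW k m else 0) = 6 ∧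
        (∑ m : M18, if m = m0 ∨ m = m0⁻¹ then 0 else fW k m) = 12 := by
      rcases hk with ⟨rfl, rfl⟩ | ⟨rfl, rfl⟩ <;> decide +kernel
    rw [hsum.1, hsum.2] at h
    push_cast at h
    have hA1 : conj A = 1 := by linear_combination (-3 : ℂ) * h
    simpa using congrArg conj hA1
  have haE : ∀ m, inE m = true → m ≠ 1 → a (f.φ m) = 1 := by
    intro m hm hm1
    by_cases h0 : psi 0 m = 1
    · rcases (show ∀ m : M18, inE m = true → m ≠ 1 → psi 0 m = 1 →
        m = rr 1 0 ∨ m = (rr 1 0)⁻¹ by decide +kernel) m hm hm1 h0 with rfl | rfl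
      · exact hline 1 _ (Or.inr ⟨rfl, rfl⟩)
      · rw [hinv _ rfl]; exact hline 1 _ (Or.inr ⟨rfl, rfl⟩)
    · by_cases h1 : psi 1 m = 1
      · rcases (show ∀ m : M18, inE m = true → m ≠ 1 → psi 1 m = 1 →
          m = rr 0 1 ∨ m = (rr 0 1)⁻¹ by decide +kernel) m hm hm1 h1 with rfl | rfl
        · exact hline 0 _ (Or.inl ⟨rfl, rfl⟩)
        · rw [hinv _ rfl]; exact hline 0 _ (Or.inl ⟨rfl, rfl⟩)
      · exact (hdiag m hm h0 h1).1
  have hnormSyl : ∀ x : X, (∀ z ∈ f.eE, x * z * x⁻¹ ∈ f.eE) →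
      (∃ k : ℕ, x ^ (3 ^ k) = 1) → x ∈ f.eE := by
    intro x hx ⟨k, hk⟩
    obtain ⟨n, rfl⟩ := f.norm_eE hx
    refine ⟨n, ?_, rfl⟩
    show inE n = true
    by_contra hn
    have h2 : n ^ 2 = 1 := (show ∀ n : M18, ¬ inE n = true → n ^ 2 = 1 by decide +kernel) n hn
    have h3 : n ^ (3 ^ k) = 1 := f.φ_injective (by rw [map_pow, hk, map_one])
    have h1 := pow_gcd_eq_one.2 ⟨h2, h3⟩
    rw [Nat.Coprime.pow_right k (by norm_num : Nat.Coprime 2 3), pow_one] at h1
    exact hn (h1 ▸ rfl)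
  have hE9 : IsPGroup 3 f.eE := IsPGroup.of_card (n := 2) (by rw [f.card_eE]; norm_num)
  by_cases hNE : ∃ m, inE m = true ∧ m ≠ 1 ∧ f.φ m ∈ sKer a
  · -- a linear character
    obtain ⟨m0, hm0, hm01, hmem⟩ := hNE
    have ha1 : a 1 = 1 := by
      have h := hmem 1
      rw [one_mul, haE m0 hm0 hm01] at h
      exact h.symm
    have hirr : Cfsg.IsIrrCharacter X a := isIrr_of_gen_norm_one ha.1 ha.2 (by rw [ha1]; norm_num)
    obtain ⟨χ, hχ⟩ := exists_hom_of_degree_one (isCharacter_of_isIrr hirr) ha1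
    have hχv : ∀ x, a x = (χ x : ℂ) := fun x => congrFun hχ x
    have hχk : ∀ x, x ∈ χ.ker ↔ a x = 1 := fun x => by
      rw [MonoidHom.mem_ker, hχv, Units.ext_iff, Units.val_one]
    have hs : a f.s ≠ 1 := by
      intro hs1
      have hs4 : f.s ^ 4 = 1 := by
        rw [show 4 = 2 * 2 from rfl, pow_mul, pow_two f.s, f.s_mul_s, one_pow]
      haveI hn0 := (hb 0).sKer_normal
      have hsk : f.s ∈ sKer (b 0) := fun y => (hb 0).kernel_mul
        (by rw [hbv, hbv, f.Φ_two 0 hs4, h1Φ, hs1, ha1]) y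
      have hmem' : f.φ (ff 0 0 * rr 0 1 * (ff 0 0)⁻¹ * (rr 0 1)⁻¹) ∈ sKer (b 0) := by
        rw [map_mul, map_mul, map_mul, map_inv, map_inv, f.φ_s,
          show f.s * f.φ (rr 0 1) * f.s⁻¹ * (f.φ (rr 0 1))⁻¹ =
            f.s * (f.φ (rr 0 1) * f.s⁻¹ * (f.φ (rr 0 1))⁻¹) by group]
        exact mul_mem hsk (hn0.conj_mem _ (inv_mem hsk) _)
      rw [show ff 0 0 * rr 0 1 * (ff 0 0)⁻¹ * (rr 0 1)⁻¹ = rr 0 1 by decide +kernel] at hmem'
      have h := hmem' 1
      rw [one_mul, hbv, hbv, f.Φ_φ 0 rfl (by decide +kernel), haE _ rfl (by decide +kernel), h1Φ,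
        ha1, show fW 0 (rr 0 1) = 3 from rfl] at h
      norm_num at h
    set K := χ.ker with hK
    have hVK : ∀ v ∈ sKer a, v ∈ K := fun v hv => (hχk v).2 (by
      have := hv 1; rw [one_mul, ha1] at this; exact this)
    have hEK : f.eE ≤ K := by
      intro x hx
      obtain ⟨m, hm, rfl⟩ := f.mem_eE.1 hx
      by_cases h1 : m = 1
      · rw [h1, map_one]; exact one_mem _
      · exact (hχk _).2 (haE m hm h1)
    have hnorm : ∀ k : K, k ∈ Subgroup.normalizer ((f.eE.subgroupOf K : Subgroup K) : Set K) →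
        k ∈ f.eE.subgroupOf K := by
      intro k hk
      obtain ⟨n, hn⟩ := f.norm_eE (g := (k : X)) fun z hz =>
        Subgroup.mem_subgroupOf.1 ((Subgroup.mem_normalizer_iff.1 hk ⟨z, hEK hz⟩).1
          (Subgroup.mem_subgroupOf.2 hz))
      refine Subgroup.mem_subgroupOf.2 ⟨n, ?_, hn⟩
      show inE n = true
      by_contra hne
      refine hs ((hχk _).1 ?_)
      have hns : inE (ff 0 0 * n) = true :=
        (show ∀ n : M18, ¬ inE n = true → inE (ff 0 0 * n) = true by decide +kernel) n hne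
      have h2 : f.φ (ff 0 0 * n) ∈ K := hEK ⟨_, hns, rfl⟩
      rw [map_mul, f.φ_s, hn] at h2
      exact (Subgroup.mul_mem_cancel_right _ k.2).1 h2
    obtain ⟨M0, hM0n, hcop, -, htop⟩ := exists_normal_complement (p := 3)
      (P := f.eE.subgroupOf K)
      (hE9.of_equiv (Subgroup.subgroupOfEquivOfLe hEK).symm) (fun k hk _ => hnorm k hk)
      (fun k hk => Subgroup.mem_centralizer_iff.2 fun z hz =>
        Subtype.ext (f.eE_comm (Subgroup.mem_subgroupOf.1 hz)
          (Subgroup.mem_subgroupOf.1 (hnorm k hk))))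
    -- the elements of order prime to three
    have hin : ∀ x : K, ¬ 3 ∣ orderOf x → x ∈ M0 := by
      intro x hx
      have hmk : ∀ z : K, (QuotientGroup.mk' M0 z) ^ 9 = 1 := by
        intro z
        have hz : z ∈ M0 ⊔ f.eE.subgroupOf K := htop ▸ Subgroup.mem_top z
        obtain ⟨p, hp, q, hq, rfl⟩ := Subgroup.mem_sup_of_normal_left.1 hz
        have hq9 : q ^ 9 = 1 := by
          have h := pow_card_eq_one' (x := (⟨q, Subgroup.mem_subgroupOf.1 hq⟩ : f.eE))
          rw [f.card_eE] at h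
          exact Subtype.ext (by rw [Subgroup.coe_pow, Subgroup.coe_one]; exact congrArg Subtype.val h)
        rw [map_mul, show QuotientGroup.mk' M0 p = 1 from (QuotientGroup.eq_one_iff p).2 hp, one_mul, ← map_pow, hq9, map_one]
      have h1 : (QuotientGroup.mk' M0 x) ^ orderOf x = 1 := by
        rw [← map_pow, pow_orderOf_eq_one, map_one]
      have h := pow_gcd_eq_one.2 ⟨hmk x, h1⟩
      rw [show 9 = 3 ^ 2 from rfl,
        Nat.Coprime.pow_left 2 ((Nat.Prime.coprime_iff_not_dvd Nat.prime_three).2 hx), pow_one] at h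
      exact (QuotientGroup.eq_one_iff x).1 h
    refine ⟨M0.map K.subtype, ⟨?_⟩, ?_, ?_, ?_⟩
    · rintro _ ⟨x, hx, rfl⟩ g
      have hgx : g * (x : X) * g⁻¹ ∈ K := (inferInstance : K.Normal).conj_mem _ x.2 g
      refine ⟨⟨_, hgx⟩, hin _ fun h => hcop ?_, rfl⟩
      rw [← Subgroup.orderOf_coe] at h
      have e : orderOf (g * (x : X) * g⁻¹) = orderOf (x : X) :=
        orderOf_injective (MulAut.conj g).toMonoidHom (MulAut.conj g).injective (x : X)
      rw [e, Subgroup.orderOf_coe] at h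
      exact h.trans (Subgroup.orderOf_dvd_natCard M0 hx)
    · intro v hv
      refine ⟨⟨v, hVK v (hDN hv)⟩, hin _ ?_, rfl⟩
      intro h
      have h2 : orderOf (⟨v, hVK v (hDN hv)⟩ : K) ∣ 2 :=
        orderOf_dvd_of_pow_eq_one (Subtype.ext (by simp [pow_two, f.sq_VD v hv]))
      exact absurd (h.trans h2) (by norm_num)
    · intro v hv
      refine ⟨⟨v, hVK v (hYN hv)⟩, hin _ ?_, rfl⟩
      intro h
      have h2 : orderOf (⟨v, hVK v (hYN hv)⟩ : K) ∣ 2 :=
        orderOf_dvd_of_pow_eq_one (Subtype.ext (by simp [pow_two, f.sq_VY v hv]))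
      exact absurd (h.trans h2) (by norm_num)
    · rwa [Subgroup.card_map_of_injective K.subtype_injective]
  · -- the kernel has order prime to three
    refine ⟨sKer a, hNn, hDN, hYN, fun h3 => hNE ?_⟩
    obtain ⟨x, hx⟩ := exists_prime_orderOf_dvd_card' (G := sKer a) 3 h3
    obtain ⟨S, hS⟩ := exists_sylow_eq hE9 fun z hz hk => hnormSyl z
      (fun w hw => (Subgroup.mem_normalizer_iff.1 hz w).1 hw) hk
    have hxP : IsPGroup 3 (Subgroup.zpowers (x : X)) :=
      IsPGroup.of_card (n := 1) (by rw [Nat.card_zpowers, Subgroup.orderOf_coe, hx, pow_one])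
    obtain ⟨P, hP⟩ := hxP.exists_le_sylow
    obtain ⟨g, hg⟩ := MulAction.exists_smul_eq X P S
    have hgx : g * (x : X) * g⁻¹ ∈ f.eE := by
      rw [← hS, ← hg, Sylow.coe_subgroup_smul]
      exact ⟨x, hP (Subgroup.mem_zpowers _), by simp [MulAut.conj_apply]⟩
    obtain ⟨m, hm, hm'⟩ := f.mem_eE.1 hgx
    refine ⟨m, hm, fun h => ?_, hm' ▸ hNn.conj_mem _ x.2 g⟩
    rw [h, map_one, eq_comm, conj_eq_one_iff] at hm'
    rw [show x = 1 from Subtype.ext hm', orderOf_one] at hx
    norm_num at hx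

omit [Fintype X] in
/-- The two four groups commute and generate a normal subgroup of order sixteen. -/
theorem normal_core [Finite X] : (f.VD ⊔ f.VY).Normal ∧ Nat.card ↥(f.VD ⊔ f.VY) = 16 ∧
    ∀ v ∈ f.VD, ∀ w ∈ f.VY, v * w = w * v := by
  haveI := Fintype.ofFinite X
  obtain ⟨M, hMn, hD, hY, h3⟩ := f.exists_coprime_normal
  exact f.core_of_coprime hMn hD hY h3

end XFrame

end CfsgLib.G2Amalgam
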