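import Cfsg.Agent.G2Amalgam.XFrame
import Cfsg.Agent.G2Amalgam.Small

/-!
# The generalised characters attached to the four lines of an `XFrame`

`M18` is the generalised dihedral group of order eighteen, `φ` its embedding, and a `Side` is one
of the two four groups with the line it centralises. `Φ k` is the sum of the functions inflated to
the two subgroups of order 72 and induced, less the one induced from the group of order 18.
-/

set_option autoImplicit false
set_option linter.style.haveILetI false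
set_option linter.unusedSectionVars false
set_option maxRecDepth 100000

open scoped ComplexConjugate

namespace CfsgLib.G2Amalgam

open CfsgLib.Characters

universe u

/-- The pairs with equal sign. -/
def M18 : Subgroup M36 where
  carrier := {m | isR m.1 = isR m.2}
  one_mem' := rfl
  mul_mem' := fun {a b} ha hb =>
    (show ∀ a b c d : D3, isR a = isR b → isR c = isR d → isR (a * c) = isR (b * d) by decide)
      a.1 a.2 b.1 b.2 ha hb
  inv_mem' := fun {a} ha =>
    (show ∀ a b : D3, isR a = isR b → isR a⁻¹ = isR b⁻¹ by decide) a.1 a.2 ha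

instance : Fintype M18 := Subtype.fintype fun m : M36 => isR m.1 = isR m.2

/-- A rotation. -/
def rr (i j : ZMod 3) : M18 := ⟨(.r i, .r j), rfl⟩

/-- A flip. -/
def ff (i j : ZMod 3) : M18 := ⟨(.sr i, .sr j), rfl⟩

/-- Membership of the subgroup of order nine. -/
def inE (m : M18) : Bool := isR m.1.1

/-- The four linear forms. -/
def lin : Fin 4 → ZMod 3 → ZMod 3 → ZMod 3
  | 0, _, j => j
  | 1, i, _ => i
  | 2, i, j => i - j
  | 3, i, j => i + j

def psiFun (k : Fin 4) (m : M18) : D3 :=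
  match m.1 with
  | (.r i, .r j) => .r (lin k i j)
  | (.sr i, .sr j) => .sr (lin k i j)
  | _ => 1

/-- The four quotients of `M18` of order six. -/
def psi (k : Fin 4) : M18 →* D3 where
  toFun := psiFun k
  map_one' := (show ∀ k, psiFun k 1 = 1 by decide +kernel) k
  map_mul' := (show ∀ k a b, psiFun k (a * b) = psiFun k a * psiFun k b by decide +kernel) k

/-- The value `3` off a line, inside the subgroup of order nine. -/
def fW (k : Fin 4) (m : M18) : ℤ := g0 (psi k m)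

theorem fW_supp : ∀ k m, fW k m ≠ 0 → inE m = true ∧ m ≠ 1 ∧ psi k m ≠ 1 := by decide +kernel

theorem four_pow : ∀ m : M18, inE m = true → m ^ 4 = m := by decide +kernel

theorem exists_rr : ∀ m : M18, inE m = true → ∃ i j, m = rr i j := by decide +kernel

theorem exists_or : ∀ m : M18, (∃ i j, m = rr i j) ∨ ∃ i j, m = ff i j := by decide +kernel

theorem inE_rr : ∀ i j, inE (rr i j) = true := by decide +kernel

theorem inE_conj : ∀ m n : M18, inE m = true → inE (n * m * n⁻¹) = true := by decide +kernel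

theorem inE_inv : ∀ m : M18, inE m = true → inE m⁻¹ = true := by decide +kernel

theorem flip_inv : ∀ m : M18, inE m = true → ff 0 0 * m * (ff 0 0)⁻¹ = m⁻¹ := by decide +kernel

theorem conj_psi : ∀ (k : Fin 4) (m : M18), psi k m = 1 → psi k m⁻¹ = 1 := by decide +kernel

namespace XFrame

variable {X : Type u} [Group X] (f : XFrame X)

theorem d_pow3 : f.d ^ 3 = 1 := by rw [← f.d_ord]; exact pow_orderOf_eq_one _

theorem y_pow3 : f.y ^ 3 = 1 := by rw [← f.y_ord]; exact pow_orderOf_eq_one _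

theorem s_mul_s : f.s * f.s = 1 := by rw [← pow_two, ← f.s_ord]; exact pow_orderOf_eq_one _

theorem dpow_add (i j : ZMod 3) : f.d ^ (i + j).val = f.d ^ i.val * f.d ^ j.val := by
  rw [← pow_add, ZMod.val_add, ← pow_eq_pow_mod _ f.d_pow3]

theorem ypow_add (i j : ZMod 3) : f.y ^ (i + j).val = f.y ^ i.val * f.y ^ j.val := by
  rw [← pow_add, ZMod.val_add, ← pow_eq_pow_mod _ f.y_pow3]

/-- The element with the given exponents. -/
def pp (i j : ZMod 3) : X := f.d ^ i.val * f.y ^ j.val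

theorem pp_add (i j i' j' : ZMod 3) : f.pp i j * f.pp i' j' = f.pp (i + i') (j + j') := by
  have hc : Commute (f.y ^ j.val) (f.d ^ i'.val) := ((show Commute f.d f.y from f.comm).symm).pow_pow _ _
  unfold pp
  rw [f.dpow_add, f.ypow_add, mul_assoc, ← mul_assoc (f.y ^ j.val), hc.eq]
  simp only [mul_assoc]

theorem pp_zero : f.pp 0 0 = 1 := by simp [pp]

theorem pp_neg (i j : ZMod 3) : f.pp (-i) (-j) = (f.pp i j)⁻¹ :=
  eq_inv_of_mul_eq_one_left (by rw [f.pp_add, neg_add_cancel, neg_add_cancel, f.pp_zero])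

theorem pp_mul_s (i j : ZMod 3) : f.pp i j * f.s = f.s * f.pp (-i) (-j) := by
  have hsi : f.s⁻¹ = f.s := inv_eq_of_mul_eq_one_right f.s_mul_s
  have h : ∀ k l : ℕ, f.s * (f.d ^ k * f.y ^ l) * f.s⁻¹ = (f.d ^ k * f.y ^ l)⁻¹ := by
    intro k l
    rw [show f.s * (f.d ^ k * f.y ^ l) * f.s⁻¹ =
        (f.s * f.d ^ k * f.s⁻¹) * (f.s * f.y ^ l * f.s⁻¹) by group, ← conj_pow, ← conj_pow, hsi,
      f.s_inv_d, f.s_inv_y, inv_pow, inv_pow, mul_inv_rev,
      ((show Commute f.d f.y from f.comm).pow_pow k l).inv_inv.eq]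
  rw [f.pp_neg, pp, ← h i.val j.val, hsi]
  simp only [← mul_assoc, f.s_mul_s, one_mul]

/-- The embedding, as a function. -/
def phiFun (m : M18) : X :=
  match m.1 with
  | (.r i, .r j) => f.pp i j
  | (.sr i, .sr j) => f.s * f.pp i j
  | _ => 1

/-- The embedding of `M18`. -/
def φ : M18 →* X where
  toFun := f.phiFun
  map_one' := f.pp_zero
  map_mul' := fun a b => by
    rcases exists_or a with ⟨i, j, rfl⟩ | ⟨i, j, rfl⟩ <;>
      rcases exists_or b with ⟨k, l, rfl⟩ | ⟨k, l, rfl⟩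
    · exact (f.pp_add i j k l).symm
    · show f.s * f.pp (k - i) (l - j) = f.pp i j * (f.s * f.pp k l)
      rw [← mul_assoc, f.pp_mul_s, mul_assoc, f.pp_add, neg_add_eq_sub, neg_add_eq_sub]
    · show f.s * f.pp (i + k) (j + l) = f.s * f.pp i j * f.pp k l
      rw [mul_assoc, f.pp_add]
    · show f.pp (k - i) (l - j) = f.s * f.pp i j * (f.s * f.pp k l)
      rw [mul_assoc, ← mul_assoc (f.pp i j), f.pp_mul_s, mul_assoc, f.pp_add, ← mul_assoc,
        f.s_mul_s, one_mul, neg_add_eq_sub, neg_add_eq_sub]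

theorem φ_rr (i j : ZMod 3) : f.φ (rr i j) = f.d ^ i.val * f.y ^ j.val := rfl

theorem φ_ff (i j : ZMod 3) : f.φ (ff i j) = f.s * f.pp i j := rfl

theorem φ_s : f.φ (ff 0 0) = f.s := by rw [f.φ_ff, f.pp_zero, mul_one]

theorem φ_d : f.φ (rr 1 0) = f.d := by simp [φ_rr, ZMod.val_one]

theorem φ_y : f.φ (rr 0 1) = f.y := by simp [φ_rr, ZMod.val_one]

theorem φ_nat (i j : ℕ) : f.φ (rr (i : ZMod 3) (j : ZMod 3)) = f.d ^ i * f.y ^ j := by
  rw [f.φ_rr, ZMod.val_natCast, ZMod.val_natCast, ← pow_eq_pow_mod _ f.d_pow3,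
    ← pow_eq_pow_mod _ f.y_pow3]

theorem φ_injective : Function.Injective f.φ := by
  rw [injective_iff_map_eq_one]
  intro m hm
  rcases exists_or m with ⟨i, j, rfl⟩ | ⟨i, j, rfl⟩
  · rw [f.φ_rr] at hm
    have hy : f.y ^ j.val ∈ Subgroup.zpowers f.d := by
      rw [eq_inv_of_mul_eq_one_right hm]
      exact inv_mem (pow_mem (Subgroup.mem_zpowers _) _)
    have hj : j = 0 := by
      by_contra hj
      refine f.y_notMem ?_
      rcases (show ∀ j : ZMod 3, j ≠ 0 → j.val = 1 ∨ j.val = 2 by decide) j hj with h | h <;>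
        rw [h] at hy
      · simpa using hy
      · have h4 : (f.y ^ 2) * (f.y ^ 2) = f.y := by
          rw [← pow_add, show 2 + 2 = 3 + 1 from rfl, pow_succ, f.y_pow3, one_mul]
        exact h4 ▸ mul_mem hy hy
    subst hj
    rw [ZMod.val_zero, pow_zero, mul_one] at hm
    have hi := orderOf_dvd_of_pow_eq_one hm
    rw [f.d_ord] at hi
    have : i = 0 := (ZMod.val_eq_zero i).1 (Nat.eq_zero_of_dvd_of_lt hi (ZMod.val_lt i))
    subst this
    rfl
  · rw [f.φ_ff] at hm
    have hs : f.s = f.φ (rr (-i) (-j)) := by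
      show f.s = f.pp (-i) (-j)
      rw [f.pp_neg]; exact eq_inv_of_mul_eq_one_left hm
    have h1 : f.s * f.d = f.d * f.s := by
      rw [hs, ← f.φ_d, ← map_mul, ← map_mul,
        show rr (-i) (-j) * rr 1 0 = rr 1 0 * rr (-i) (-j) from
          (show ∀ a b : ZMod 3, rr a b * rr 1 0 = rr 1 0 * rr a b by decide +kernel) _ _]
    have h2 := f.s_inv_d
    rw [h1, mul_assoc, f.s_mul_s, mul_one] at h2
    have h3 : f.d ^ 2 = 1 := by
      rw [pow_two]
      nth_rw 2 [h2]
      rw [mul_inv_cancel]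
    have h4 := orderOf_dvd_of_pow_eq_one h3
    rw [f.d_ord] at h4
    norm_num at h4

/-- Conjugate elements of the subgroup of order nine are equal or inverse. -/
theorem fuse {m n : M18} (hm : inE m = true) (hn : inE n = true) (hm1 : m ≠ 1) {g : X}
    (h : g * f.φ m * g⁻¹ = f.φ n) : n = m ∨ n = m⁻¹ := by
  obtain ⟨i, j, rfl⟩ := exists_rr m hm
  obtain ⟨k, l, rfl⟩ := exists_rr n hn
  rcases f.nonfused i.val j.val k.val l.val (fun h0 => hm1 (f.φ_injective (h0.trans (map_one _).symm)))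
    (isConj_iff.2 ⟨g, h⟩) with e | e
  · exact Or.inl (f.φ_injective e)
  · exact Or.inr (f.φ_injective (by rw [map_inv]; exact e))

theorem diag_cent {m : M18} (hm : inE m = true) (h0 : psi 0 m ≠ 1) (h1 : psi 1 m ≠ 1) {x : X}
    (hx : x * f.φ m = f.φ m * x) : ∃ n, inE n = true ∧ x = f.φ n := by
  obtain ⟨i, j, rfl⟩ := exists_rr m hm
  obtain ⟨e, he, hm'⟩ : ∃ e : M18, (e = rr 1 1 ∨ e = rr 1 2) ∧ (e = rr i j ∨ e = rr i j * rr i j) :=
    (show ∀ i j, psi 0 (rr i j) ≠ 1 → psi 1 (rr i j) ≠ 1 → ∃ e : M18,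
      (e = rr 1 1 ∨ e = rr 1 2) ∧ (e = rr i j ∨ e = rr i j * rr i j) by decide +kernel) i j h0 h1
  have hxe : x * f.φ e = f.φ e * x := by
    rcases hm' with rfl | rfl
    · exact hx
    · rw [map_mul]; exact (show Commute x _ from hx).mul_right hx |>.eq
  have he' : f.φ e = f.d * f.y ∨ f.φ e = f.d * f.y⁻¹ := by
    rcases he with rfl | rfl
    · left; rw [show rr 1 1 = rr 1 0 * rr 0 1 from rfl, map_mul, f.φ_d, f.φ_y]
    · right
      rw [show rr 1 2 = rr 1 0 * (rr 0 1)⁻¹ from by decide +kernel, map_mul, map_inv, f.φ_d, f.φ_y]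
  obtain ⟨a, b, rfl⟩ := f.cent_diag _ he' x hxe
  exact ⟨_, inE_rr _ _, (f.φ_nat a b).symm⟩

/-- One of the four groups, with the line `k` it centralises and the line `k'` of the other. -/
structure Side where
  V : Subgroup X
  k : Fin 4
  k' : Fin 4
  kk : k = 0 ∧ k' = 1 ∨ k = 1 ∧ k' = 0
  card : Nat.card V = 4
  sq : ∀ v ∈ V, v * v = 1
  nconj : ∀ v ∈ V, ¬ IsConj f.s v
  norm : ∀ m : M18, ∀ v ∈ V, f.φ m * v * (f.φ m)⁻¹ ∈ V
  cent : ∀ m : M18, inE m = true → m ≠ 1 → psi k m = 1 → ∀ x : X,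
    x * f.φ m = f.φ m * x → ∃ v ∈ V, ∃ n, inE n = true ∧ x = v * f.φ n
  comm : ∀ m : M18, inE m = true → psi k m = 1 → ∀ v ∈ V, v * f.φ m = f.φ m * v
  fpf : ∀ m : M18, inE m = true → psi k m ≠ 1 → ∀ v ∈ V, v * f.φ m = f.φ m * v → v = 1

theorem VD_comm {v : X} (hv : v ∈ f.VD) : v * f.d = f.d * v :=
  (f.cent_d v).2 ⟨v, hv, 0, 0, by simp⟩

theorem VY_comm {v : X} (hv : v ∈ f.VY) : v * f.y = f.y * v :=
  (f.cent_y v).2 ⟨v, hv, 0, 0, by simp⟩

/-- The side of `d`. -/
def sideD : f.Side where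
  V := f.VD
  k := 0
  k' := 1
  kk := Or.inl ⟨rfl, rfl⟩
  card := f.card_VD
  sq := f.sq_VD
  nconj := f.not_conj_VD
  norm m v hv := f.norm_VD _ (by
    rw [← f.φ_d, ← map_inv, ← map_mul, ← map_mul]
    rcases (show ∀ m : M18, m * rr 1 0 * m⁻¹ = rr 1 0 ∨ m * rr 1 0 * m⁻¹ = (rr 1 0)⁻¹ by
      decide +kernel) m with h | h <;> rw [h]
    · exact Subgroup.mem_zpowers _
    · rw [map_inv]; exact inv_mem (Subgroup.mem_zpowers _)) v hv
  cent m hm hm1 hk x hx := by
    have hd : x * f.d = f.d * x := by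
      rcases (show ∀ m : M18, inE m = true → m ≠ 1 → psi 0 m = 1 → rr 1 0 = m ∨ rr 1 0 = m * m by
        decide +kernel) m hm hm1 hk with h | h <;> rw [← f.φ_d, h]
      · exact hx
      · rw [map_mul]; exact (show Commute x _ from hx).mul_right hx |>.eq
    obtain ⟨v, hv, i, j, rfl⟩ := (f.cent_d x).1 hd
    exact ⟨v, hv, rr (i : ZMod 3) (j : ZMod 3), inE_rr _ _, by rw [f.φ_nat, mul_assoc]⟩
  comm m hm hk v hv := by
    obtain ⟨i, j, rfl⟩ := exists_rr m hm
    obtain rfl : j = 0 := (show ∀ i j, psi 0 (rr i j) = 1 → j = 0 by decide +kernel) i j hk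
    rw [f.φ_rr, ZMod.val_zero, pow_zero, mul_one]
    exact ((show Commute v f.d from f.VD_comm hv).pow_right _).eq
  fpf m hm hk v hv hc := by
    obtain ⟨i, j, rfl⟩ := exists_rr m hm
    have hj : j ≠ 0 := (show ∀ i j, psi 0 (rr i j) ≠ 1 → j ≠ 0 by decide +kernel) i j hk
    have hd : Commute v f.d := f.VD_comm hv
    rw [f.φ_rr] at hc
    have hyj : Commute v (f.y ^ j.val) := by
      have h := ((hd.pow_right i.val).inv_right).mul_right (show Commute v _ from hc)
      rwa [inv_mul_cancel_left] at h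
    refine f.fpf_VD v hv ?_
    rcases (show ∀ j : ZMod 3, j ≠ 0 → j.val = 1 ∨ j.val = 2 by decide) j hj with h | h <;>
      rw [h] at hyj
    · simpa using hyj.eq
    · have h' := hyj.mul_right hyj
      rw [← pow_add, show 2 + 2 = 3 + 1 from rfl, pow_succ, f.y_pow3, one_mul] at h'
      exact h'.eq

/-- The side of `y`. -/
def sideY : f.Side where
  V := f.VY
  k := 1
  k' := 0
  kk := Or.inr ⟨rfl, rfl⟩
  card := f.card_VY
  sq := f.sq_VY
  nconj := f.not_conj_VY
  norm m v hv := f.norm_VY _ (by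
    rw [← f.φ_y, ← map_inv, ← map_mul, ← map_mul]
    rcases (show ∀ m : M18, m * rr 0 1 * m⁻¹ = rr 0 1 ∨ m * rr 0 1 * m⁻¹ = (rr 0 1)⁻¹ by
      decide +kernel) m with h | h <;> rw [h]
    · exact Subgroup.mem_zpowers _
    · rw [map_inv]; exact inv_mem (Subgroup.mem_zpowers _)) v hv
  cent m hm hm1 hk x hx := by
    have hy : x * f.y = f.y * x := by
      rcases (show ∀ m : M18, inE m = true → m ≠ 1 → psi 1 m = 1 → rr 0 1 = m ∨ rr 0 1 = m * m by
        decide +kernel) m hm hm1 hk with h | h <;> rw [← f.φ_y, h]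
      · exact hx
      · rw [map_mul]; exact (show Commute x _ from hx).mul_right hx |>.eq
    obtain ⟨v, hv, i, j, rfl⟩ := (f.cent_y x).1 hy
    exact ⟨v, hv, rr (i : ZMod 3) (j : ZMod 3), inE_rr _ _, by rw [f.φ_nat, mul_assoc]⟩
  comm m hm hk v hv := by
    obtain ⟨i, j, rfl⟩ := exists_rr m hm
    obtain rfl : i = 0 := (show ∀ i j, psi 1 (rr i j) = 1 → i = 0 by decide +kernel) i j hk
    rw [f.φ_rr, ZMod.val_zero, pow_zero, one_mul]
    exact ((show Commute v f.y from f.VY_comm hv).pow_right _).eq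
  fpf m hm hk v hv hc := by
    obtain ⟨i, j, rfl⟩ := exists_rr m hm
    have hi : i ≠ 0 := (show ∀ i j, psi 1 (rr i j) ≠ 1 → i ≠ 0 by decide +kernel) i j hk
    have hy : Commute v f.y := f.VY_comm hv
    rw [f.φ_rr] at hc
    have hdi : Commute v (f.d ^ i.val) := by
      have h := (show Commute v _ from hc).mul_right ((hy.pow_right j.val).inv_right)
      rwa [mul_inv_cancel_right] at h
    refine f.fpf_VY v hv ?_
    rcases (show ∀ j : ZMod 3, j ≠ 0 → j.val = 1 ∨ j.val = 2 by decide) i hi with h | h <;>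
      rw [h] at hdi
    · simpa using hdi.eq
    · have h' := hdi.mul_right hdi
      rw [← pow_add, show 2 + 2 = 3 + 1 from rfl, pow_succ, f.d_pow3, one_mul] at h'
      exact h'.eq

namespace Side

variable {f} (S : f.Side)

/-- The subgroup of order 72. -/
def nd : Subgroup X where
  carrier := {x | ∃ v ∈ S.V, ∃ m, x = v * f.φ m}
  one_mem' := ⟨1, one_mem _, 1, by rw [map_one, mul_one]⟩
  mul_mem' := by
    rintro _ _ ⟨v, hv, m, rfl⟩ ⟨w, hw, n, rfl⟩
    exact ⟨v * (f.φ m * w * (f.φ m)⁻¹), mul_mem hv (S.norm m w hw), m * n, by rw [map_mul]; group⟩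
  inv_mem' := by
    rintro _ ⟨v, hv, m, rfl⟩
    exact ⟨f.φ m⁻¹ * v⁻¹ * (f.φ m⁻¹)⁻¹, S.norm _ _ (inv_mem hv), m⁻¹, by rw [map_inv]; group⟩

theorem mem_nd {v : X} (hv : v ∈ S.V) (m : M18) : v * f.φ m ∈ S.nd := ⟨v, hv, m, rfl⟩

theorem V_le : S.V ≤ S.nd := fun v hv => ⟨v, hv, 1, by rw [map_one, mul_one]⟩

theorem φ_mem (m : M18) : f.φ m ∈ S.nd := ⟨1, one_mem _, m, by rw [one_mul]⟩

theorem eq_one_of_mem {m : M18} (h : f.φ m ∈ S.V) : m = 1 := by
  have h2 : m * m = 1 := f.φ_injective (by rw [map_mul, S.sq _ h, map_one])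
  by_contra hm
  obtain ⟨q, hq⟩ := (show ∀ m : M18, m * m = 1 → m ≠ 1 → ∃ q, q * ff 0 0 * q⁻¹ = m by
    decide +kernel) m h2 hm
  exact S.nconj _ h (isConj_iff.2 ⟨f.φ q, by rw [← f.φ_s, ← map_inv, ← map_mul, ← map_mul, hq]⟩)

theorem unique {v w : X} (hv : v ∈ S.V) (hw : w ∈ S.V) {m n : M18} (h : v * f.φ m = w * f.φ n) :
    v = w ∧ m = n := by
  have h1 : f.φ (m * n⁻¹) = v⁻¹ * w := by
    rw [map_mul, map_inv, show f.φ m = v⁻¹ * (w * f.φ n) by rw [← h, inv_mul_cancel_left]]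
    group
  have hmn : m = n := by
    have := S.eq_one_of_mem (h1 ▸ mul_mem (inv_mem hv) hw)
    exact mul_inv_eq_one.1 this
  subst hmn
  exact ⟨mul_right_cancel h, rfl⟩

theorem proj_exists (x : S.nd) : ∃ m, ∃ v ∈ S.V, (x : X) = v * f.φ m := by
  obtain ⟨v, hv, m, h⟩ := x.2
  exact ⟨m, v, hv, h⟩

/-- The projection, as a function. -/
noncomputable def projFun (x : S.nd) : M18 := (S.proj_exists x).choose

theorem projFun_eq {x : S.nd} {v : X} {m : M18} (hv : v ∈ S.V) (h : (x : X) = v * f.φ m) :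
    S.projFun x = m := by
  obtain ⟨w, hw, h'⟩ := (S.proj_exists x).choose_spec
  exact (S.unique hw hv (h'.symm.trans h)).2

/-- The projection onto `M18`. -/
noncomputable def proj : S.nd →* M18 where
  toFun := S.projFun
  map_one' := S.projFun_eq (one_mem _) (by simp)
  map_mul' := fun a b => by
    obtain ⟨v, hv, m, ha⟩ := a.2
    obtain ⟨w, hw, n, hb⟩ := b.2
    rw [S.projFun_eq hv ha, S.projFun_eq hw hb]
    refine S.projFun_eq (mul_mem hv (S.norm m w hw)) ?_
    rw [Subgroup.coe_mul, ha, hb, map_mul]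
    group

theorem proj_eq {x : S.nd} {v : X} {m : M18} (hv : v ∈ S.V) (h : (x : X) = v * f.φ m) :
    S.proj x = m := S.projFun_eq hv h

theorem exists_eq (x : S.nd) : ∃ v ∈ S.V, (x : X) = v * f.φ (S.proj x) := by
  obtain ⟨v, hv, m, h⟩ := x.2
  exact ⟨v, hv, by rw [S.proj_eq hv h]; exact h⟩

/-- Coordinates. -/
noncomputable def equivProd : S.V × M18 ≃ S.nd :=
  Equiv.ofBijective (fun p => ⟨(p.1 : X) * f.φ p.2, S.mem_nd p.1.2 p.2⟩)
    ⟨fun p q h => by
      obtain ⟨h1, h2⟩ := S.unique p.1.2 q.1.2 (congrArg Subtype.val h)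
      exact Prod.ext (Subtype.ext h1) h2,
    fun x => by
      obtain ⟨v, hv, m, h⟩ := x.2
      exact ⟨(⟨v, hv⟩, m), Subtype.ext h.symm⟩⟩

theorem card_nd : Nat.card S.nd = 4 * 18 := by
  rw [← Nat.card_congr S.equivProd, Nat.card_prod, S.card,
    Nat.card_eq_fintype_card (α := M18), show Fintype.card M18 = 18 by decide +kernel]

/-- Off the line every element of the coset is conjugate to the element of `M18`. -/
theorem exists_conj_off [Finite X] {m : M18} (hm : inE m = true) (hk : psi S.k m ≠ 1) {v : X}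
    (hv : v ∈ S.V) : ∃ w ∈ S.V, v * f.φ m = w * f.φ m * w⁻¹ := by
  let c : S.V → S.V := fun w =>
    ⟨(w : X) * (f.φ m * (w : X)⁻¹ * (f.φ m)⁻¹), mul_mem w.2 (S.norm m _ (inv_mem w.2))⟩
  have hinj : Function.Injective c := by
    intro a b h
    have h' : (a : X) * (f.φ m * (a : X)⁻¹ * (f.φ m)⁻¹) = b * (f.φ m * (b : X)⁻¹ * (f.φ m)⁻¹) :=
      congrArg Subtype.val h
    have h1 : (a : X) * f.φ m * (a : X)⁻¹ = b * f.φ m * (b : X)⁻¹ := by
      have := congrArg (· * f.φ m) h'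
      simpa [mul_assoc] using this
    have h2 : ((b : X)⁻¹ * a) * f.φ m = f.φ m * ((b : X)⁻¹ * a) := by
      calc ((b : X)⁻¹ * a) * f.φ m = (b : X)⁻¹ * ((a : X) * f.φ m * (a : X)⁻¹) * a := by group
        _ = f.φ m * ((b : X)⁻¹ * a) := by rw [h1]; group
    exact Subtype.ext (inv_mul_eq_one.1 (S.fpf m hm hk _ (mul_mem (inv_mem b.2) a.2) h2)).symm
  obtain ⟨w, hw⟩ := Finite.surjective_of_injective hinj ⟨v, hv⟩
  refine ⟨w, w.2, ?_⟩
  have h' : (w : X) * (f.φ m * (w : X)⁻¹ * (f.φ m)⁻¹) = v := congrArg Subtype.val hw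
  rw [← h']
  group

/-- The `3`-part of an element over the subgroup of order nine. -/
theorem exists_conj_pow [Finite X] {m : M18} (hm : inE m = true) {v : X} (hv : v ∈ S.V) :
    ∃ w ∈ S.V, (v * f.φ m) ^ 4 = w * f.φ m * w⁻¹ := by
  by_cases hk : psi S.k m = 1
  · refine ⟨1, one_mem _, ?_⟩
    rw [(show Commute v (f.φ m) from S.comm m hm hk v hv).mul_pow, ← map_pow, four_pow m hm,
      show 4 = 2 * 2 from rfl, pow_mul, pow_two v, S.sq v hv, one_pow, inv_one, mul_one]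
  · obtain ⟨w, hw, h⟩ := S.exists_conj_off hm hk hv
    exact ⟨w, hw, by rw [h, conj_pow, ← map_pow, four_pow m hm]⟩

/-- The normaliser of a cyclic subgroup off the other line. -/
theorem ctl {m : M18} (hm : inE m = true) (hm1 : m ≠ 1) (hk : psi S.k' m ≠ 1) {g : X}
    (h : g * f.φ m * g⁻¹ = f.φ m ∨ g * f.φ m * g⁻¹ = f.φ m⁻¹) : g ∈ S.nd := by
  have key : ∀ g : X, g * f.φ m * g⁻¹ = f.φ m → g ∈ S.nd := by
    intro g hg
    have hc : g * f.φ m = f.φ m * g := by
      conv_rhs => rw [← hg]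
      group
    by_cases hkm : psi S.k m = 1
    · obtain ⟨v, hv, n, -, rfl⟩ := S.cent m hm hm1 hkm g hc
      exact S.mem_nd hv n
    · have h0 : psi 0 m ≠ 1 ∧ psi 1 m ≠ 1 := by
        rcases S.kk with ⟨a, b⟩ | ⟨a, b⟩
        · exact ⟨a ▸ hkm, b ▸ hk⟩
        · exact ⟨b ▸ hk, a ▸ hkm⟩
      obtain ⟨n, -, rfl⟩ := f.diag_cent hm h0.1 h0.2 hc
      exact S.φ_mem n
  rcases h with h | h
  · exact key g h
  · have h2 := key (f.φ (ff 0 0) * g) (by
      rw [show f.φ (ff 0 0) * g * f.φ m * (f.φ (ff 0 0) * g)⁻¹ =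
          f.φ (ff 0 0) * (g * f.φ m * g⁻¹) * (f.φ (ff 0 0))⁻¹ by group, h, ← map_inv f.φ (ff 0 0),
        ← map_mul, ← map_mul, flip_inv _ (inE_inv m hm), inv_inv])
    exact (Subgroup.mul_mem_cancel_left _ (S.φ_mem _)).1 h2

variable [Fintype X]

/-- The inflated function. -/
noncomputable def a (k : Fin 4) : S.nd → ℂ := fun x => (fW k (S.proj x) : ℂ)

theorem a_gen (k : Fin 4) : Cfsg.IsGeneralizedCharacter S.nd (S.a k) :=
  isGen_comp ((psi k).comp S.proj) isGen_g0

theorem a_supp {k : Fin 4} {x : S.nd} (h : S.a k x ≠ 0) :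
    inE (S.proj x) = true ∧ S.proj x ≠ 1 ∧ psi k (S.proj x) ≠ 1 :=
  fW_supp k _ fun h0 => h (by simp [a, h0])

/-- Trivial intersection. -/
theorem ind_val {k : Fin 4} {v : X} (hv : v ∈ S.V) {m : M18} (hm : inE m = true) (hm1 : m ≠ 1)
    (hk : psi S.k' m ≠ 1) : Cfsg.indFun S.nd (S.a k) (v * f.φ m) = (fW k m : ℂ) := by
  have h := indFun_TI S.nd (S.a k) (isClassFunction_of_isGen (S.a_gen k))
    ⟨_, S.mem_nd hv m⟩ fun g y hy hg => by
      obtain ⟨hE, h1, -⟩ := S.a_supp hy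
      obtain ⟨w, hw, hy'⟩ := S.exists_eq y
      obtain ⟨u', hu', he'⟩ := S.exists_conj_pow hE hw
      obtain ⟨u, hu, he⟩ := S.exists_conj_pow hm hv
      have h4 : g * (v * f.φ m) ^ 4 * g⁻¹ = (w * f.φ (S.proj y)) ^ 4 := by
        rw [← hy', ← conj_pow, hg]
      rw [he, he'] at h4
      have hh : (u'⁻¹ * g * u) * f.φ m * (u'⁻¹ * g * u)⁻¹ = f.φ (S.proj y) := by
        calc (u'⁻¹ * g * u) * f.φ m * (u'⁻¹ * g * u)⁻¹
            = u'⁻¹ * (g * (u * f.φ m * u⁻¹) * g⁻¹) * u' := by group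
          _ = f.φ (S.proj y) := by rw [h4]; group
      have hmem : u'⁻¹ * g * u ∈ S.nd := S.ctl hm hm1 hk (by
        rcases f.fuse hm hE hm1 hh with e | e <;> rw [e] at hh
        · exact Or.inl hh
        · exact Or.inr hh)
      have := mul_mem (mul_mem (S.V_le hu') hmem) (inv_mem (S.V_le hu))
      rwa [show u' * (u'⁻¹ * g * u) * u⁻¹ = g by group] at this
  rw [h, a, S.proj_eq hv rfl]

end Side

/-- The group of order eighteen. -/
noncomputable def ne : Subgroup X := f.φ.range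

noncomputable def eNE : M18 ≃* f.ne := MonoidHom.ofInjective f.φ_injective

theorem eNE_val (m : M18) : ((f.eNE m : f.ne) : X) = f.φ m := rfl

theorem card_ne : Nat.card f.ne = 18 := by
  rw [← Nat.card_congr f.eNE.toEquiv, Nat.card_eq_fintype_card]
  decide +kernel

variable [Fintype X]

/-- The function on the group of order eighteen. -/
noncomputable def aE (k : Fin 4) : f.ne → ℂ := fun x => (fW k (f.eNE.symm x) : ℂ)

theorem aE_gen (k : Fin 4) : Cfsg.IsGeneralizedCharacter f.ne (f.aE k) :=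
  isGen_comp ((psi k).comp f.eNE.symm.toMonoidHom) isGen_g0

theorem ext_aE (k : Fin 4) (m : M18) :
    Cfsg.extendByZero f.ne (f.aE k) (f.φ m) = (fW k m : ℂ) := by
  rw [extendByZero_of_mem f.ne _ (⟨m, rfl⟩ : f.φ m ∈ f.ne), aE,
    show (⟨f.φ m, _⟩ : f.ne) = f.eNE m from rfl, MulEquiv.symm_apply_apply]

namespace Side

variable {f} (S : f.Side)

/-- Away from the line the two inductions agree. -/
theorem ind_eq (k : Fin 4) (x : X)
    (hx : ∀ (m : M18) (g : X), inE m = true → m ≠ 1 → psi S.k m = 1 →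
      g * x ^ 4 * g⁻¹ ≠ f.φ m) :
    Cfsg.indFun S.nd (S.a k) x = Cfsg.indFun f.ne (f.aE k) x := by
  classical
  haveI := Fintype.ofFinite S.V
  set b := Cfsg.extendByZero f.ne (f.aE k) with hb
  have key : ∀ g : X, Cfsg.extendByZero S.nd (S.a k) (g⁻¹ * x * g) =
      ∑ h : S.V, b ((h : X)⁻¹ * (g⁻¹ * x * g) * h) := by
    intro g
    set z := g⁻¹ * x * g with hz
    have hne : ∀ h : S.V, b ((h : X)⁻¹ * z * h) ≠ 0 → ∃ hzn : z ∈ S.nd,
        (h : X)⁻¹ * z * h = f.φ (S.proj ⟨z, hzn⟩) ∧ fW k (S.proj ⟨z, hzn⟩) ≠ 0 := by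
      intro h hh
      by_cases hmem : (h : X)⁻¹ * z * h ∈ f.ne
      · obtain ⟨n, hn⟩ := hmem
        have hz' : z = (h : X) * f.φ n * (h : X)⁻¹ := by rw [hn]; group
        have hzn : z ∈ S.nd := hz' ▸
          mul_mem (mul_mem (S.V_le h.2) (S.φ_mem n)) (inv_mem (S.V_le h.2))
        have hpn : S.proj ⟨z, hzn⟩ = n := by
          refine S.proj_eq (mul_mem h.2 (S.norm n _ (inv_mem h.2))) ?_
          show z = _
          rw [hz']; group
        refine ⟨hzn, by rw [hpn, hn], ?_⟩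
        rw [hpn]
        intro h0
        rw [← hn, hb, f.ext_aE, h0, Int.cast_zero] at hh
        exact hh rfl
      · exact absurd (extendByZero_of_not_mem f.ne _ hmem) hh
    by_cases hzn : z ∈ S.nd
    · rw [extendByZero_of_mem S.nd _ hzn]
      by_cases h0 : fW k (S.proj ⟨z, hzn⟩) = 0
      · rw [a, h0, Int.cast_zero, Finset.sum_eq_zero]
        intro h _
        by_contra hh
        obtain ⟨_, -, h'⟩ := hne h hh
        exact h' h0
      · obtain ⟨hE, h1, -⟩ := fW_supp k _ h0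
        obtain ⟨v, hv, hzv⟩ := S.exists_eq ⟨z, hzn⟩
        change z = _ at hzv
        have hoff : psi S.k (S.proj ⟨z, hzn⟩) ≠ 1 := fun hon => by
          obtain ⟨u, -, hu⟩ := S.exists_conj_pow hE hv
          refine hx _ (u⁻¹ * g⁻¹) hE h1 hon ?_
          rw [← hzv] at hu
          have hz4 : z ^ 4 = g⁻¹ * x ^ 4 * g := by
            rw [hz]; simpa using conj_pow (i := 4) (a := g⁻¹) (b := x)
          rw [hz4] at hu
          calc u⁻¹ * g⁻¹ * x ^ 4 * (u⁻¹ * g⁻¹)⁻¹ = u⁻¹ * (g⁻¹ * x ^ 4 * g) * u := by group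
            _ = _ := by rw [hu]; group
        obtain ⟨u, hu, hu'⟩ := S.exists_conj_off hE hoff hv
        rw [Finset.sum_eq_single ⟨u, hu⟩]
        · rw [a, show u⁻¹ * z * u = f.φ (S.proj ⟨z, hzn⟩) by
            conv_lhs => rw [hzv, hu']
            group, hb, f.ext_aE]
        · intro h _ hne'
          by_contra hh
          obtain ⟨_, he, -⟩ := hne h hh
          refine hne' (Subtype.ext ?_)
          have hc : ((h : X)⁻¹ * u) * f.φ (S.proj ⟨z, hzn⟩) =
              f.φ (S.proj ⟨z, hzn⟩) * ((h : X)⁻¹ * u) := by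
            conv_rhs => rw [← he, hzv, hu']
            group
          exact inv_mul_eq_one.1 (S.fpf _ hE hoff _ (mul_mem (inv_mem h.2) hu) hc)
        · exact fun h => absurd (Finset.mem_univ _) h
    · rw [extendByZero_of_not_mem S.nd _ hzn, Finset.sum_eq_zero]
      intro h _
      by_contra hh
      obtain ⟨hzn', -, -⟩ := hne h hh
      exact hzn hzn'
  simp only [Cfsg.indFun, key]
  rw [Finset.sum_comm]
  have hshift : ∀ h : S.V, ∑ g : X, b ((h : X)⁻¹ * (g⁻¹ * x * g) * h) =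
      ∑ g : X, b (g⁻¹ * x * g) := fun h =>
    Fintype.sum_equiv (Equiv.mulRight (h : X)) _ _ fun g => by
      simp [mul_inv_rev, mul_assoc]
  rw [Finset.sum_congr rfl fun h _ => hshift h, Finset.sum_const, Finset.card_univ,
    ← Nat.card_eq_fintype_card, S.card, S.card_nd, f.card_ne, nsmul_eq_mul]
  push_cast
  ring

end Side

/-- The generalised character of the line `k`. -/
noncomputable def Φ (k : Fin 4) : X → ℂ :=
  Cfsg.indFun f.sideD.nd (f.sideD.a k) + Cfsg.indFun f.sideY.nd (f.sideY.a k) -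
    Cfsg.indFun f.ne (f.aE k)

theorem Φ_gen (k : Fin 4) : Cfsg.IsGeneralizedCharacter X (f.Φ k) :=
  isGen_sub (isGen_add (isGen_indFun _ (f.sideD.a_gen k)) (isGen_indFun _ (f.sideY.a_gen k)))
    (isGen_indFun _ (f.aE_gen k))

theorem val_aux (S T : f.Side) (hST : T.k = S.k') (k : Fin 4) {v : X} (hv : v ∈ S.V) {m : M18}
    (hm : inE m = true) (hm1 : m ≠ 1) (hk : psi S.k' m ≠ 1) :
    Cfsg.indFun S.nd (S.a k) (v * f.φ m) + Cfsg.indFun T.nd (T.a k) (v * f.φ m) -
      Cfsg.indFun f.ne (f.aE k) (v * f.φ m) = (fW k m : ℂ) := by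
  rw [S.ind_val hv hm hm1 hk, T.ind_eq k _ ?_, add_sub_cancel_right]
  intro n g hn hn1 hkn hg
  obtain ⟨u, -, hu⟩ := S.exists_conj_pow hm hv
  rw [hu, show g * (u * f.φ m * u⁻¹) * g⁻¹ = (g * u) * f.φ m * (g * u)⁻¹ by group] at hg
  rw [hST] at hkn
  rcases f.fuse hm hn hm1 hg with rfl | rfl
  · exact hk hkn
  · exact hk (by simpa using conj_psi _ _ hkn)

/-- The values on the supports. -/
theorem Φ_val (k : Fin 4) (S : f.Side) (hS : S = f.sideD ∨ S = f.sideY) {v : X} (hv : v ∈ S.V)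
    {m : M18} (hm : inE m = true) (hm1 : m ≠ 1) : f.Φ k (v * f.φ m) = (fW k m : ℂ) := by
  have base : ∀ S : f.Side, (S = f.sideD ∨ S = f.sideY) → ∀ v ∈ S.V, psi S.k' m ≠ 1 →
      f.Φ k (v * f.φ m) = (fW k m : ℂ) := by
    rintro S (rfl | rfl) v hv hk
    · exact f.val_aux f.sideD f.sideY rfl k hv hm hm1 hk
    · have := f.val_aux f.sideY f.sideD rfl k hv hm hm1 hk
      rw [add_comm] at this
      exact this
  by_cases hk : psi S.k' m = 1
  · have hoff : psi S.k m ≠ 1 := fun h => hm1 ((show ∀ m : M18, inE m = true →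
      psi 0 m = 1 → psi 1 m = 1 → m = 1 by decide +kernel) m hm
        (by rcases S.kk with ⟨a, b⟩ | ⟨a, b⟩
            · exact a ▸ h
            · exact b ▸ hk)
        (by rcases S.kk with ⟨a, b⟩ | ⟨a, b⟩
            · exact b ▸ hk
            · exact a ▸ h))
    obtain ⟨w, -, hw⟩ := S.exists_conj_off hm hoff hv
    rw [hw, isClassFunction_of_isGen (f.Φ_gen k)]
    rcases hS with rfl | rfl
    · rw [← one_mul (f.φ m)]
      exact base f.sideY (Or.inr rfl) 1 (one_mem _) hoff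
    · rw [← one_mul (f.φ m)]
      exact base f.sideD (Or.inl rfl) 1 (one_mem _) hoff
  · exact base S hS v hv hk

theorem Φ_φ (k : Fin 4) {m : M18} (hm : inE m = true) (hm1 : m ≠ 1) :
    f.Φ k (f.φ m) = (fW k m : ℂ) := by
  simpa using f.Φ_val k f.sideD (Or.inl rfl) (one_mem _) hm hm1

/-- The values on elements without `3`-part. -/
theorem Φ_two (k : Fin 4) {x : X} (hx : x ^ 4 = 1) : f.Φ k x = 0 := by
  have hS : ∀ S : f.Side, Cfsg.indFun S.nd (S.a k) x = 0 := fun S =>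
    indFun_zero_of _ _ _ fun g y hy => by
      by_contra hne
      obtain ⟨hE, h1, -⟩ := S.a_supp hne
      refine h1 ?_
      have hy4 : y ^ 4 = 1 := Subtype.ext (by
        rw [Subgroup.coe_pow, ← hy, conj_pow, hx, mul_one, mul_inv_cancel, Subgroup.coe_one])
      rw [← four_pow _ hE, ← map_pow, hy4, map_one]
  have hE : Cfsg.indFun f.ne (f.aE k) x = 0 := indFun_zero_of _ _ _ fun g y hy => by
    by_contra hne
    obtain ⟨hE, h1, -⟩ := fW_supp k (f.eNE.symm y) fun h0 => hne (by simp [aE, h0])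
    refine h1 ?_
    have hy4 : y ^ 4 = 1 := Subtype.ext (by
      rw [Subgroup.coe_pow, ← hy, conj_pow, hx, mul_one, mul_inv_cancel, Subgroup.coe_one])
    rw [← four_pow _ hE, ← map_pow, hy4, map_one]
  simp [Φ, hS, hE]

/-- The inner products. -/
theorem inner_Φ (k : Fin 4) {θ : X → ℂ} (hθ : Cfsg.IsClassFunction X θ) (b : M18 → ℂ)
    (hb : ∀ S : f.Side, (S = f.sideD ∨ S = f.sideY) → ∀ v ∈ S.V, ∀ m, fW k m ≠ 0 →
      θ (v * f.φ m) = b m) :
    Cfsg.classInner (f.Φ k) θ = (18 : ℂ)⁻¹ * ∑ m, (fW k m : ℂ) * conj (b m) := by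
  classical
  have hS : ∀ S : f.Side, (S = f.sideD ∨ S = f.sideY) →
      Cfsg.classInner (Cfsg.indFun S.nd (S.a k)) θ =
        (18 : ℂ)⁻¹ * ∑ m, (fW k m : ℂ) * conj (b m) := by
    intro S hS
    haveI := Fintype.ofFinite S.nd
    haveI := Fintype.ofFinite S.V
    rw [inner_indFun S.nd (S.a k) hθ (fun y => b (S.proj y)) fun y hy => ?_, S.card_nd]
    · rw [← Fintype.sum_equiv S.equivProd (fun p => (fW k p.2 : ℂ) * conj (b p.2)) _ fun p => by
        rw [a_apply S k p],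
        Fintype.sum_prod_type]
      simp only
      rw [Finset.sum_const, Finset.card_univ, ← Nat.card_eq_fintype_card, S.card,
        nsmul_eq_mul]
      push_cast
      ring
    · obtain ⟨v, hv, h⟩ := S.exists_eq y
      rw [h]
      exact hb S hS v hv _ fun h0 => hy (by simp [Side.a, h0])
  have hE : Cfsg.classInner (Cfsg.indFun f.ne (f.aE k)) θ =
      (18 : ℂ)⁻¹ * ∑ m, (fW k m : ℂ) * conj (b m) := by
    haveI := Fintype.ofFinite f.ne
    rw [inner_indFun f.ne (f.aE k) hθ (fun y => b (f.eNE.symm y)) fun y hy => ?_, f.card_ne]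
    · norm_num
      exact (Fintype.sum_equiv f.eNE.toEquiv _ _ fun m => by simp [aE]).symm
    · have h := hb f.sideD (Or.inl rfl) 1 (one_mem _) (f.eNE.symm y) fun h0 => hy (by simp [aE, h0])
      rwa [one_mul, ← f.eNE_val, MulEquiv.apply_symm_apply] at h
  rw [Φ, classInner_sub_left, classInner_add_left, hS _ (Or.inl rfl), hS _ (Or.inr rfl), hE]
  ring
where
  a_apply (S : f.Side) (k : Fin 4) (p : S.V × M18) :
      S.a k (S.equivProd p) * conj (b (S.proj (S.equivProd p))) = (fW k p.2 : ℂ) * conj (b p.2) := by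
    have : S.proj (S.equivProd p) = p.2 := S.proj_eq p.1.2 rfl
    rw [Side.a, this]

theorem inner_int (k : Fin 4) {θ : X → ℂ} (hθ : Cfsg.IsClassFunction X θ) (b : M18 → ℤ)
    (hb : ∀ S : f.Side, (S = f.sideD ∨ S = f.sideY) → ∀ v ∈ S.V, ∀ m, fW k m ≠ 0 →
      θ (v * f.φ m) = (b m : ℂ)) (z : ℤ) (hz : ∑ m, fW k m * b m = 18 * z) :
    Cfsg.classInner (f.Φ k) θ = z := by
  rw [f.inner_Φ k hθ (fun m => (b m : ℂ)) hb]
  simp only [map_intCast, ← Int.cast_mul, ← Int.cast_sum, hz]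
  push_cast
  ring

theorem sums : ∀ k l : Fin 4, (∑ m : M18, fW k m * fW l m = 18 * if k = l then 3 else 2) ∧
    ∑ m : M18, fW k m * 1 = 18 * 1 := by decide +kernel

theorem ΦΦ (k l : Fin 4) : Cfsg.classInner (f.Φ k) (f.Φ l) = if k = l then 3 else 2 := by
  rw [f.inner_int k (isClassFunction_of_isGen (f.Φ_gen l)) (fW l) (fun S hS v hv m hm =>
    f.Φ_val l S hS hv (fW_supp k m hm).1 (fW_supp k m hm).2.1) _ (sums k l).1]
  split_ifs <;> norm_num

theorem Φ_one (k : Fin 4) : Cfsg.classInner (f.Φ k) (fun _ => 1) = 1 := by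
  rw [f.inner_int k (isClassFunction_of_isGen isGen_one) (fun _ => 1) (fun S _ v _ m _ => by simp) 1
    (sums k 0).2, Int.cast_one]

end XFrame

end CfsgLib.G2Amalgam
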